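-- helper35: a group acting fixed-point-freely on a nontrivial normal subgroup: abelian subgroups and
-- subgroups of order pq are cyclic (general `K`, via an invariant Sylow subgroup and S0041).
import Cfsg.Agent.S0041
import Cfsg.Agent.S0023
import Mathlib.GroupTheory.Perm.Cycle.Type

set_option autoImplicit false

namespace Cfsg.Agent.Lib.Helper35

variable {G : Type*} [Group G]

/-- an element of prime order acting fixed-point-freely on a finite normal subgroup `K`:
the prime does not divide `|K|` -/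
lemma not_dvd_card_of_fpf [Finite G] (K : Subgroup G) [K.Normal] {b : G} {q : ℕ} (hq : q.Prime)
    (hbq : b ^ q = 1) (hfpf : K ⊓ Subgroup.centralizer {b} = ⊥) : ¬ q ∣ Nat.card K := by
  classical
  intro hdvd
  have := Fact.mk hq
  have : Fintype K := Fintype.ofFinite K
  rw [Nat.card_eq_fintype_card] at hdvd
  have hσ : (MulAut.toPerm K (MulAut.conjNormal b)) ^ q ^ 1 = 1 := by
    rw [pow_one, ← map_pow, ← map_pow, hbq, map_one, map_one]
  have h1 : (MulAut.toPerm K (MulAut.conjNormal b)) (1 : K) = 1 := by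
    show (MulAut.conjNormal b) (1 : K) = 1
    exact map_one _
  obtain ⟨k, hk, hk1⟩ := Equiv.Perm.exists_fixed_point_of_prime' hdvd hσ h1
  apply hk1
  have hk' : (MulAut.conjNormal b) k = k := hk
  have hkG : b * (k : G) * b⁻¹ = (k : G) := by
    have := congrArg Subtype.val hk'
    rwa [MulAut.conjNormal_apply] at this
  have hmem : (k : G) ∈ K ⊓ Subgroup.centralizer {b} := by
    rw [Subgroup.mem_inf, Subgroup.mem_centralizer_singleton_iff]
    refine ⟨k.2, ?_⟩
    calc (k : G) * b = (b * (k : G) * b⁻¹) * b := by rw [hkG]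
      _ = b * (k : G) := by group
  rw [hfpf, Subgroup.mem_bot] at hmem
  exact Subtype.ext hmem

/-- fixed-point-free action forces coprime orders -/
lemma coprime_of_fpf [Finite G] (K B : Subgroup G) [K.Normal]
    (hfpf : ∀ b ∈ B, b ≠ 1 → K ⊓ Subgroup.centralizer {b} = ⊥) :
    (Nat.card B).Coprime (Nat.card K) := by
  apply Nat.coprime_of_dvd
  intro q hq hqB
  have := Fact.mk hq
  obtain ⟨b, hb⟩ := exists_prime_orderOf_dvd_card' q hqB
  have hb1 : (b : G) ≠ 1 := by
    intro h
    have : b = 1 := Subtype.ext h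
    rw [this, orderOf_one] at hb
    exact hq.one_lt.ne hb
  have hbq : (b : G) ^ q = 1 := by
    have := pow_orderOf_eq_one b
    rw [hb] at this
    exact_mod_cast congrArg Subtype.val this
  exact not_dvd_card_of_fpf K hq hbq (hfpf b b.2 hb1)

/-- the "centre" `S ⊓ C_G(S)` of a subgroup is normalized by the normalizer of `S` -/
lemma normalizer_le_normalizer_inf_centralizer (S : Subgroup G) :
    Subgroup.normalizer (S : Set G) ≤
      Subgroup.normalizer ((S ⊓ Subgroup.centralizer (S : Set G) : Subgroup G) : Set G) := by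
  have key : ∀ b ∈ Subgroup.normalizer (S : Set G), ∀ x ∈ S ⊓ Subgroup.centralizer (S : Set G),
      b * x * b⁻¹ ∈ S ⊓ Subgroup.centralizer (S : Set G) := by
    intro b hb x hx
    rw [Subgroup.mem_inf] at hx ⊢
    rw [Subgroup.mem_normalizer_iff] at hb
    refine ⟨(hb x).mp hx.1, ?_⟩
    rw [Subgroup.mem_centralizer_iff]
    intro y hy
    have hy' : b⁻¹ * y * b ∈ S := by
      have h := (hb (b⁻¹ * y * b))
      have e : b * (b⁻¹ * y * b) * b⁻¹ = y := by group
      rw [e] at h
      exact h.mpr hy
    have hc := (Subgroup.mem_centralizer_iff.mp hx.2) _ hy'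
    calc y * (b * x * b⁻¹) = b * ((b⁻¹ * y * b) * x) * b⁻¹ := by group
      _ = b * (x * (b⁻¹ * y * b)) * b⁻¹ := by rw [hc]
      _ = b * x * b⁻¹ * y := by group
  intro b hb
  rw [Subgroup.mem_normalizer_iff]
  intro x
  constructor
  · exact key b hb x
  · intro hx
    have := key b⁻¹ (Subgroup.inv_mem _ hb) _ hx
    convert this using 1
    group

/-- **Lemma X**: a solvable subgroup `B` acting fixed-point-freely (by conjugation) on a nontrivial
normal subgroup `K` of a finite group, which is commutative or of order `p * q`, is cyclic. -/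
theorem isCyclic_of_fpf [Finite G] (K B : Subgroup G) [K.Normal] (hK : K ≠ ⊥)
    (hfpf : ∀ b ∈ B, b ≠ 1 → K ⊓ Subgroup.centralizer {b} = ⊥) (hsolv : Group.IsSolvable B)
    (hB : IsMulCommutative B ∨ ∃ p q : ℕ, p.Prime ∧ q.Prime ∧ Nat.card B = p * q) :
    IsCyclic B := by
  have hKnt : Nontrivial K := (Subgroup.nontrivial_iff_ne_bot K).mpr hK
  have hKcard : Nat.card K ≠ 1 := by
    have : 1 < Nat.card K := Finite.one_lt_card
    omega
  obtain ⟨r, hr, hrK⟩ := Nat.exists_prime_and_dvd hKcard
  have := Fact.mk hr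
  have hBK : B ≤ Subgroup.normalizer (K : Set G) := by
    rw [Subgroup.normalizer_eq_top]; exact le_top
  obtain ⟨R, hR⟩ := Cfsg.Agent.S0023.result B K hBK (coprime_of_fpf K B hfpf) (Or.inl hsolv) r
  have hRbot : (R : Subgroup K) ≠ ⊥ := R.ne_bot_of_dvd_card hrK
  have hRp : IsPGroup r (R : Subgroup K) := R.isPGroup'
  have hRnt : Nontrivial (R : Subgroup K) := (Subgroup.nontrivial_iff_ne_bot _).mpr hRbot
  have hcnt : Nontrivial (Subgroup.center (R : Subgroup K)) := hRp.center_nontrivial
  obtain ⟨z, hz1⟩ := exists_ne (1 : Subgroup.center (R : Subgroup K))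
  set R' : Subgroup G := (R : Subgroup K).map K.subtype with hR'
  have hR'K : R' ≤ K := Subgroup.map_subtype_le _
  have hzR' : (((z : (R : Subgroup K)) : K) : G) ∈ R' :=
    Subgroup.mem_map.mpr ⟨((z : (R : Subgroup K)) : K), (z : (R : Subgroup K)).2, rfl⟩
  have hzc : (((z : (R : Subgroup K)) : K) : G) ∈ Subgroup.centralizer (R' : Set G) := by
    rw [Subgroup.mem_centralizer_iff]
    intro y hy
    obtain ⟨y', hy', rfl⟩ := Subgroup.mem_map.mp hy
    have h := (Subgroup.mem_center_iff.mp z.2) ⟨y', hy'⟩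
    have h2 := congrArg (fun w : (R : Subgroup K) => ((w : K) : G)) h
    simpa using h2
  have hzG : (((z : (R : Subgroup K)) : K) : G) ≠ 1 := by
    intro h
    apply hz1
    apply Subtype.ext
    apply Subtype.ext
    apply Subtype.ext
    exact h
  set V : Subgroup G := R' ⊓ Subgroup.centralizer (R' : Set G) with hV
  have hVbot : V ≠ ⊥ := by
    intro h
    have : (((z : (R : Subgroup K)) : K) : G) ∈ V := Subgroup.mem_inf.mpr ⟨hzR', hzc⟩
    rw [h, Subgroup.mem_bot] at this
    exact hzG this
  have hVcomm : IsMulCommutative V := by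
    refine ⟨⟨fun a b => ?_⟩⟩
    apply Subtype.ext
    have ha := (Subgroup.mem_inf.mp a.2).2
    have hb := (Subgroup.mem_inf.mp b.2).1
    exact ((Subgroup.mem_centralizer_iff.mp ha) _ hb).symm
  have hBV : B ≤ Subgroup.normalizer (V : Set G) :=
    hR.trans (normalizer_le_normalizer_inf_centralizer R')
  have hfpfV : ∀ b ∈ B, b ≠ 1 → V ⊓ Subgroup.centralizer {b} = ⊥ := by
    intro b hb hb1
    rw [eq_bot_iff, ← hfpf b hb hb1]
    exact inf_le_inf_right _ (inf_le_left.trans hR'K)
  exact Cfsg.Agent.S0041.result B V hVbot hBV hfpfV hB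

/-- in a finite cyclic group, a subgroup is determined by its order -/
lemma subgroup_eq_of_card_eq_of_isCyclic {B : Type*} [Group B] [Finite B] [IsCyclic B]
    (C₁ C₂ : Subgroup B) (h : Nat.card C₁ = Nat.card C₂) : C₁ = C₂ := by
  classical
  have : Fintype B := Fintype.ofFinite B
  have key : ∀ C : Subgroup B, (C : Set B) = {a : B | a ^ Nat.card C = 1} := by
    intro C
    have hpos : 0 < Nat.card C := Nat.card_pos
    apply Set.eq_of_subset_of_ncard_le
    · intro x hx
      have := pow_card_eq_one' (G := C) (x := ⟨x, hx⟩)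
      exact congrArg Subtype.val this
    · have h1 : ({a : B | a ^ Nat.card C = 1} : Set B).ncard ≤ Nat.card C := by
        rw [Set.ncard_eq_toFinset_card', Set.toFinset_ofPred]
        exact IsCyclic.card_pow_eq_one_le hpos
      have h2 : (C : Set B).ncard = Nat.card C := (Nat.card_coe_set_eq (C : Set B)).symm
      rw [h2]
      exact h1
    · exact Set.toFinite _
  apply SetLike.coe_injective
  rw [key C₁, key C₂, h]

/-- two subgroups of the same order inside a cyclic subgroup are equal -/
lemma eq_of_card_eq_of_le_isCyclic [Finite G] {B C₁ C₂ : Subgroup G} (hB : IsCyclic B)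
    (h1 : C₁ ≤ B) (h2 : C₂ ≤ B) (hc : Nat.card C₁ = Nat.card C₂) : C₁ = C₂ := by
  have e1 : Nat.card (C₁.subgroupOf B) = Nat.card C₁ :=
    Nat.card_congr (Subgroup.subgroupOfEquivOfLe h1).toEquiv
  have e2 : Nat.card (C₂.subgroupOf B) = Nat.card C₂ :=
    Nat.card_congr (Subgroup.subgroupOfEquivOfLe h2).toEquiv
  have := subgroup_eq_of_card_eq_of_isCyclic (C₁.subgroupOf B) (C₂.subgroupOf B)
    (by rw [e1, e2, hc])
  rw [Subgroup.subgroupOf_inj] at this
  rwa [inf_eq_left.mpr h1, inf_eq_left.mpr h2] at this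

end Cfsg.Agent.Lib.Helper35
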