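-- helper35: p-subgroups of a group acting fixed-point-freely on a nontrivial normal subgroup have at most
-- one subgroup of order p (so, by S0016, they are cyclic or generalized quaternion).
import Cfsg.Agent.Lib.Helper35.FpfCyclic

set_option autoImplicit false

namespace Cfsg.Agent.Lib.Helper35

variable {G : Type*} [Group G]

/-- commuting generators give a commutative closure (as `IsMulCommutative`) -/
lemma isMulCommutative_closure_pair {x y : G} (hxy : x * y = y * x) :
    IsMulCommutative (Subgroup.closure ({x, y} : Set G)) := by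
  have hcomm : ∀ a ∈ ({x, y} : Set G), ∀ b ∈ ({x, y} : Set G), a * b = b * a := by
    intro a ha b hb
    rcases ha with rfl | rfl <;> rcases hb with rfl | rfl
    · rfl
    · exact hxy
    · exact hxy.symm
    · rfl
  exact Subgroup.isMulCommutative_closure hcomm

/-- If `H` acts fixed-point-freely on the nontrivial normal subgroup `K`, a `p`-subgroup `P` of `H`
has at most one subgroup of order `p`. -/
theorem unique_subgroup_of_order_p_of_fpf [Finite G] (K H : Subgroup G) [K.Normal] (hK : K ≠ ⊥)
    (hfpf : ∀ h ∈ H, h ≠ 1 → K ⊓ Subgroup.centralizer {h} = ⊥)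
    (p : ℕ) [hp : Fact p.Prime] (P : Subgroup H) (hP : IsPGroup p P)
    (C₁ C₂ : Subgroup P) (h1 : Nat.card C₁ = p) (h2 : Nat.card C₂ = p) : C₁ = C₂ := by
  set ι : P →* G := H.subtype.comp P.subtype with hι
  have hinj : Function.Injective ι :=
    (Subgroup.subtype_injective H).comp (Subgroup.subtype_injective P)
  have hιH : ∀ x : P, ι x ∈ H := fun x => (x : H).2
  -- P is nontrivial
  have hPnt : Nontrivial P := by
    have : 1 < Nat.card C₁ := h1 ▸ hp.out.one_lt
    have : Nontrivial C₁ := Finite.one_lt_card_iff_nontrivial.mp this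
    obtain ⟨c, hc⟩ := exists_ne (1 : C₁)
    exact ⟨⟨(c : P), 1, fun h => hc (Subtype.ext h)⟩⟩
  have hcnt : Nontrivial (Subgroup.center P) := hP.center_nontrivial
  have hpc : p ∣ Nat.card (Subgroup.center P) := by
    obtain ⟨n, hn0, hn⟩ := (hP.to_subgroup (Subgroup.center P)).nontrivial_iff_card.mp hcnt
    rw [hn]
    exact dvd_pow_self p (Nat.pos_iff_ne_zero.mp hn0)
  obtain ⟨z, hz⟩ := exists_prime_orderOf_dvd_card' p hpc
  have hzord : orderOf (ι (z : P)) = p := by
    rw [orderOf_injective ι hinj, Subgroup.orderOf_coe, hz]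
  suffices key : ∀ C : Subgroup P, Nat.card C = p → C.map ι = Subgroup.zpowers (ι (z : P)) by
    apply Subgroup.map_injective hinj
    rw [key C₁ h1, key C₂ h2]
  intro C hC
  have hCnt : Nontrivial C := by
    apply Finite.one_lt_card_iff_nontrivial.mp
    rw [hC]; exact hp.out.one_lt
  obtain ⟨c, hc⟩ := exists_ne (1 : C)
  have hc1 : (c : P) ≠ 1 := fun h => hc (Subtype.ext h)
  have hcord : orderOf (c : P) = p := by
    have hd : orderOf (c : P) ∣ p := hC ▸ Subgroup.orderOf_dvd_natCard C c.2
    rcases (Nat.dvd_prime hp.out).mp hd with h | h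
    · exact absurd (orderOf_eq_one_iff.mp h) hc1
    · exact h
  have hCeq : Subgroup.zpowers (c : P) = C := by
    apply Subgroup.eq_of_le_of_card_ge
    · rw [Subgroup.zpowers_le]; exact c.2
    · rw [Nat.card_zpowers, hcord, hC]
  have hcGord : orderOf (ι (c : P)) = p := by
    rw [orderOf_injective ι hinj, hcord]
  -- the commutative subgroup generated by the two
  have hcomm : ι (z : P) * ι (c : P) = ι (c : P) * ι (z : P) := by
    rw [← map_mul, ← map_mul]
    congr 1
    exact ((Subgroup.mem_center_iff.mp z.2) (c : P)).symm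
  set B : Subgroup G := Subgroup.closure ({ι (z : P), ι (c : P)} : Set G) with hB
  have hBcomm : IsMulCommutative B := isMulCommutative_closure_pair hcomm
  have hBH : B ≤ H := by
    rw [hB, Subgroup.closure_le]
    intro x hx
    rcases hx with rfl | rfl
    · exact hιH _
    · exact hιH _
  have hBsolv : Group.IsSolvable B := by
    have : ∀ a b : B, a * b = b * a := fun a b => hBcomm.is_comm.comm a b
    exact Group.isSolvable_of_comm this
  have hBcyc : IsCyclic B :=
    isCyclic_of_fpf K B hK (fun b hb hb1 => hfpf b (hBH hb) hb1) hBsolv (Or.inl hBcomm)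
  have hzB : Subgroup.zpowers (ι (z : P)) ≤ B := by
    rw [Subgroup.zpowers_le]
    exact Subgroup.subset_closure (Set.mem_insert _ _)
  have hcB : Subgroup.zpowers (ι (c : P)) ≤ B := by
    rw [Subgroup.zpowers_le]
    exact Subgroup.subset_closure (Set.mem_insert_of_mem _ rfl)
  have heq := eq_of_card_eq_of_le_isCyclic hBcyc hcB hzB
    (by rw [Nat.card_zpowers, Nat.card_zpowers, hcGord, hzord])
  rw [← hCeq, MonoidHom.map_zpowers, heq]

end Cfsg.Agent.Lib.Helper35
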