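-- helper35: recognition of Mathlib's (generalized) quaternion / dicyclic group from its presentation.
import Mathlib.GroupTheory.SpecificGroups.Quaternion
import Mathlib.GroupTheory.OrderOfElement

set_option autoImplicit false

namespace Cfsg.Agent.Lib.Helper35

/-- A group with elements `α` of order `2n`, `β ∉ ⟨α⟩` with `β² = αⁿ`, `β α β⁻¹ = α⁻¹` and
`G = ⟨α⟩ ∪ β⟨α⟩` is isomorphic to Mathlib's `QuaternionGroup n` (of order `4n`). -/
theorem nonempty_mulEquiv_quaternionGroup {G : Type*} [Group G] (n : ℕ) [NeZero n] (α β : G)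
    (hα : orderOf α = 2 * n) (hβ2 : β * β = α ^ n) (hconj : β * α * β⁻¹ = α⁻¹)
    (hβ : β ∉ Subgroup.zpowers α)
    (hall : ∀ y : G, y ∈ Subgroup.zpowers α ∨ β⁻¹ * y ∈ Subgroup.zpowers α) :
    Nonempty (G ≃* QuaternionGroup n) := by
  have hn0 : n ≠ 0 := NeZero.ne n
  have hN : NeZero (2 * n) := ⟨by omega⟩
  have hfin : IsOfFinOrder α := by
    rw [← orderOf_pos_iff, hα]; omega
  have hpowmod : ∀ m : ℕ, α ^ (m % (2 * n)) = α ^ m := by
    intro m
    have := pow_mod_orderOf α m
    rwa [hα] at this
  set g : ZMod (2 * n) → G := fun i => α ^ i.val with hg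
  have g_add : ∀ i j, g (i + j) = g i * g j := by
    intro i j
    simp only [hg]
    rw [ZMod.val_add, hpowmod, pow_add]
  have g_zero : g 0 = 1 := by simp [hg]
  have g_neg : ∀ i, g (-i) = (g i)⁻¹ := by
    intro i
    rw [eq_inv_iff_mul_eq_one, ← g_add, neg_add_cancel, g_zero]
  have g_n : g (n : ZMod (2 * n)) = α ^ n := by
    simp only [hg]
    rw [ZMod.val_natCast, hpowmod]
  have g_comm : ∀ i j, g i * g j = g j * g i := by
    intro i j; rw [← g_add, ← g_add, add_comm]
  have g_mem : ∀ i, g i ∈ Subgroup.zpowers α := fun i => Subgroup.npow_mem_zpowers α _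
  have g_inj : Function.Injective g := by
    intro i j hij
    apply ZMod.val_injective
    apply pow_injOn_Iio_orderOf (x := α)
    · rw [Set.mem_Iio, hα]; exact ZMod.val_lt i
    · rw [Set.mem_Iio, hα]; exact ZMod.val_lt j
    · exact hij
  have g_surj : ∀ y ∈ Subgroup.zpowers α, ∃ i, g i = y := by
    intro y hy
    rw [← hfin.mem_powers_iff_mem_zpowers] at hy
    obtain ⟨m, rfl⟩ := hy
    refine ⟨(m : ZMod (2 * n)), ?_⟩
    simp only [hg]
    rw [ZMod.val_natCast, hpowmod]
  have conj_g : ∀ i, β * g i * β⁻¹ = (g i)⁻¹ := by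
    intro i
    simp only [hg]
    rw [← conj_pow, hconj, inv_pow]
  have g_beta : ∀ i, g i * β = β * g (-i) := by
    intro i
    have h := conj_g (-i)
    rw [g_neg, inv_inv] at h
    calc g i * β = (β * (g i)⁻¹ * β⁻¹) * β := by rw [h]
      _ = β * (g i)⁻¹ := by group
      _ = β * g (-i) := by rw [g_neg]
  let f : QuaternionGroup n → G := fun q =>
    match q with
    | QuaternionGroup.a i => g i
    | QuaternionGroup.xa i => β * g i
  have f_mul : ∀ q r, f (q * r) = f q * f r := by
    rintro (i | i) (j | j)
    · show g (i + j) = g i * g j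
      exact g_add i j
    · show β * g (j - i) = g i * (β * g j)
      rw [← mul_assoc, g_beta, mul_assoc, ← g_add, neg_add_eq_sub]
    · show β * g (i + j) = β * g i * g j
      rw [g_add, mul_assoc]
    · show g ((n : ZMod (2 * n)) + j - i) = β * g i * (β * g j)
      have e : β * g i * (β * g j) = (β * β) * (g (-i) * g j) := by
        calc β * g i * (β * g j) = β * (g i * β) * g j := by group
          _ = β * (β * g (-i)) * g j := by rw [g_beta]
          _ = (β * β) * (g (-i) * g j) := by group
      rw [e, hβ2, ← g_n, ← g_add, ← g_add]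
      congr 1
      ring
  have f_inj : Function.Injective f := by
    rintro (i | i) (j | j) h
    · exact congrArg QuaternionGroup.a (g_inj h)
    · exfalso
      have h' : g i = β * g j := h
      apply hβ
      have : β = g i * g (-j) := by
        rw [h', g_neg]; group
      rw [this, ← g_add]
      exact g_mem _
    · exfalso
      have h' : β * g i = g j := h
      apply hβ
      have : β = g j * g (-i) := by
        rw [← h', g_neg]; group
      rw [this, ← g_add]
      exact g_mem _
    · have h' : β * g i = β * g j := h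
      exact congrArg QuaternionGroup.xa (g_inj (mul_left_cancel h'))
  have f_surj : Function.Surjective f := by
    intro y
    rcases hall y with hy | hy
    · obtain ⟨i, hi⟩ := g_surj y hy
      exact ⟨QuaternionGroup.a i, hi⟩
    · obtain ⟨i, hi⟩ := g_surj _ hy
      refine ⟨QuaternionGroup.xa i, ?_⟩
      show β * g i = y
      rw [hi]; group
  exact ⟨(MulEquiv.ofBijective (MonoidHom.mk' f f_mul) ⟨f_inj, f_surj⟩).symm⟩

end Cfsg.Agent.Lib.Helper35
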