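-- helper35: shared lemmas on Frobenius complements (Cfsg.IsFrobeniusComplement, Cfsg.frobeniusKernel).
import Cfsg.Agent.S0034

set_option autoImplicit false

namespace Cfsg.Agent.Lib.Helper35

open scoped Pointwise
open Cfsg

variable {G : Type*} [Group G]

lemma mem_conj_smul_iff {H : Subgroup G} {g x : G} :
    x ∈ MulAut.conj g • H ↔ g⁻¹ * x * g ∈ H := Cfsg.Agent.S0034.mem_conj_smul_iff

/-- the trivial-intersection property of a Frobenius complement -/
lemma ti {H : Subgroup G} (hH : IsFrobeniusComplement H) {g g' x : G} (hx : x ≠ 1)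
    (h1 : x ∈ MulAut.conj g • H) (h2 : x ∈ MulAut.conj g' • H) : g⁻¹ * g' ∈ H :=
  Cfsg.Agent.S0034.ti hH hx h1 h2

lemma mem_frobeniusKernel_iff {H : Subgroup G} {x : G} :
    x ∈ frobeniusKernel H ↔ x = 1 ∨ ∀ g : G, x ∉ MulAut.conj g • H := Iff.rfl

/-- the intersection of `L` with a conjugate of a Frobenius complement is a Frobenius complement
of `L`, unless it is trivial or everything -/
lemma isFrobeniusComplement_subgroupOf {H L : Subgroup G} (hH : IsFrobeniusComplement H) (g : G)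
    (hbot : L ⊓ MulAut.conj g • H ≠ ⊥) (hne : ¬ L ≤ MulAut.conj g • H) :
    IsFrobeniusComplement ((L ⊓ MulAut.conj g • H).subgroupOf L) := by
  refine ⟨?_, ?_, ?_⟩
  · intro h
    rw [Subgroup.subgroupOf_eq_bot] at h
    apply hbot
    have := h.eq_bot
    rwa [inf_eq_left.mpr (inf_le_left : L ⊓ MulAut.conj g • H ≤ L)] at this
  · intro h
    rw [Subgroup.subgroupOf_eq_top] at h
    exact hne (h.trans inf_le_right)
  · intro y hy
    rw [eq_bot_iff]
    intro z hz
    rw [Subgroup.mem_inf] at hz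
    obtain ⟨hz1, hz2⟩ := hz
    rw [Subgroup.mem_bot]
    by_contra hz0
    apply hy
    rw [Subgroup.mem_subgroupOf, Subgroup.mem_inf] at hz1 ⊢
    refine ⟨y.2, ?_⟩
    rw [mem_conj_smul_iff, Subgroup.mem_subgroupOf, Subgroup.mem_inf] at hz2
    have hzG : (z : G) ≠ 1 := fun h => hz0 (Subtype.ext h)
    have h1 : (z : G) ∈ MulAut.conj g • H := hz1.2
    have h2 : (z : G) ∈ MulAut.conj ((y : G) * g) • H := by
      have := hz2.2
      rw [mem_conj_smul_iff] at this ⊢
      convert this using 1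
      simp only [Subgroup.coe_mul, Subgroup.coe_inv]
      group
    have h3 := ti hH hzG h1 h2
    rw [mem_conj_smul_iff]
    convert h3 using 1
    group

/-- Two Frobenius complements of a finite group: some non-identity element lies in a conjugate of
each. (Counting with S0034.) -/
lemma exists_mem_conj_both [Finite G] {D₁ D₂ : Subgroup G} (h₁ : IsFrobeniusComplement D₁)
    (h₂ : IsFrobeniusComplement D₂) :
    ∃ y : G, y ∉ frobeniusKernel D₁ ∧ y ∉ frobeniusKernel D₂ := by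
  by_contra hcon
  push Not at hcon
  have hcov : frobeniusKernel D₁ ∪ frobeniusKernel D₂ = Set.univ := by
    ext y
    simp only [Set.mem_union, Set.mem_univ, iff_true]
    by_cases h : y ∈ frobeniusKernel D₁
    · exact Or.inl h
    · exact Or.inr (hcon y h)
  have hc1 := (Cfsg.Agent.S0034.result D₁ h₁).1
  have hc2 := (Cfsg.Agent.S0034.result D₂ h₂).1
  have hone : (1 : G) ∈ frobeniusKernel D₁ ∩ frobeniusKernel D₂ := ⟨Or.inl rfl, Or.inl rfl⟩
  have hinter : 1 ≤ (frobeniusKernel D₁ ∩ frobeniusKernel D₂).ncard := by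
    rw [Nat.succ_le_iff, Set.ncard_pos]
    exact ⟨1, hone⟩
  have hsum := Set.ncard_union_add_ncard_inter (frobeniusKernel D₁) (frobeniusKernel D₂)
  have e1 : (frobeniusKernel D₁).ncard = D₁.index := by
    rw [← Nat.card_coe_set_eq]; exact hc1
  have e2 : (frobeniusKernel D₂).ncard = D₂.index := by
    rw [← Nat.card_coe_set_eq]; exact hc2
  rw [hcov, Set.ncard_univ, e1, e2] at hsum
  -- 2 * index ≤ |G|
  have hidx : ∀ D : Subgroup G, D ≠ ⊥ → 2 * D.index ≤ Nat.card G := by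
    intro D hD
    have h1 := D.card_mul_index
    have h2 : 2 ≤ Nat.card D := by
      have : Nontrivial D := (Subgroup.nontrivial_iff_ne_bot D).mpr hD
      exact Finite.one_lt_card
    calc 2 * D.index ≤ Nat.card D * D.index := Nat.mul_le_mul_right _ h2
      _ = Nat.card G := h1
  have i1 := hidx D₁ h₁.1
  have i2 := hidx D₂ h₂.1
  omega

/-- A subgroup all of whose non-identity elements lie in conjugates of a Frobenius complement `H`
is contained in a conjugate of `H`. -/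
theorem le_conj_of_forall_mem_conj [Finite G] {H : Subgroup G} (hH : IsFrobeniusComplement H)
    (L : Subgroup G) (hL : ∀ l ∈ L, l ≠ 1 → ∃ g : G, l ∈ MulAut.conj g • H) :
    ∃ g : G, L ≤ MulAut.conj g • H := by
  by_contra hcon
  push Not at hcon
  have hLbot : L ≠ ⊥ := by
    intro h
    exact hcon 1 (h ▸ bot_le)
  obtain ⟨l₁, hl₁, hl₁1⟩ := (Subgroup.bot_or_exists_ne_one L).resolve_left hLbot
  obtain ⟨g₁, hg₁⟩ := hL l₁ hl₁ hl₁1
  have hD₁bot : L ⊓ MulAut.conj g₁ • H ≠ ⊥ := by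
    intro h
    have : l₁ ∈ L ⊓ MulAut.conj g₁ • H := Subgroup.mem_inf.mpr ⟨hl₁, hg₁⟩
    rw [h, Subgroup.mem_bot] at this
    exact hl₁1 this
  have hF₁ := isFrobeniusComplement_subgroupOf hH g₁ hD₁bot (hcon g₁)
  -- a non-identity element of the kernel of D₁ in L
  have hK₁ := (Cfsg.Agent.S0034.result _ hF₁).1
  have hidx₁ : 1 < ((L ⊓ MulAut.conj g₁ • H).subgroupOf L).index :=
    Subgroup.one_lt_index_of_ne_top hF₁.2.1
  obtain ⟨l₂, hl₂K, hl₂1⟩ : ∃ l₂ : L, l₂ ∈ frobeniusKernel ((L ⊓ MulAut.conj g₁ • H).subgroupOf L)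
      ∧ l₂ ≠ 1 := by
    rw [← hK₁, Nat.card_coe_set_eq] at hidx₁
    obtain ⟨a, b, ha, hb, hab⟩ := (Set.one_lt_ncard_iff).mp hidx₁
    by_cases ha1 : a = 1
    · exact ⟨b, hb, fun h => hab (ha1.trans h.symm)⟩
    · exact ⟨a, ha, ha1⟩
  have hl₂G : (l₂ : G) ≠ 1 := fun h => hl₂1 (Subtype.ext h)
  obtain ⟨g₂, hg₂⟩ := hL l₂ l₂.2 hl₂G
  have hD₂bot : L ⊓ MulAut.conj g₂ • H ≠ ⊥ := by
    intro h
    have : (l₂ : G) ∈ L ⊓ MulAut.conj g₂ • H := Subgroup.mem_inf.mpr ⟨l₂.2, hg₂⟩
    rw [h, Subgroup.mem_bot] at this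
    exact hl₂G this
  have hF₂ := isFrobeniusComplement_subgroupOf hH g₂ hD₂bot (hcon g₂)
  obtain ⟨y, hy1, hy2⟩ := exists_mem_conj_both hF₁ hF₂
  simp only [mem_frobeniusKernel_iff, not_or, not_forall, not_not] at hy1 hy2
  obtain ⟨hy0, x₁, hx₁⟩ := hy1
  obtain ⟨-, x₂, hx₂⟩ := hy2
  rw [mem_conj_smul_iff, Subgroup.mem_subgroupOf, Subgroup.mem_inf] at hx₁ hx₂
  have hyG : (y : G) ≠ 1 := fun h => hy0 (Subtype.ext h)
  have e1 : (y : G) ∈ MulAut.conj ((x₁ : G) * g₁) • H := by
    have := hx₁.2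
    rw [mem_conj_smul_iff] at this ⊢
    convert this using 1
    simp only [Subgroup.coe_mul, Subgroup.coe_inv]
    group
  have e2 : (y : G) ∈ MulAut.conj ((x₂ : G) * g₂) • H := by
    have := hx₂.2
    rw [mem_conj_smul_iff] at this ⊢
    convert this using 1
    simp only [Subgroup.coe_mul, Subgroup.coe_inv]
    group
  have hh := ti hH hyG e1 e2
  -- l₂ lies in an L-conjugate of D₁, contradiction
  rcases hl₂K with h | h
  · exact hl₂1 h
  · apply h (x₂⁻¹ * x₁)
    rw [mem_conj_smul_iff, Subgroup.mem_subgroupOf, Subgroup.mem_inf]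
    refine ⟨Subtype.property _, ?_⟩
    rw [mem_conj_smul_iff] at hg₂ ⊢
    have := H.mul_mem (H.mul_mem hh hg₂) (H.inv_mem hh)
    convert this using 1
    simp only [Subgroup.coe_mul, Subgroup.coe_inv]
    group

end Cfsg.Agent.Lib.Helper35
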