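/-
helper35: project STEINBERG (S2396, S1097, S1077, ...). Abstract "Steinberg models": a group `Γ` with elements
`X r t` (r a root index, t in the field) satisfying Steinberg's relations (R1) and (R2), together with a
homomorphism `π` to the general linear group sending `X r t` to the matrix `x_r(t)`.
Both `D.SteinbergCover K` and `D.SteinbergGroup K` are models.  All definitions used by the modules are here.
-/
import Cfsg.Prelude.Def_SteinbergCover
import Cfsg.Prelude.Def_LieTypes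
import Cfsg.Prelude.Def_ChevB2

set_option autoImplicit false

namespace Cfsg.Agent.Lib.Helper35.St

open Cfsg.Lie

universe u v

/-- A Steinberg model of the datum `D` over the field `K`. -/
structure Model (D : ChevalleyDatum) (K : Type u) [Field K] (Γ : Type v) [Group Γ] where
  /-- the root elements -/
  X : ℕ → K → Γ
  /-- (R1) -/
  add : ∀ r, r < D.nroots → ∀ t u : K, X r t * X r u = X r (t + u)
  /-- (R2) -/
  comm : ∀ r s, r < D.nroots → s < D.nroots → s ≠ r → s ≠ D.neg r → ∀ t u : K,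
    (X s u)⁻¹ * (X r t)⁻¹ * X s u * X r t = ((D.commWord K r s t u).map fun p => X p.1 p.2).prod
  /-- the projection to the matrix group -/
  π : Γ →* GL D.Idx K
  /-- the projection maps root elements to root elements -/
  hπ : ∀ r, r < D.nroots → ∀ t : K, ((π (X r t) : GL D.Idx K) : Matrix D.Idx D.Idx K) = D.x K r t

namespace Model

variable {D : ChevalleyDatum} {K : Type u} [Field K] {Γ : Type v} [Group Γ] (M : Model D K Γ)

/-- The element of `Γ` of a word in root elements. -/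
def word (w : List (ℕ × K)) : Γ := (w.map fun p => M.X p.1 p.2).prod

/-- The ordered product `∏_{r ∈ l} X_r(t_r)`. -/
def prodL (l : List ℕ) (t : ℕ → K) : Γ := (l.map fun r => M.X r (t r)).prod

/-- The subgroup generated by the root elements of the roots satisfying `P`. -/
def sub (P : ℕ → Prop) : Subgroup Γ := Subgroup.closure {g : Γ | ∃ (r : ℕ) (t : K), P r ∧ g = M.X r t}

/-- `Ū`. -/
def Ubar : Subgroup Γ := M.sub D.IsPosRoot

/-- `V̄`. -/
def Vbar : Subgroup Γ := M.sub D.IsNegRoot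

/-- `Ū_i`: generated by the `X_r`, `r` positive, `r ≠ p_i`. -/
def UbarI (i : ℕ) : Subgroup Γ := M.sub fun r => D.IsPosRoot r ∧ r ≠ D.simple i

/-- `V̄_i`: generated by the `X_r`, `r` negative, `r ≠ -p_i`. -/
def VbarI (i : ℕ) : Subgroup Γ := M.sub fun r => D.IsNegRoot r ∧ r ≠ D.neg (D.simple i)

/-- `n̄_r(t) = X_r(t) X_{-r}(-t⁻¹) X_r(t)`. -/
def nbar (r : ℕ) (t : K) : Γ := M.X r t * M.X (D.neg r) (-t⁻¹) * M.X r t

/-- `h̄_r(t) = n̄_r(t) n̄_r(-1)`. -/
def hbar (r : ℕ) (t : K) : Γ := M.nbar r t * M.nbar r (-1)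

/-- The generating set of `M̄`. -/
def MbarSet : Set Γ := {g : Γ | ∃ (i : ℕ) (t : K), i < D.rank ∧ t ≠ 0 ∧ g = M.nbar (D.simple i) t}

/-- `M̄`: generated by the `n̄_p(t)`, `p` fundamental, `t ≠ 0`. -/
def Mbar : Subgroup Γ := Subgroup.closure M.MbarSet

/-- `H̄`: generated by the `h̄_p(t)`, `p` fundamental, `t ≠ 0`. -/
def Hbar : Subgroup Γ :=
  Subgroup.closure {g : Γ | ∃ (i : ℕ) (t : K), i < D.rank ∧ t ≠ 0 ∧ g = M.hbar (D.simple i) t}

/-- The element `g` permutes the root elements: `g X_s(u) g⁻¹ = X_{ρ s}(c_s u)`, compatibly with negation. -/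
def IsMono (g : Γ) : Prop :=
  ∃ (ρ : ℕ → ℕ) (c : ℕ → K), (∀ s, s < D.nroots → ρ s < D.nroots ∧ c s ≠ 0 ∧ ρ (D.neg s) = D.neg (ρ s)) ∧
    ∀ s, s < D.nroots → ∀ u : K, g * M.X s u * g⁻¹ = M.X (ρ s) (c s * u)

/-- The root elements generate `Γ`. -/
def Gen : Prop := Subgroup.closure {g : Γ | ∃ (r : ℕ) (t : K), r < D.nroots ∧ g = M.X r t} = ⊤

/-- `π` is injective on `Ū`. -/
def InjPos : Prop := ∀ g ∈ M.Ubar, ∀ g' ∈ M.Ubar, M.π g = M.π g' → g = g'

/-- `π` is injective on `V̄`. -/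
def InjNeg : Prop := ∀ g ∈ M.Vbar, ∀ g' ∈ M.Vbar, M.π g = M.π g' → g = g'

/-- The subgroup `⟨X_p, X_{-p}⟩`, `p = p_i`. -/
def RankOne (i : ℕ) : Subgroup Γ := M.sub fun r => r = D.simple i ∨ r = D.neg (D.simple i)

/-- `⟨X_p, X_{-p}⟩` normalises `Ū_i` and `V̄_i`. -/
def Norm : Prop := ∀ i, i < D.rank → M.RankOne i ≤ Subgroup.normalizer (M.UbarI i : Set Γ) ∧
  M.RankOne i ≤ Subgroup.normalizer (M.VbarI i : Set Γ)

/-- `n̄_p(t) X_s(u) n̄_p(t)⁻¹ = X_{w_p s}(c u)` for the roots `s ≠ ± p`. -/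
def ActOff : Prop := ∀ i, i < D.rank → ∀ s, s < D.nroots → s ≠ D.simple i → s ≠ D.neg (D.simple i) →
  ∀ t : K, t ≠ 0 → ∃ c : K, c ≠ 0 ∧ ∀ u : K,
    M.nbar (D.simple i) t * M.X s u * (M.nbar (D.simple i) t)⁻¹ = M.X (D.reflectRoot i s) (c * u)

/-- `n̄_p(t) X_s(u) n̄_p(t)⁻¹ = X_{w_p s}(c u)` for all roots `s`. -/
def Act : Prop := ∀ i, i < D.rank → ∀ s, s < D.nroots →
  ∀ t : K, t ≠ 0 → ∃ c : K, c ≠ 0 ∧ ∀ u : K,
    M.nbar (D.simple i) t * M.X s u * (M.nbar (D.simple i) t)⁻¹ = M.X (D.reflectRoot i s) (c * u)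

/-- Every element of `⟨X_r : P r⟩` is an ordered product over the list `l`. -/
def Collect (P : ℕ → Prop) (l : List ℕ) : Prop := ∀ g ∈ M.sub P, ∃ t : ℕ → K, g = M.prodL l t

/-- `Γ = Ū M̄ Ū`. -/
def Bruhat : Prop := ∀ g : Γ, ∃ u₁ ∈ M.Ubar, ∃ m ∈ M.Mbar, ∃ u₂ ∈ M.Ubar, g = u₁ * m * u₂

end Model

/-- Matrix side: `n_p(t) x_s(u) = x_{w_p s}(c u) n_p(t)` with `c ≠ 0` depending on `p = p_i`, `s`, `t` only. -/
def GAct (D : ChevalleyDatum) (K : Type u) [Field K] : Prop :=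
  ∀ i, i < D.rank → ∀ s, s < D.nroots → ∀ t : K, t ≠ 0 → ∃ c : K, c ≠ 0 ∧ ∀ u : K,
    D.nMat K (D.simple i) t * D.x K s u = D.x K (D.reflectRoot i s) (c * u) * D.nMat K (D.simple i) t

/-- Matrix side: the coefficients of a product over the list `l` of roots are unique. -/
def GUniq (D : ChevalleyDatum) (K : Type u) [Field K] (l : List ℕ) : Prop :=
  ∀ t t' : ℕ → K, D.wordMat K (l.map fun r => (r, t r)) = D.wordMat K (l.map fun r => (r, t' r)) →
    ∀ r ∈ l, t r = t' r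

/-- The roots of the commutator formula of `(-r, -s)` are the negatives of those of `(r, s)`, in the same order. -/
def NegSym (D : ChevalleyDatum) : Prop :=
  ∀ r s, r < D.nroots → s < D.nroots → s ≠ r → s ≠ D.neg r →
    (D.commTerms (D.neg r) (D.neg s)).map (fun c => c.1) = (D.commTerms r s).map (fun c => D.neg c.1)

/-- The image of the root `s` under the word `ws` in the fundamental reflections. -/
def wRoot (D : ChevalleyDatum) (ws : List ℕ) (s : ℕ) : ℕ := ws.foldr (fun i acc => D.reflectRoot i acc) s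

/-- The table facts about the root system used by the abstract theory, in terms of the datum only. -/
structure TF (D : ChevalleyDatum) : Prop where
  neg_lt : ∀ r, r < D.nroots → D.neg r < D.nroots
  neg_neg : ∀ r, r < D.nroots → D.neg (D.neg r) = r
  neg_ne : ∀ r, r < D.nroots → D.neg r ≠ r
  pos_lt : ∀ r, D.IsPosRoot r → r < D.nroots
  pos_or_neg : ∀ r, r < D.nroots → D.IsPosRoot r ∨ D.IsNegRoot r
  not_pos_neg : ∀ r, D.IsPosRoot r → ¬ D.IsNegRoot r
  neg_pos : ∀ r, D.IsPosRoot r → D.IsNegRoot (D.neg r)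
  neg_negR : ∀ r, D.IsNegRoot r → D.IsPosRoot (D.neg r)
  simple_pos : ∀ i, i < D.rank → D.IsPosRoot (D.simple i)
  refl_lt : ∀ i, i < D.rank → ∀ s, s < D.nroots → D.reflectRoot i s < D.nroots
  refl_refl : ∀ i, i < D.rank → ∀ s, s < D.nroots → D.reflectRoot i (D.reflectRoot i s) = s
  refl_neg : ∀ i, i < D.rank → ∀ s, s < D.nroots → D.reflectRoot i (D.neg s) = D.neg (D.reflectRoot i s)
  refl_simple : ∀ i, i < D.rank → D.reflectRoot i (D.simple i) = D.neg (D.simple i)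
  refl_pos : ∀ i, i < D.rank → ∀ s, D.IsPosRoot s → s ≠ D.simple i →
    D.IsPosRoot (D.reflectRoot i s) ∧ D.reflectRoot i s ≠ D.simple i
  /-- the commutator terms of `± p_i` with a positive root `≠ p_i` -/
  comm_pos : ∀ i, i < D.rank → ∀ e, (e = D.simple i ∨ e = D.neg (D.simple i)) → ∀ s, D.IsPosRoot s →
    s ≠ D.simple i → ∀ c ∈ D.commTerms e s, D.IsPosRoot c.1 ∧ c.1 ≠ D.simple i
  /-- the commutator terms of `± p_i` with a negative root `≠ -p_i` -/
  comm_neg : ∀ i, i < D.rank → ∀ e, (e = D.simple i ∨ e = D.neg (D.simple i)) → ∀ s, D.IsNegRoot s →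
    s ≠ D.neg (D.simple i) → ∀ c ∈ D.commTerms e s, D.IsNegRoot c.1 ∧ c.1 ≠ D.neg (D.simple i)
  /-- every root is conjugate to a fundamental root -/
  hword : ∀ r, r < D.nroots → ∃ (ws : List ℕ) (j : ℕ), (∀ i ∈ ws, i < D.rank) ∧ j < D.rank ∧
    wRoot D ws (D.simple j) = r

/-- A level function on a set `P` of roots closed under the commutator formula. -/
structure Lvl (D : ChevalleyDatum) (P : ℕ → Prop) where
  lvl : ℕ → ℕ
  maxLvl : ℕ
  lt : ∀ r, P r → r < D.nroots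
  noneg : ∀ r s, P r → P s → s ≠ D.neg r
  hmax : ∀ r, P r → lvl r ≤ maxLvl
  hcomm : ∀ r s, P r → P s → s ≠ r → ∀ c ∈ D.commTerms r s, P c.1 ∧ lvl r < lvl c.1 ∧ lvl s < lvl c.1

/-- The certificate for Lemma 3 at the fundamental root `p_i`: a pair of roots `r', s' ≠ ± p_i` whose commutator
formula contains `p_i` exactly once, linearly in the parameter of `r'` and with coefficient `± 1`, all other terms being
positive roots; and the commutator formula of the reflected pair involves only `-p_i` and positive roots `≠ p_i`. -/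
def L3Cert (D : ChevalleyDatum) (i : ℕ) : Prop :=
  ∃ r' s' : ℕ, r' < D.nroots ∧ s' < D.nroots ∧ s' ≠ r' ∧ s' ≠ D.neg r' ∧
    r' ≠ D.simple i ∧ r' ≠ D.neg (D.simple i) ∧ s' ≠ D.simple i ∧ s' ≠ D.neg (D.simple i) ∧
    (∃ (C : ℤ) (j : ℕ), (C = 1 ∨ C = -1) ∧
      (D.commTerms r' s').filter (fun c => decide (c.1 = D.simple i)) = [(D.simple i, C, 1, j)]) ∧
    (∀ c ∈ D.commTerms r' s', c.1 ≠ D.simple i → D.IsPosRoot c.1) ∧
    (∀ c ∈ D.commTerms (D.reflectRoot i r') (D.reflectRoot i s'),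
      c.1 = D.neg (D.simple i) ∨ (D.IsPosRoot c.1 ∧ c.1 ≠ D.simple i))

end Cfsg.Agent.Lib.Helper35.St
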