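/-
helper35: project STEINBERG, phase 2 (S1097, S1077): the subgroup `H̄` of a Steinberg model, the refined monomial
property, and the list of Coxeter matrices of S1039.
-/
import Cfsg.Agent.Lib.Helper35.StDefs

set_option autoImplicit false

namespace Cfsg.Agent.Lib.Helper35.St

open Cfsg.Lie

universe u v

namespace Model

variable {D : ChevalleyDatum} {K : Type u} [Field K] {Γ : Type v} [Group Γ] (M : Model D K Γ)

/-- The refined monomial property: `g X_s(u) g⁻¹ = X_{ρ s}(c_s u)` with `ρ (-s) = -ρ s` and `c_{-s} = c_s⁻¹`. -/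
def IsMono2 (g : Γ) : Prop :=
  ∃ (ρ : ℕ → ℕ) (c : ℕ → K), (∀ s, s < D.nroots → ρ s < D.nroots ∧ c s ≠ 0 ∧ ρ (D.neg s) = D.neg (ρ s) ∧
      c (D.neg s) = (c s)⁻¹) ∧
    ∀ s, s < D.nroots → ∀ u : K, g * M.X s u * g⁻¹ = M.X (ρ s) (c s * u)

/-- `h̄_p(t)` acts on `X_s` through the character `t ^ A_{p,s}`. -/
def HAct : Prop := ∀ j, j < D.rank → ∀ t : K, t ≠ 0 → ∀ s, s < D.nroots → ∀ u : K,
  M.hbar (D.simple j) t * M.X s u * (M.hbar (D.simple j) t)⁻¹ = M.X s (t ^ (D.cartan j s) * u)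

/-- `σ_i = n̄_{p_i}(1)`. -/
def sigma (i : ℕ) : Γ := M.nbar (D.simple i) 1

/-- `H̄` is normalised by `M̄`. -/
def HNorm : Prop := ∀ m ∈ M.Mbar, ∀ h ∈ M.Hbar, m * h * m⁻¹ ∈ M.Hbar

end Model

/-- Matrix side: the refined form of `GAct`: the constants for `s` and `-s` are inverse to each other. -/
def GAct2 (D : ChevalleyDatum) (K : Type u) [Field K] : Prop :=
  ∀ i, i < D.rank → ∀ s, s < D.nroots → ∀ t : K, t ≠ 0 → ∃ c : K, c ≠ 0 ∧
    (∀ u : K, D.nMat K (D.simple i) t * D.x K s u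
      = D.x K (D.reflectRoot i s) (c * u) * D.nMat K (D.simple i) t) ∧
    (∀ u : K, D.nMat K (D.simple i) t * D.x K (D.neg s) u
      = D.x K (D.neg (D.reflectRoot i s)) (c⁻¹ * u) * D.nMat K (D.simple i) t)

/-- The alternating word `[i, j, i, ...]` of length `n`. -/
def altWord (i j : ℕ) : ℕ → List ℕ
  | 0 => []
  | n + 1 => i :: altWord j i n

/-- The data and Coxeter matrices of S1039. -/
def coxList : List (ChevalleyDatum × (Σ n : ℕ, CoxeterMatrix (Fin n))) :=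
  [(chevG2, ⟨2, CoxeterMatrix.G₂⟩), (chevB2, ⟨2, CoxeterMatrix.B 2⟩), (chevD4, ⟨4, coxeterD4⟩),
    (chevF4, ⟨4, CoxeterMatrix.F₄⟩), (chevE6, ⟨6, CoxeterMatrix.E₆⟩), (chevE7, ⟨7, CoxeterMatrix.E₇⟩),
    (chevE8, ⟨8, CoxeterMatrix.E₈⟩)]

/-- The dihedral table fact: for `i ≠ j` with `m = M i j`, the alternating word `w_i w_j w_i ...` of length `m - 1`
maps the fundamental root `p_k` to `p_j`, where `k = j` if `m - 1` is odd and `k = i` otherwise. -/
def Dihedral (p : ChevalleyDatum × (Σ n : ℕ, CoxeterMatrix (Fin n))) : Prop :=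
  p.2.1 = p.1.rank ∧ ∀ i j : Fin p.2.1, i ≠ j →
    wRoot p.1 (altWord i.val j.val (p.2.2.M i j - 1))
      (p.1.simple (if (p.2.2.M i j - 1) % 2 = 1 then j.val else i.val)) = p.1.simple j.val

end Cfsg.Agent.Lib.Helper35.St
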