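/-
helper35: project STEINBERG. The Steinberg cover `D.SteinbergCover K` (relations R1, R2) and the Steinberg group
`D.SteinbergGroup K` (relations R1, R2, R3) are Steinberg models, generated by their root elements.
-/
import Cfsg.Agent.Lib.Helper35.StDefs
import Cfsg.Agent.Lib.Helper18.BN1
import Cfsg.Agent.S1025
import Cfsg.Agent.S1076

set_option autoImplicit false

namespace Cfsg.Agent.Lib.Helper35.St

open Cfsg.Lie Cfsg.Agent.Lib.Helper18

universe u

variable {D : ChevalleyDatum} {K : Type u} [Field K]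

/-- The assignment of the free generators to the root elements of the matrix group. -/
noncomputable def genG (hD : D ∈ [chevG2, chevB2, chevD4, chevF4, chevE6, chevE7, chevE8]) :
    Fin D.nroots × K → GL D.Idx K := fun p => xG hD p.1.val p.2

/-- The product of the root elements of a word, in the general linear group. -/
noncomputable def wordGL (hD : D ∈ [chevG2, chevB2, chevD4, chevF4, chevE6, chevE7, chevE8])
    (w : List (ℕ × K)) : GL D.Idx K := (w.map fun a => xG hD a.1 a.2).prod

theorem coe_wordGL (hD : D ∈ [chevG2, chevB2, chevD4, chevF4, chevE6, chevE7, chevE8]) (w : List (ℕ × K)) :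
    ((wordGL hD w : GL D.Idx K) : Matrix D.Idx D.Idx K) = D.wordMat K w := by
  induction w with
  | nil => simp [wordGL, ChevalleyDatum.wordMat]
  | cons a w ih =>
    have e1 : wordGL hD (a :: w) = xG hD a.1 a.2 * wordGL hD w := by
      unfold wordGL
      rw [List.map_cons, List.prod_cons]
    have e2 : D.wordMat K (a :: w) = D.x K a.1 a.2 * D.wordMat K w := by
      unfold ChevalleyDatum.wordMat
      rw [List.map_cons, List.prod_cons]
    rw [e1, Units.val_mul, ih, coe_xG, e2]

theorem lift_stX (hD : D ∈ [chevG2, chevB2, chevD4, chevF4, chevE6, chevE7, chevE8]) (r : ℕ) (t : K) :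
    FreeGroup.lift (genG hD) (D.stX r t) = xG hD r t := by
  unfold ChevalleyDatum.stX
  by_cases hr : r < D.nroots
  · rw [dif_pos hr, FreeGroup.lift_apply_of]
    rfl
  · rw [dif_neg hr, map_one]
    apply Units.ext
    rw [coe_xG, Units.val_one]
    unfold ChevalleyDatum.x
    rw [dif_neg hr]

theorem lift_stWord (hD : D ∈ [chevG2, chevB2, chevD4, chevF4, chevE6, chevE7, chevE8]) (w : List (ℕ × K)) :
    FreeGroup.lift (genG hD) (D.stWord w) = wordGL hD w := by
  unfold ChevalleyDatum.stWord wordGL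
  rw [map_list_prod, List.map_map]
  congr 1
  apply List.map_congr_left
  intro a _
  exact lift_stX hD a.1 a.2

theorem lift_R1 (hD : D ∈ [chevG2, chevB2, chevD4, chevF4, chevE6, chevE7, chevE8]) (r : ℕ) (t₁ t₂ : K) :
    FreeGroup.lift (genG hD) (D.stX r t₁ * D.stX r t₂ * (D.stX r (t₁ + t₂))⁻¹) = 1 := by
  rw [map_mul, map_mul, map_inv, lift_stX, lift_stX, lift_stX, xG_mul, mul_inv_cancel]

theorem lift_R2 (hD : D ∈ [chevG2, chevB2, chevD4, chevF4, chevE6, chevE7, chevE8]) (r s : ℕ)
    (hr : r < D.nroots) (hs : s < D.nroots) (hsr : s ≠ r) (hsn : s ≠ D.neg r) (t u : K) :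
    FreeGroup.lift (genG hD) ((D.stX s u)⁻¹ * (D.stX r t)⁻¹ * D.stX s u * D.stX r t *
      (D.stWord (D.commWord K r s t u))⁻¹) = 1 := by
  rw [map_mul, map_mul, map_mul, map_mul, map_inv, map_inv, map_inv, lift_stX, lift_stX, lift_stWord]
  have h : xG hD s u * xG hD r t = xG hD r t * xG hD s u * wordGL hD (D.commWord K r s t u) := by
    apply Units.ext
    rw [Units.val_mul, Units.val_mul, Units.val_mul, coe_xG, coe_xG, coe_wordGL]
    exact Cfsg.Agent.S1025.result D hD r s hr hs hsr hsn t u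
  rw [mul_assoc ((xG hD s u)⁻¹ * (xG hD r t)⁻¹), h]
  group

theorem lift_stH (hD : D ∈ [chevG2, chevB2, chevD4, chevF4, chevE6, chevE7, chevE8]) (r : ℕ) (t : K) :
    ((FreeGroup.lift (genG hD) (D.stH r t) : GL D.Idx K) : Matrix D.Idx D.Idx K) = D.hMat K r t := by
  unfold ChevalleyDatum.stH ChevalleyDatum.hMat
  rw [lift_stWord, coe_wordGL]

theorem lift_R3 (hD : D ∈ [chevG2, chevB2, chevD4, chevF4, chevE6, chevE7, chevE8]) (r : ℕ)
    (hr : r < D.nroots) (t₁ t₂ : K) (h₁ : t₁ ≠ 0) (h₂ : t₂ ≠ 0) :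
    FreeGroup.lift (genG hD) (D.stH r t₁ * D.stH r t₂ * (D.stH r (t₁ * t₂))⁻¹) = 1 := by
  rw [map_mul, map_mul, map_inv, mul_inv_eq_one]
  apply Units.ext
  rw [Units.val_mul, lift_stH, lift_stH, lift_stH]
  exact Cfsg.Agent.S1076.result D hD r hr t₁ t₂ h₁ h₂

theorem lift_relsAB (hD : D ∈ [chevG2, chevB2, chevD4, chevF4, chevE6, chevE7, chevE8]) :
    ∀ g ∈ D.steinbergRelsAB K, FreeGroup.lift (genG hD) g = 1 := by
  rintro g (⟨r, t₁, t₂, -, rfl⟩ | ⟨r, s, t, u, hr, hs, hsr, hsn, rfl⟩)
  · exact lift_R1 hD r t₁ t₂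
  · exact lift_R2 hD r s hr hs hsr hsn t u

theorem lift_rels (hD : D ∈ [chevG2, chevB2, chevD4, chevF4, chevE6, chevE7, chevE8]) :
    ∀ g ∈ D.steinbergRels K, FreeGroup.lift (genG hD) g = 1 := by
  rintro g ((⟨r, t₁, t₂, -, rfl⟩ | ⟨r, s, t, u, hr, hs, hsr, hsn, rfl⟩) | ⟨r, t₁, t₂, hr, h₁, h₂, rfl⟩)
  · exact lift_R1 hD r t₁ t₂
  · exact lift_R2 hD r s hr hs hsr hsn t u
  · exact lift_R3 hD r hr t₁ t₂ h₁ h₂

/-- The image of a word under `PresentedGroup.mk`. -/
theorem mk_stWord (rels : Set (FreeGroup (Fin D.nroots × K))) (w : List (ℕ × K)) :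
    PresentedGroup.mk rels (D.stWord w) = (w.map fun p => PresentedGroup.mk rels (D.stX p.1 p.2)).prod := by
  unfold ChevalleyDatum.stWord
  rw [map_list_prod, List.map_map]
  rfl

/-- The Steinberg cover is a Steinberg model. -/
noncomputable def coverModel (hD : D ∈ [chevG2, chevB2, chevD4, chevF4, chevE6, chevE7, chevE8]) :
    Model D K (D.SteinbergCover K) where
  X := D.scGen K
  add := by
    intro r hr t u
    have h : PresentedGroup.mk (D.steinbergRelsAB K) (D.stX r t * D.stX r u * (D.stX r (t + u))⁻¹) = 1 :=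
      PresentedGroup.one_of_mem (Or.inl ⟨r, t, u, hr, rfl⟩)
    rw [map_mul, map_mul, map_inv, mul_inv_eq_one] at h
    exact h
  comm := by
    intro r s hr hs hsr hsn t u
    have h : PresentedGroup.mk (D.steinbergRelsAB K) ((D.stX s u)⁻¹ * (D.stX r t)⁻¹ * D.stX s u * D.stX r t *
        (D.stWord (D.commWord K r s t u))⁻¹) = 1 :=
      PresentedGroup.one_of_mem (Or.inr ⟨r, s, t, u, hr, hs, hsr, hsn, rfl⟩)
    rw [map_mul, map_inv, mul_inv_eq_one, map_mul, map_mul, map_mul, map_inv, map_inv, mk_stWord] at h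
    exact h
  π := PresentedGroup.toGroup (lift_relsAB hD)
  hπ := by
    intro r hr t
    have h : PresentedGroup.toGroup (lift_relsAB hD) (D.scGen K r t) = xG hD r t := by
      unfold ChevalleyDatum.scGen
      exact lift_stX hD r t
    rw [h, coe_xG]

/-- The Steinberg group is a Steinberg model. -/
noncomputable def stModel (hD : D ∈ [chevG2, chevB2, chevD4, chevF4, chevE6, chevE7, chevE8]) :
    Model D K (D.SteinbergGroup K) where
  X := D.stGen K
  add := by
    intro r hr t u
    have h : PresentedGroup.mk (D.steinbergRels K) (D.stX r t * D.stX r u * (D.stX r (t + u))⁻¹) = 1 :=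
      PresentedGroup.one_of_mem (Or.inl (Or.inl ⟨r, t, u, hr, rfl⟩))
    rw [map_mul, map_mul, map_inv, mul_inv_eq_one] at h
    exact h
  comm := by
    intro r s hr hs hsr hsn t u
    have h : PresentedGroup.mk (D.steinbergRels K) ((D.stX s u)⁻¹ * (D.stX r t)⁻¹ * D.stX s u * D.stX r t *
        (D.stWord (D.commWord K r s t u))⁻¹) = 1 :=
      PresentedGroup.one_of_mem (Or.inl (Or.inr ⟨r, s, t, u, hr, hs, hsr, hsn, rfl⟩))
    rw [map_mul, map_inv, mul_inv_eq_one, map_mul, map_mul, map_mul, map_inv, map_inv, mk_stWord] at h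
    exact h
  π := PresentedGroup.toGroup (lift_rels hD)
  hπ := by
    intro r hr t
    have h : PresentedGroup.toGroup (lift_rels hD) (D.stGen K r t) = xG hD r t := by
      unfold ChevalleyDatum.stGen
      exact lift_stX hD r t
    rw [h, coe_xG]

/-- A presented group on the Steinberg generators is generated by the classes of the in-range root elements. -/
theorem closure_mk_stX (rels : Set (FreeGroup (Fin D.nroots × K))) :
    Subgroup.closure {g : PresentedGroup rels | ∃ (r : ℕ) (t : K), r < D.nroots ∧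
      g = PresentedGroup.mk rels (D.stX r t)} = ⊤ := by
  rw [eq_top_iff, ← PresentedGroup.closure_range_of rels]
  apply Subgroup.closure_mono
  rintro _ ⟨⟨r, t⟩, rfl⟩
  refine ⟨r.val, t, r.isLt, ?_⟩
  unfold ChevalleyDatum.stX
  rw [dif_pos r.isLt]
  rfl

theorem coverModel_gen (hD : D ∈ [chevG2, chevB2, chevD4, chevF4, chevE6, chevE7, chevE8]) :
    (coverModel (K := K) hD).Gen := closure_mk_stX (D.steinbergRelsAB K)

theorem stModel_gen (hD : D ∈ [chevG2, chevB2, chevD4, chevF4, chevE6, chevE7, chevE8]) :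
    (stModel (K := K) hD).Gen := closure_mk_stX (D.steinbergRels K)

/-- In the Steinberg group, `h̄_r(t)` of the model is the class of the word `stH r t`. -/
theorem stModel_hbar (hD : D ∈ [chevG2, chevB2, chevD4, chevF4, chevE6, chevE7, chevE8]) (r : ℕ) (t : K) :
    (stModel (K := K) hD).hbar r t = PresentedGroup.mk (D.steinbergRels K) (D.stH r t) := by
  unfold ChevalleyDatum.stH ChevalleyDatum.hWord ChevalleyDatum.nWord
  rw [mk_stWord]
  simp only [List.cons_append, List.nil_append, List.map_cons, List.map_nil, List.prod_cons, List.prod_nil, mul_one]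
  unfold Model.hbar Model.nbar
  simp only [mul_assoc]
  rfl

/-- The relation (R3) in the Steinberg group (all roots). -/
theorem stModel_hbar_mul (hD : D ∈ [chevG2, chevB2, chevD4, chevF4, chevE6, chevE7, chevE8]) (r : ℕ)
    (hr : r < D.nroots) (t₁ t₂ : K) (h₁ : t₁ ≠ 0) (h₂ : t₂ ≠ 0) :
    (stModel (K := K) hD).hbar r t₁ * (stModel (K := K) hD).hbar r t₂ = (stModel (K := K) hD).hbar r (t₁ * t₂) := by
  rw [stModel_hbar, stModel_hbar, stModel_hbar]
  have h : PresentedGroup.mk (D.steinbergRels K) (D.stH r t₁ * D.stH r t₂ * (D.stH r (t₁ * t₂))⁻¹) = 1 :=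
    PresentedGroup.one_of_mem (Or.inr ⟨r, t₁, t₂, hr, h₁, h₂, rfl⟩)
  rw [map_mul, map_mul, map_inv, mul_inv_eq_one] at h
  exact h

end Cfsg.Agent.Lib.Helper35.St
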