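/-
helper35: project STEINBERG, assembly of phase 1: for a Steinberg model `M` generated by its root elements, every
element of the kernel of the projection `M.π` to the matrix group lies in `M̄` and in the centre.
Modules by helper31 (NORM, MONO, BRUHAT), helper47 (ACTOFF, L3, KER, COLLECT), helper46 (INJ), helper89 (NEGSYM, TF, LVL,
L3TAB, GVUNIQ), helper18 (GACT).
-/
import Cfsg.Agent.Lib.Helper35.StDefs
import Cfsg.Agent.Lib.Helper31.StNorm
import Cfsg.Agent.Lib.Helper31.StMono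
import Cfsg.Agent.Lib.Helper31.StBruhat
import Cfsg.Agent.Lib.Helper47.StActOff
import Cfsg.Agent.Lib.Helper47.StL3Core
import Cfsg.Agent.Lib.Helper47.StKerCore
import Cfsg.Agent.Lib.Helper47.StCollect
import Cfsg.Agent.Lib.Helper46.StInj
import Cfsg.Agent.Lib.Helper89.StNegSym
import Cfsg.Agent.Lib.Helper89.StTF
import Cfsg.Agent.Lib.Helper89.StLvl
import Cfsg.Agent.Lib.Helper89.StL3Tab
import Cfsg.Agent.Lib.Helper89.StGVUniq
import Cfsg.Agent.Lib.Helper18.St.NMono
import Cfsg.Agent.Lib.Helper18.Order1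
import Cfsg.Agent.S1037
import Cfsg.Agent.S1040

set_option autoImplicit false

namespace Cfsg.Agent.Lib.Helper35.St

open Cfsg.Lie Cfsg.Agent.Lib.Helper18

universe u v

variable {D : ChevalleyDatum} {K : Type u} [Field K] {Γ : Type v} [Group Γ]

theorem posRoots_nodup (D : ChevalleyDatum) : D.posRoots.Nodup := by
  unfold ChevalleyDatum.posRoots
  exact (List.Pairwise.filter _ List.pairwise_lt_range).imp (fun h => Nat.ne_of_lt h)

theorem mem_posRoots (D : ChevalleyDatum) (r : ℕ) : r ∈ D.posRoots ↔ D.IsPosRoot r := by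
  unfold ChevalleyDatum.posRoots
  rw [List.mem_filter, List.mem_range, decide_eq_true_eq]
  exact ⟨fun h => h.2, fun h => ⟨h.1, h⟩⟩

/-! ### matrix-side facts in the form used by the cores -/

theorem x_eq_one_imp (hD : D ∈ [chevG2, chevB2, chevD4, chevF4, chevE6, chevE7, chevE8]) (r : ℕ)
    (hr : r < D.nroots) (t : K) (h : D.x K r t = 1) : t = 0 :=
  (Cfsg.Agent.S1024.result D hD r hr t).mp h

theorem x_inj (hD : D ∈ [chevG2, chevB2, chevD4, chevF4, chevE6, chevE7, chevE8]) (r : ℕ)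
    (hr : r < D.nroots) (t t' : K) (h : D.x K r t = D.x K r t') : t = t' := by
  have h1 : D.x K r (t - t') = 1 := by
    have e : t - t' = t + -t' := sub_eq_add_neg t t'
    rw [e, ← x_add' hD, h, x_add' hD, add_neg_cancel, x_zero hD]
  exact sub_eq_zero.mp (x_eq_one_imp hD r hr _ h1)

theorem x_root_inj (hD : D ∈ [chevG2, chevB2, chevD4, chevF4, chevE6, chevE7, chevE8]) (s s' : ℕ)
    (hs : s < D.nroots) (hs' : s' < D.nroots) (c : K) (h : D.x K s 1 = D.x K s' c) : s' = s ∧ c = 1 := by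
  have h1 : s' = s := xG_inj_root hD s s' hs hs' 1 c one_ne_zero (Units.ext h)
  subst h1
  exact ⟨rfl, (x_inj hD s' hs' 1 c h).symm⟩

theorem pos_inf_neg (hD : D ∈ [chevG2, chevB2, chevD4, chevF4, chevE6, chevE7, chevE8]) :
    D.posUnipotent K ⊓ D.negUnipotent K = ⊥ := by
  have h := (Cfsg.Agent.S1037.result (F := K) D hD).1
  rw [eq_bot_iff, ← h]
  exact inf_le_inf_right _ le_sup_left

theorem pos_inf_mono (hD : D ∈ [chevG2, chevB2, chevD4, chevF4, chevE6, chevE7, chevE8]) :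
    D.posUnipotent K ⊓ D.monomialSubgroup K = ⊥ :=
  (Cfsg.Agent.S1040.result (F := K) D hD).1

/-! ### the assembly -/

variable (M : Model D K Γ)

/-- The table facts. -/
theorem tf_main (hD : D ∈ [chevG2, chevB2, chevD4, chevF4, chevE6, chevE7, chevE8]) : TF D :=
  Cfsg.Agent.Lib.Helper89.St.tf_of_negSym hD (Cfsg.Agent.Lib.Helper89.St.negSym_of_mem hD)

/-- `π` is injective on `Ū`. -/
theorem injPos_main (hD : D ∈ [chevG2, chevB2, chevD4, chevF4, chevE6, chevE7, chevE8]) : M.InjPos := by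
  obtain ⟨Lp⟩ := Cfsg.Agent.Lib.Helper89.St.nonempty_lvl_pos hD
  exact Cfsg.Agent.Lib.Helper46.St.injPos_of_collect M hD
    (Cfsg.Agent.Lib.Helper47.St.collect M _ Lp _ (posRoots_nodup D) (mem_posRoots D))

/-- `π` is injective on `V̄`. -/
theorem injNeg_main (hD : D ∈ [chevG2, chevB2, chevD4, chevF4, chevE6, chevE7, chevE8]) : M.InjNeg := by
  obtain ⟨Ln⟩ := Cfsg.Agent.Lib.Helper89.St.nonempty_lvl_neg hD (Cfsg.Agent.Lib.Helper89.St.negSym_of_mem hD)
  obtain ⟨l, hl1, hl2, hl3⟩ := Cfsg.Agent.Lib.Helper89.St.exists_negList (K := K) hD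
  exact Cfsg.Agent.Lib.Helper46.St.injNeg_of_collect M hD l (fun r hr => (hl2 r).mp hr) hl3
    (Cfsg.Agent.Lib.Helper47.St.collect M _ Ln l hl1 hl2)

/-- The elements `n̄_p(t)` permute the root subgroups. -/
theorem act_main (hD : D ∈ [chevG2, chevB2, chevD4, chevF4, chevE6, chevE7, chevE8]) : M.Act := by
  have tf := tf_main hD
  have hp := injPos_main M hD
  have hn := injNeg_main M hD
  have hN := Cfsg.Agent.Lib.Helper31.St.norm_of_tf M tf
  have hG := Cfsg.Agent.Lib.Helper18.St.gAct_of_mem (K := K) hD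
  exact Cfsg.Agent.Lib.Helper47.St.act_core M tf hG hp hN
    (Cfsg.Agent.Lib.Helper47.St.actOff M hD tf hG hp hn hN)
    (fun i hi => Cfsg.Agent.Lib.Helper89.St.l3Cert_of_mem hD i hi) (pos_inf_neg hD)
    (fun r hr t h => x_eq_one_imp hD r hr t h)

/-- Every element of `M̄` is monomial. -/
theorem mono_main (hD : D ∈ [chevG2, chevB2, chevD4, chevF4, chevE6, chevE7, chevE8]) :
    ∀ g ∈ M.Mbar, M.IsMono g :=
  Cfsg.Agent.Lib.Helper31.St.isMono_of_mem_Mbar M (tf_main hD) (act_main M hD)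

/-- `Γ = Ū M̄ Ū`. -/
theorem bruhat_main (hD : D ∈ [chevG2, chevB2, chevD4, chevF4, chevE6, chevE7, chevE8]) (hgen : M.Gen) :
    M.Bruhat :=
  Cfsg.Agent.Lib.Helper31.St.bruhat M (tf_main hD) (Cfsg.Agent.Lib.Helper31.St.norm_of_tf M (tf_main hD))
    (act_main M hD) (mono_main M hD) hgen

/-- Every element of the kernel of `π` lies in `M̄` and in the centre (variant of helper47's `ker_le_center_core`). -/
theorem ker_mem_main (hD : D ∈ [chevG2, chevB2, chevD4, chevF4, chevE6, chevE7, chevE8]) (hgen : M.Gen) :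
    ∀ k ∈ M.π.ker, k ∈ M.Mbar ∧ k ∈ Subgroup.center Γ := by
  have tf := tf_main hD
  have hp := injPos_main M hD
  have hmono := mono_main M hD
  have hbr := bruhat_main M hD hgen
  have hNm : ∀ i, i < D.rank → ∀ t : K, t ≠ 0 → ∀ g : GL D.Idx K,
      (g : Matrix D.Idx D.Idx K) = D.nMat K (D.simple i) t → g ∈ D.monomialSubgroup K :=
    fun i hi t ht g hg => Cfsg.Agent.Lib.Helper18.St.nMat_mem_monomial hD i hi t ht g hg
  intro k hk
  rw [MonoidHom.mem_ker] at hk
  obtain ⟨u₁, hu₁, m, hm, u₂, hu₂, rfl⟩ := hbr k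
  have h1 : M.π u₁ ∈ D.posUnipotent K := Cfsg.Agent.Lib.Helper47.St.pi_Ubar_le M tf hu₁
  have h2 : M.π u₂ ∈ D.posUnipotent K := Cfsg.Agent.Lib.Helper47.St.pi_Ubar_le M tf hu₂
  have h3 : M.π m ∈ D.monomialSubgroup K := Cfsg.Agent.Lib.Helper47.St.pi_Mbar_le M tf hNm hm
  have hπm : M.π m = (M.π u₁)⁻¹ * (M.π u₂)⁻¹ := by
    rw [map_mul, map_mul] at hk
    have : M.π m = (M.π u₁)⁻¹ * (M.π u₁ * M.π m * M.π u₂) * (M.π u₂)⁻¹ := by group
    rw [this, hk, mul_one]
  have h4 : M.π m ∈ D.posUnipotent K ⊓ D.monomialSubgroup K := by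
    refine ⟨?_, h3⟩
    rw [hπm]
    exact Subgroup.mul_mem _ (Subgroup.inv_mem _ h1) (Subgroup.inv_mem _ h2)
  rw [pos_inf_mono hD, Subgroup.mem_bot] at h4
  have h5 : M.π u₂ = M.π u₁⁻¹ := by
    rw [map_mul, map_mul, h4, mul_one] at hk
    rw [map_inv]
    exact eq_inv_of_mul_eq_one_right hk
  have hu : u₂ = u₁⁻¹ := hp u₂ hu₂ u₁⁻¹ (Subgroup.inv_mem _ hu₁) h5
  have hmk : m ∈ M.π.ker := MonoidHom.mem_ker.mpr h4
  have hmc : m ∈ Subgroup.center Γ :=
    Cfsg.Agent.Lib.Helper47.St.ker_le_center_core M tf hp hmono hbr hgen hNm (pos_inf_mono hD)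
      (fun s s' hs hs' c h => x_root_inj hD s s' hs hs' c h) hmk
  have e : u₁ * m * u₂ = m := by
    rw [hu]
    rw [Subgroup.mem_center_iff] at hmc
    rw [hmc u₁, mul_inv_cancel_right]
  rw [e]
  exact ⟨hm, hmc⟩

/-- The kernel of `π` is central. -/
theorem ker_le_center_main (hD : D ∈ [chevG2, chevB2, chevD4, chevF4, chevE6, chevE7, chevE8]) (hgen : M.Gen) :
    M.π.ker ≤ Subgroup.center Γ :=
  fun k hk => (ker_mem_main M hD hgen k hk).2

end Cfsg.Agent.Lib.Helper35.St
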