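-- helper35: structure facts for a Frobenius group given as (complement A, normal subgroup N = kernel)
import Cfsg.Agent.S0034
import Cfsg.Agent.S0035
import Cfsg.Agent.S0036
import Cfsg.Agent.S0039
import Cfsg.Agent.S0040
import Cfsg.Agent.S0042
import Cfsg.Agent.Lib.Helper35.FpfCyclic

set_option autoImplicit false

namespace Cfsg.Agent.Lib.Helper35

open Cfsg
open scoped Pointwise

section

variable {X : Type*} [Group X] [Finite X]

/-- basic data of a Frobenius group with complement `A` whose kernel is the subgroup `N` -/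
theorem frobenius_data (A N : Subgroup X) (hA : IsFrobeniusComplement A)
    (hker : frobeniusKernel A = (N : Set X)) :
    N.Normal ∧ Subgroup.IsComplement' N A ∧ Group.IsNilpotent N ∧ N ≠ ⊥ ∧
      (∀ a ∈ A, a ≠ 1 → N ⊓ Subgroup.centralizer {a} = ⊥) ∧
      (Nat.card A).Coprime (Nat.card N) := by
  obtain ⟨N₁, h1, h1n, h1c⟩ := Cfsg.Agent.S0035.result A hA
  obtain ⟨N₂, h2, -, h2nil⟩ := Cfsg.Agent.S0042.result A hA
  have e1 : N₁ = N := SetLike.coe_injective (h1.trans hker)
  have e2 : N₂ = N := SetLike.coe_injective (h2.trans hker)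
  have h1n' : N.Normal := e1 ▸ h1n
  have h1c' : Subgroup.IsComplement' N A := e1 ▸ h1c
  have h2nil' : Group.IsNilpotent N := e2 ▸ h2nil
  have hN1 : N ≠ ⊥ := by
    intro h
    rw [h, Subgroup.isComplement'_bot_left] at h1c'
    exact hA.2.1 h1c'
  have hfpf := (Cfsg.Agent.S0039.result N A h1c' hN1 hA.1).mp hA
  refine ⟨h1n', h1c', h2nil', hN1, hfpf, ?_⟩
  obtain ⟨hc1, hc2⟩ := Cfsg.Agent.S0034.result A hA
  have hcard : Nat.card N = A.index := by
    rw [← hc1, hker]; rfl
  have hmod : Nat.card N ≡ 1 [MOD Nat.card A] := by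
    rw [hcard]; exact hc2
  have := hmod.gcd_eq
  rw [Nat.gcd_comm] at this
  rw [Nat.Coprime, this]
  exact Nat.gcd_one_left _

omit [Finite X] in
/-- elements outside the kernel do not commute with non-identity elements of the kernel -/
theorem not_commute_of_not_mem_kernel (A N : Subgroup X) [hN : N.Normal]
    (hker : frobeniusKernel A = (N : Set X))
    (hfpf : ∀ a ∈ A, a ≠ 1 → N ⊓ Subgroup.centralizer {a} = ⊥) {x n : X} (hx : x ∉ N) (hn : n ∈ N)
    (hn1 : n ≠ 1) : x * n ≠ n * x := by
  intro hcomm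
  have hx' : x ∉ frobeniusKernel A := by rw [hker]; exact hx
  have hx1 : x ≠ 1 := fun h => hx (h ▸ N.one_mem)
  have hx'' : ¬ (x = 1 ∨ ∀ g : X, x ∉ MulAut.conj g • A) := hx'
  simp only [not_or, not_forall, not_not] at hx''
  obtain ⟨-, g, hg⟩ := hx''
  rw [mem_conj_smul_iff] at hg
  have ha1 : g⁻¹ * x * g ≠ 1 := by
    intro h
    apply hx1
    calc x = g * (g⁻¹ * x * g) * g⁻¹ := by group
      _ = 1 := by rw [h]; group
  have hmem : g⁻¹ * n * g ∈ N ⊓ Subgroup.centralizer {g⁻¹ * x * g} := by
    rw [Subgroup.mem_inf]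
    refine ⟨?_, ?_⟩
    · have := hN.conj_mem n hn g⁻¹
      simpa using this
    · rw [Subgroup.mem_centralizer_singleton_iff]
      calc g⁻¹ * n * g * (g⁻¹ * x * g) = g⁻¹ * (n * x) * g := by group
        _ = g⁻¹ * (x * n) * g := by rw [hcomm]
        _ = g⁻¹ * x * g * (g⁻¹ * n * g) := by group
  rw [hfpf _ hg ha1, Subgroup.mem_bot] at hmem
  apply hn1
  calc n = g * (g⁻¹ * n * g) * g⁻¹ := by group
    _ = 1 := by rw [hmem]; group

/-- a finite nilpotent group with commutative Sylow subgroups is commutative -/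
theorem isMulCommutative_of_isNilpotent_of_sylow [hnil : Group.IsNilpotent X]
    (h : ∀ (p : ℕ) [Fact p.Prime] (P : Sylow p X), IsMulCommutative P) : IsMulCommutative X := by
  obtain ⟨e⟩ := ((Group.isNilpotent_of_finite_tfae (G := X)).out 0 4).mp hnil
  refine ⟨⟨fun x y => ?_⟩⟩
  have hab : e.symm x * e.symm y = e.symm y * e.symm x := by
    funext p P
    have : Fact (p : ℕ).Prime := ⟨Nat.prime_of_mem_primeFactors p.2⟩
    exact (h p P).is_comm.comm _ _
  calc x * y = e (e.symm x * e.symm y) := by simp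
    _ = e (e.symm y * e.symm x) := by rw [hab]
    _ = y * x := by simp

/-- a nilpotent complement of odd order acting fixed-point-freely is cyclic -/
theorem isCyclic_of_nilpotent_odd_complement (N A : Subgroup X) [N.Normal]
    (hc : Subgroup.IsComplement' N A) (hN1 : N ≠ ⊥)
    (hfpf : ∀ a ∈ A, a ≠ 1 → N ⊓ Subgroup.centralizer {a} = ⊥) (hnil : Group.IsNilpotent A)
    (hodd : Odd (Nat.card A)) : IsCyclic A := by
  have hcomm : IsMulCommutative A := by
    apply isMulCommutative_of_isNilpotent_of_sylow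
    intro p _ P
    rcases Cfsg.Agent.S0040.result N A hc hN1 hfpf p P with h | ⟨n, ⟨e⟩⟩
    · let _ := IsCyclic.commGroup (α := (P : Subgroup A))
      exact ⟨⟨fun x y => mul_comm x y⟩⟩
    · exfalso
      have hcard : Nat.card (P : Subgroup A) = 4 * 2 ^ n := by
        rw [Nat.card_congr e.toEquiv, Nat.card_eq_fintype_card, QuaternionGroup.card]
      have hdvd : Nat.card (P : Subgroup A) ∣ Nat.card A := Subgroup.card_subgroup_dvd_card _
      rw [hcard] at hdvd
      have : Even (Nat.card A) := by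
        rw [even_iff_two_dvd]
        exact dvd_trans ⟨2 * 2 ^ n, by ring⟩ hdvd
      exact (Nat.not_even_iff_odd.mpr hodd) this
  have hsolv : Group.IsSolvable A := by
    let _ : CommGroup A :=
      { (inferInstance : Group A) with mul_comm := hcomm.is_comm.comm }
    infer_instance
  exact isCyclic_of_fpf N A hN1 hfpf hsolv (Or.inl hcomm)

omit [Finite X] in
/-- conjugation actions on a cyclic normal subgroup commute -/
theorem conj_comm_of_cyclic_normal (N : Subgroup X) [N.Normal] [IsCyclic N] (x y : X) {n : X}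
    (hn : n ∈ N) : (x * y) * n * (x * y)⁻¹ = (y * x) * n * (y * x)⁻¹ := by
  have h : MulAut.conjNormal (H := N) (x * y) = MulAut.conjNormal (y * x) := by
    rw [map_mul, map_mul]
    apply (IsCyclic.mulAutMulEquiv N).injective
    rw [map_mul, map_mul, mul_comm]
  have := congrArg (fun f => ((f ⟨n, hn⟩ : N) : X)) h
  simp only [MulAut.conjNormal_apply] at this
  rw [this]

end

end Cfsg.Agent.Lib.Helper35
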