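import Mathlib

/-!
# Involutory automorphisms of groups of odd order: elementary lemmas
-/

set_option autoImplicit false

namespace Cfsg.Agent.Lib.Helper35

section Fpf

variable {P : Type*} [Group P]

/-- An involutory endomorphism acting without nontrivial fixed points on a finite invariant
subgroup inverts every element of it. -/
theorem inv_of_fpf [Finite P] (Q : Subgroup P) (t : P →* P) (hQ : ∀ x ∈ Q, t x ∈ Q)
    (h2 : ∀ x ∈ Q, t (t x) = x) (hfpf : ∀ x ∈ Q, t x = x → x = 1) : ∀ x ∈ Q, t x = x⁻¹ := by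
  let φ : ↥Q → ↥Q := fun x => ⟨(x : P)⁻¹ * t x, Q.mul_mem (Q.inv_mem x.2) (hQ x x.2)⟩
  have hinj : Function.Injective φ := by
    intro x y hxy
    have h : (x : P)⁻¹ * t x = (y : P)⁻¹ * t y := congrArg Subtype.val hxy
    have h1 : t ((y : P) * (x : P)⁻¹) = (y : P) * (x : P)⁻¹ := by
      rw [map_mul, map_inv]
      have : t (y : P) = (y : P) * ((x : P)⁻¹ * t x) := by rw [h]; group
      rw [this]; group
    have h3 := hfpf _ (Q.mul_mem y.2 (Q.inv_mem x.2)) h1
    apply Subtype.ext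
    exact (mul_inv_eq_one.mp h3).symm
  have hsurj : Function.Surjective φ := Finite.surjective_of_injective hinj
  intro w hw
  obtain ⟨x, hx⟩ := hsurj ⟨w, hw⟩
  have hwx : w = (x : P)⁻¹ * t x := (congrArg Subtype.val hx).symm
  rw [hwx, map_mul, map_inv, h2 x x.2]
  group

end Fpf

section Cyclic

variable {P : Type*} [Group P]

/-- An involutory endomorphism preserving a cyclic subgroup of odd prime power order acts on it
as the identity or as inversion. -/
theorem eq_or_eq_inv_of_invol_of_cyclic {p : ℕ} (hp : p.Prime) (hp2 : p ≠ 2) (c : P) (e : ℕ)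
    (hc : orderOf c = p ^ e) (τ : P →* P) (h2 : τ (τ c) = c) (hmem : τ c ∈ Subgroup.zpowers c) :
    τ c = c ∨ τ c = c⁻¹ := by
  obtain ⟨m, hm⟩ := Subgroup.mem_zpowers_iff.mp hmem
  have h3 : c ^ (m * m - 1) = 1 := by
    have : τ (τ c) = c ^ (m * m) := by
      rw [← hm, map_zpow, ← hm, ← zpow_mul]
    rw [zpow_sub, zpow_one, ← this, h2, mul_inv_cancel]
  have hdvd : ((p ^ e : ℕ) : ℤ) ∣ (m - 1) * (m + 1) := by
    rw [← hc]
    have := orderOf_dvd_iff_zpow_eq_one.mpr h3
    have e1 : (m - 1) * (m + 1) = m * m - 1 := by ring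
    rwa [e1]
  have hpz : Prime (p : ℤ) := Nat.prime_iff_prime_int.mp hp
  by_cases hdiv : (p : ℤ) ∣ m - 1
  · -- then `p` does not divide `m + 1`
    have hnd : ¬ (p : ℤ) ∣ m + 1 := by
      intro h
      have h2' : (p : ℤ) ∣ 2 := by
        have := dvd_sub h hdiv
        have e1 : m + 1 - (m - 1) = 2 := by ring
        rwa [e1] at this
      have : p ∣ 2 := by exact_mod_cast h2'
      exact hp2 ((Nat.prime_dvd_prime_iff_eq hp Nat.prime_two).mp this)
    have hcop : IsCoprime ((p ^ e : ℕ) : ℤ) (m + 1) := by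
      push_cast
      exact IsCoprime.pow_left ((Prime.coprime_iff_not_dvd hpz).mpr hnd)
    have h4 : ((p ^ e : ℕ) : ℤ) ∣ m - 1 := hcop.dvd_of_dvd_mul_right hdvd
    left
    rw [← hc] at h4
    have := orderOf_dvd_iff_zpow_eq_one.mp h4
    rw [zpow_sub, zpow_one, mul_inv_eq_one] at this
    rw [← hm, this]
  · have hcop : IsCoprime ((p ^ e : ℕ) : ℤ) (m - 1) := by
      push_cast
      exact IsCoprime.pow_left ((Prime.coprime_iff_not_dvd hpz).mpr hdiv)
    have h4 : ((p ^ e : ℕ) : ℤ) ∣ m + 1 := hcop.dvd_of_dvd_mul_left hdvd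
    right
    rw [← hc] at h4
    have := orderOf_dvd_iff_zpow_eq_one.mp h4
    rw [zpow_add, zpow_one, mul_eq_one_iff_eq_inv] at this
    rw [← hm, this]

end Cyclic

section Comm

theorem four_split {G : Type*} [Group G] (hc : ∀ x y : G, x * y = y * x) (a b c d : G) :
    (a * b * c * d) * (a * b * c⁻¹ * d⁻¹) * (a * b⁻¹ * c * d⁻¹) * (a * b⁻¹ * c⁻¹ * d) = a ^ 4 := by
  let _ : CommGroup G := { (inferInstance : Group G) with mul_comm := hc }
  have h : ∀ x y z w : Additive G, (x + y + z + w) + (x + y + -z + -w) + (x + -y + z + -w)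
      + (x + -y + -z + w) = 4 • x := by
    intro x y z w; abel
  exact h (Additive.ofMul a) (Additive.ofMul b) (Additive.ofMul c) (Additive.ofMul d)

/-- A finite commutative group containing `p ^ 3` elements of order dividing `p` is not generated
by two elements. -/
theorem not_two_generated {P : Type*} [Group P] [Finite P] (hc : ∀ x y : P, x * y = y * x)
    (p : ℕ) (hp : p.Prime) (A : Subgroup P) (hA : ∀ x ∈ A, x ^ p = 1)
    (hcard : p ^ 3 ≤ Nat.card A) : ¬ ∃ a b : P, Subgroup.closure {a, b} = ⊤ := by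
  let _ : CommGroup P := { (inferInstance : Group P) with mul_comm := hc }
  rintro ⟨a, b, hab⟩
  have hp0 : 0 < p := hp.pos
  have : NeZero p := ⟨hp.ne_zero⟩
  let φ : P →* P := powMonoidHom p
  have hAker : A ≤ φ.ker := by
    intro x hx
    rw [MonoidHom.mem_ker]
    exact hA x hx
  have h1 : Nat.card φ.ker * Nat.card φ.range = Nat.card P := by
    rw [← Subgroup.index_ker, mul_comm]
    exact Subgroup.index_mul_card φ.ker
  -- a surjection from `Fin p × Fin p × range` onto `P`
  let g : Fin p × Fin p × ↥φ.range → P := fun x => a ^ (x.1 : ℕ) * b ^ (x.2.1 : ℕ) * (x.2.2 : P)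
  have hg : Function.Surjective g := by
    intro x
    have hx : x ∈ Subgroup.closure {a, b} := by rw [hab]; trivial
    obtain ⟨m, n, hmn⟩ := Subgroup.mem_closure_pair.mp hx
    have hm := Int.emod_add_mul_ediv m p
    have hn := Int.emod_add_mul_ediv n p
    have hm0 : 0 ≤ m % p := Int.emod_nonneg _ (by exact_mod_cast hp.ne_zero)
    have hn0 : 0 ≤ n % p := Int.emod_nonneg _ (by exact_mod_cast hp.ne_zero)
    have hm1 : m % p < p := Int.emod_lt_of_pos _ (by exact_mod_cast hp0)
    have hn1 : n % p < p := Int.emod_lt_of_pos _ (by exact_mod_cast hp0)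
    obtain ⟨i, hi⟩ := Int.eq_ofNat_of_zero_le hm0
    obtain ⟨j, hj⟩ := Int.eq_ofNat_of_zero_le hn0
    have hi' : i < p := by rw [hi] at hm1; exact_mod_cast hm1
    have hj' : j < p := by rw [hj] at hn1; exact_mod_cast hn1
    refine ⟨(⟨i, hi'⟩, ⟨j, hj'⟩, ⟨(a ^ (m / p) * b ^ (n / p)) ^ p, ⟨_, rfl⟩⟩), ?_⟩
    change a ^ i * b ^ j * (a ^ (m / p) * b ^ (n / p)) ^ p = x
    rw [← hmn]
    conv_rhs => rw [← hm, ← hn, hi, hj]
    rw [zpow_add, zpow_add, zpow_natCast, zpow_natCast, mul_pow, ← zpow_natCast (a ^ (m / p)),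
      ← zpow_natCast (b ^ (n / p)), ← zpow_mul, ← zpow_mul, mul_comm (m / p), mul_comm (n / p)]
    rw [mul_mul_mul_comm]
  have h2 : Nat.card P ≤ Nat.card (Fin p × Fin p × ↥φ.range) := Nat.card_le_card_of_surjective g hg
  rw [Nat.card_prod, Nat.card_prod, Nat.card_fin] at h2
  have h3 : Nat.card A ≤ Nat.card φ.ker := Subgroup.card_le_of_le hAker
  have hr : 0 < Nat.card φ.range := Nat.card_pos
  have h4 : p ^ 3 * Nat.card φ.range ≤ p * (p * Nat.card φ.range) := by
    calc p ^ 3 * Nat.card φ.range ≤ Nat.card φ.ker * Nat.card φ.range :=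
          Nat.mul_le_mul_right _ (le_trans hcard h3)
      _ = Nat.card P := h1
      _ ≤ _ := h2
  have h5 : p ^ 3 ≤ p * p := by
    have : p ^ 3 * Nat.card φ.range ≤ (p * p) * Nat.card φ.range := by rw [mul_assoc]; exact h4
    exact Nat.le_of_mul_le_mul_right this hr
  have hp2 : 2 ≤ p := hp.two_le
  have : p * p * 2 ≤ p * p * p := Nat.mul_le_mul_left _ hp2
  have h6 : p ^ 3 = p * p * p := by ring
  have h7 : 0 < p * p := Nat.mul_pos hp0 hp0
  omega

end Comm

end Cfsg.Agent.Lib.Helper35
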