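-- helper35: the perfect core (last term of the derived series) of a finite non-solvable group
import Mathlib

set_option autoImplicit false

namespace Cfsg.Agent.Lib.Helper35

variable {G : Type*} [Group G]

/-- In a finite group the derived series becomes stationary. -/
theorem exists_derivedSeries_succ_eq [Finite G] :
    ∃ n : ℕ, derivedSeries G (n + 1) = derivedSeries G n := by
  by_contra hcon
  push Not at hcon
  have hlt : ∀ n, derivedSeries G (n + 1) < derivedSeries G n := fun n =>
    lt_of_le_of_ne (derivedSeries_antitone G (Nat.le_succ n)) (hcon n)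
  have hcard : ∀ n, Nat.card (derivedSeries G n) + n ≤ Nat.card G := by
    intro n
    induction n with
    | zero => simp [derivedSeries_zero]
    | succ n ih =>
      have h1 : Nat.card (derivedSeries G (n + 1)) < Nat.card (derivedSeries G n) := by
        have hle : derivedSeries G (n + 1) ≤ derivedSeries G n := (hlt n).le
        rcases Nat.lt_or_ge (Nat.card (derivedSeries G (n + 1))) (Nat.card (derivedSeries G n)) with h | h
        · exact h
        · exact absurd (Subgroup.eq_of_le_of_card_ge hle h) (hlt n).ne
      omega
  have h1 := hcard (Nat.card G + 1)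
  omega

/-- A finite non-solvable group has a nontrivial perfect normal subgroup. -/
theorem exists_perfect_normal_of_not_isSolvable [Finite G] (h : ¬ Group.IsSolvable G) :
    ∃ D : Subgroup G, D.Normal ∧ D ≠ ⊥ ∧ ⁅D, D⁆ = D := by
  obtain ⟨n, hn⟩ := exists_derivedSeries_succ_eq (G := G)
  refine ⟨derivedSeries G n, inferInstance, ?_, ?_⟩
  · intro hb
    exact h ((Group.isSolvable_def G).mpr ⟨n, hb⟩)
  · rw [← derivedSeries_succ]; exact hn

end Cfsg.Agent.Lib.Helper35
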