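-- helper35: a normal non-solvable perfect subgroup D of order 120 in a finite group Γ:
-- action of Γ on the six Sylow 5-subgroups of D, and |Γ : D C_Γ(D)| ≤ 2.
import Mathlib
import Cfsg.Agent.S3378

set_option autoImplicit false

namespace Cfsg.Agent.Lib.Helper35.SL25Compl

open scoped Pointwise

universe u

section small

variable {E : Type u} [Group E] [Finite E]

/-- In a non-solvable group of order 120 every normal subgroup of order `< 60` has order `≤ 2`. -/
theorem card_le_two_of_normal (hcard : Nat.card E = 120) (hns : ¬ Group.IsSolvable E)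
    (K : Subgroup E) [K.Normal] (hK : Nat.card K < 60) : Nat.card K ≤ 2 := by
  have sK : Group.IsSolvable K := Cfsg.Agent.S3378.solvable_of_card_lt_sixty _ K rfl hK
  have nsQ : ¬ Group.IsSolvable (E ⧸ K) := fun h =>
    hns (Cfsg.Agent.S3378.solvable_of_normal K sK h)
  have hQ60 : 60 ≤ Nat.card (E ⧸ K) := by
    by_contra hlt
    push Not at hlt
    exact nsQ (Cfsg.Agent.S3378.solvable_of_card_lt_sixty _ _ rfl hlt)
  have hmul := Subgroup.card_mul_index K
  rw [hcard, Subgroup.index_eq_card] at hmul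
  have hKpos : 0 < Nat.card K := Nat.card_pos
  by_contra hgt
  push Not at hgt
  nlinarith

omit [Finite E] in
/-- A normal subgroup with at most two elements is central. -/
theorem le_center_of_card_le_two (K : Subgroup E) [K.Normal] [Finite K] (h : Nat.card K ≤ 2) :
    K ≤ Subgroup.center E := by
  intro k hk
  rw [Subgroup.mem_center_iff]
  intro g
  by_cases hk1 : k = 1
  · subst hk1; simp
  have hconj : g * k * g⁻¹ ∈ K := Subgroup.Normal.conj_mem inferInstance k hk g
  -- three elements 1, k, g k g⁻¹ of K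
  let f : Fin 3 → K := ![1, ⟨k, hk⟩, ⟨g * k * g⁻¹, hconj⟩]
  have := Fintype.ofFinite K
  have hlt : Fintype.card K < Fintype.card (Fin 3) := by
    rw [← Nat.card_eq_fintype_card, Fintype.card_fin]; omega
  obtain ⟨i, j, hij, hf⟩ := Fintype.exists_ne_map_eq_of_card_lt f hlt
  have h01 : (1 : E) ≠ k := fun h => hk1 h.symm
  have h02 : (1 : E) ≠ g * k * g⁻¹ := by
    intro h
    apply hk1
    have : g * k * g⁻¹ = 1 := h.symm
    have h2 : k = g⁻¹ * (g * k * g⁻¹) * g := by group
    rw [h2, this]; group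
  have hfv : ((f i : K) : E) = ((f j : K) : E) := congrArg Subtype.val hf
  have key : k = g * k * g⁻¹ := by
    fin_cases i <;> fin_cases j <;> simp [f] at hij hfv <;> first
      | exact absurd hfv h01 | exact absurd hfv.symm h01
      | exact absurd hfv h02 | exact absurd hfv.symm h02
      | exact hfv | exact hfv.symm
  calc g * k = (g * k * g⁻¹) * g := by group
    _ = k * g := by rw [← key]

end small

section action

variable {Γ : Type u} [Group Γ] (D : Subgroup Γ) [D.Normal]

instance fact5 : Fact (Nat.Prime 5) := ⟨by norm_num⟩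

/-- the action of `Γ` on the Sylow 5-subgroups of the normal subgroup `D` -/
noncomputable def rho : Γ →* Equiv.Perm (Sylow 5 D) :=
  (MulAction.toPermHom (MulAut D) (Sylow 5 D)).comp MulAut.conjNormal

theorem mem_rho_apply (g : Γ) (Q : Sylow 5 D) (x : D) :
    x ∈ (rho D g Q : Sylow 5 D) ↔ ∃ q ∈ Q, (MulAut.conjNormal g : MulAut D) q = x := by
  change x ∈ ((MulAut.conjNormal g : MulAut D) • (Q : Subgroup D)) ↔ _
  rw [Subgroup.mem_smul_pointwise_iff_exists]
  rfl

theorem rho_coe (d : D) (Q : Sylow 5 D) : rho D (d : Γ) Q = d • Q := by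
  rw [Sylow.smul_def]
  change ((MulAut.conjNormal (d : Γ) : MulAut D) • Q : Sylow 5 D) = _
  congr 1
  ext x
  simp [MulAut.conjNormal_apply]

theorem rho_eq_self_iff (g : Γ) (Q : Sylow 5 D) :
    rho D g Q = Q ↔ g ∈ Subgroup.normalizer (((Q : Subgroup D).map D.subtype : Subgroup Γ) : Set Γ) := by
  constructor
  · intro h
    rw [Subgroup.mem_normalizer_iff]
    intro y
    constructor
    · intro hy
      obtain ⟨q, hq, rfl⟩ := Subgroup.mem_map.mp hy
      have : (MulAut.conjNormal g : MulAut D) q ∈ (rho D g Q : Sylow 5 D) :=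
        (mem_rho_apply D g Q _).mpr ⟨q, hq, rfl⟩
      rw [h] at this
      refine Subgroup.mem_map.mpr ⟨_, this, ?_⟩
      simp [MulAut.conjNormal_apply]
    · intro hy
      obtain ⟨q', hq', hq'e⟩ := Subgroup.mem_map.mp hy
      rw [← h] at hq'
      obtain ⟨q, hq, hqe⟩ := (mem_rho_apply D g Q _).mp hq'
      have h1 : g * (q : Γ) * g⁻¹ = g * y * g⁻¹ := by
        have := congrArg (fun t : D => (t : Γ)) hqe
        simp only [MulAut.conjNormal_apply] at this
        rw [this]; exact hq'e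
      have h2 : (q : Γ) = y := by
        have := mul_left_cancel (mul_right_cancel h1)
        exact this
      rw [← h2]
      exact Subgroup.mem_map.mpr ⟨q, hq, rfl⟩
  · intro h
    rw [Subgroup.mem_normalizer_iff] at h
    apply Sylow.ext
    ext x
    change x ∈ (rho D g Q : Sylow 5 D) ↔ x ∈ Q
    rw [mem_rho_apply]
    constructor
    · rintro ⟨q, hq, rfl⟩
      have h1 : g * (q : Γ) * g⁻¹ ∈ (Q : Subgroup D).map D.subtype :=
        (h _).mp (Subgroup.mem_map.mpr ⟨q, hq, rfl⟩)
      obtain ⟨q', hq', hq'e⟩ := Subgroup.mem_map.mp h1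
      have : q' = (MulAut.conjNormal g : MulAut D) q := by
        apply Subtype.ext
        simp only [MulAut.conjNormal_apply]
        exact hq'e
      rw [← this]; exact hq'
    · intro hx
      have h1 : g⁻¹ * (x : Γ) * g ∈ (Q : Subgroup D).map D.subtype := by
        rw [h]
        have : g * (g⁻¹ * (x : Γ) * g) * g⁻¹ = x := by group
        rw [this]
        exact Subgroup.mem_map.mpr ⟨x, hx, rfl⟩
      obtain ⟨q, hq, hqe⟩ := Subgroup.mem_map.mp h1
      refine ⟨q, hq, ?_⟩
      apply Subtype.ext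
      simp only [MulAut.conjNormal_apply]
      have : (q : Γ) = g⁻¹ * (x : Γ) * g := hqe
      rw [this]; group

end action

section main

variable {Γ : Type u} [Group Γ] [Finite Γ] (D : Subgroup Γ) [D.Normal]

omit [D.Normal] in
theorem card_sylow_five (hD : Nat.card D = 120) (P : Sylow 5 D) :
    Nat.card (P : Subgroup D) = 5 := by
  rw [Sylow.card_eq_multiplicity, hD]
  have : (120 : ℕ).factorization 5 = 1 := by decide +kernel
  rw [this]; norm_num

omit [D.Normal] in
theorem card_normalizer_sylow (hD : Nat.card D = 120) (hns : ¬ Group.IsSolvable D)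
    (P : Sylow 5 D) : Nat.card (Subgroup.normalizer (P : Set D)) = 20 := by
  have h6 := Cfsg.Agent.S3378.card_sylow5 hD hns
  have h1 := Sylow.card_eq_index_normalizer P
  have h2 := Subgroup.card_mul_index (Subgroup.normalizer (P : Set D))
  rw [← h1, h6, hD] at h2
  omega

theorem ker_rho_le_centralizer (hD : Nat.card D = 120) (hns : ¬ Group.IsSolvable D)
    (hperf : ⁅D, D⁆ = D) : (rho D).ker ≤ Subgroup.centralizer (D : Set Γ) := by
  set K₀ := (rho D).ker with hK₀
  have hKd_le : ∀ k : D, (k : Γ) ∈ K₀ → ∀ P : Sylow 5 D,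
      k ∈ Subgroup.normalizer (P : Set D) := by
    intro k hk P
    rw [← Sylow.smul_eq_iff_mem_normalizer, ← rho_coe]
    have : rho D (k : Γ) = 1 := MonoidHom.mem_ker.mp hk
    rw [this]; rfl
  have P : Sylow 5 D := default
  have hcardKd : Nat.card (K₀.subgroupOf D) ≤ 2 := by
    have hle : K₀.subgroupOf D ≤ Subgroup.normalizer (P : Set D) := by
      intro k hk
      exact hKd_le k (Subgroup.mem_subgroupOf.mp hk) P
    have h20 := card_normalizer_sylow D hD hns P
    have : Nat.card (K₀.subgroupOf D) ≤ 20 := by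
      rw [← h20]; exact Subgroup.card_le_of_le hle
    exact card_le_two_of_normal hD hns (K₀.subgroupOf D) (by omega)
  have hcen : K₀.subgroupOf D ≤ Subgroup.center D := le_center_of_card_le_two _ hcardKd
  have hinf : K₀ ⊓ D ≤ Subgroup.centralizer (D : Set Γ) := by
    intro x hx
    rw [Subgroup.mem_centralizer_iff]
    intro d hd
    have hxD : x ∈ D := hx.2
    have hmem : (⟨x, hxD⟩ : D) ∈ Subgroup.center D := hcen (Subgroup.mem_subgroupOf.mpr hx.1)
    have h := (Subgroup.mem_center_iff.mp hmem) ⟨d, hd⟩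
    exact congrArg Subtype.val h
  have h1 : ⁅⁅K₀, D⁆, D⁆ = ⊥ := by
    rw [Subgroup.commutator_eq_bot_iff_le_centralizer]
    exact (Subgroup.commutator_le_inf K₀ D).trans hinf
  have h2 : ⁅⁅D, K₀⁆, D⁆ = ⊥ := by
    rw [Subgroup.commutator_comm D K₀]; exact h1
  have h3 : ⁅⁅D, D⁆, K₀⁆ = ⊥ := Subgroup.commutator_commutator_eq_bot_of_rotate h2 h1
  rw [hperf, Subgroup.commutator_eq_bot_iff_le_centralizer] at h3
  exact Subgroup.le_centralizer_iff.mp h3

omit [D.Normal] in
/-- a Sylow 5-subgroup `P` of `D` is transitive on the other five Sylow 5-subgroups -/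
theorem exists_smul_eq_of_ne (hD : Nat.card D = 120) (hns : ¬ Group.IsSolvable D)
    (P Q Q' : Sylow 5 D) (hQ : Q ≠ P) (hQ' : Q' ≠ P) : ∃ v : D, v ∈ P ∧ v • Q = Q' := by
  have h6 := Cfsg.Agent.S3378.card_sylow5 hD hns
  have hP5 := card_sylow_five D hD P
  have hQ5 := card_sylow_five D hD Q
  have hPQ : (P : Subgroup D) ⊓ (Q : Subgroup D) = ⊥ := by
    have hdvd : Nat.card ((P : Subgroup D) ⊓ (Q : Subgroup D) : Subgroup D) ∣ 5 := by
      have := Subgroup.card_dvd_of_le (inf_le_left : (P : Subgroup D) ⊓ (Q : Subgroup D) ≤ P)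
      rwa [hP5] at this
    rcases (Nat.dvd_prime (by norm_num : Nat.Prime 5)).mp hdvd with h | h
    · exact Subgroup.card_eq_one.mp h
    · exfalso
      have h1 : (P : Subgroup D) ⊓ (Q : Subgroup D) = P :=
        Subgroup.eq_of_le_of_card_ge inf_le_left (by rw [h, hP5])
      have h2 : (P : Subgroup D) ≤ Q := by rw [← h1]; exact inf_le_right
      have h3 : (P : Subgroup D) = Q := Subgroup.eq_of_le_of_card_ge h2 (by rw [hP5, hQ5])
      exact hQ (Sylow.ext h3.symm)
  let f : ↥(P : Subgroup D) → {R : Sylow 5 D // R ≠ P} := fun v => ⟨(v : D) • Q, by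
    intro h
    apply hQ
    have hv : ((v : D)⁻¹) • P = P :=
      Sylow.smul_eq_iff_mem_normalizer.mpr (Subgroup.le_normalizer ((P : Subgroup D).inv_mem v.2))
    calc Q = ((v : D)⁻¹) • ((v : D) • Q) := by rw [smul_smul, inv_mul_cancel, one_smul]
      _ = ((v : D)⁻¹) • P := by rw [h]
      _ = P := hv⟩
  have hinj : Function.Injective f := by
    intro v w hvw
    have h1 : (v : D) • Q = (w : D) • Q := congrArg Subtype.val hvw
    have h2 : ((w : D)⁻¹ * (v : D)) • Q = Q := by
      rw [mul_smul, h1, smul_smul, inv_mul_cancel, one_smul]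
    have h3 : (w : D)⁻¹ * (v : D) ∈ (P : Subgroup D) ⊓ Subgroup.normalizer (Q : Set D) :=
      ⟨(P : Subgroup D).mul_mem ((P : Subgroup D).inv_mem w.2) v.2,
        Sylow.smul_eq_iff_mem_normalizer.mp h2⟩
    rw [IsPGroup.inf_normalizer_sylow P.2 Q, hPQ, Subgroup.mem_bot] at h3
    apply Subtype.ext
    have : (v : D) = (w : D) * ((w : D)⁻¹ * (v : D)) := by group
    rw [this, h3, mul_one]
  have hcard : Nat.card {R : Sylow 5 D // R ≠ P} ≤ Nat.card (P : Subgroup D) := by
    classical
    have h := Nat.card_congr (Equiv.optionSubtypeNe P)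
    rw [Finite.card_option, h6] at h
    omega
  have hbij := hinj.bijective_of_nat_card_le hcard
  obtain ⟨v, hv⟩ := hbij.2 ⟨Q', hQ'⟩
  exact ⟨v, v.2, congrArg Subtype.val hv⟩

theorem exists_mul_mem_ker (hD : Nat.card D = 120) (hns : ¬ Group.IsSolvable D)
    (P : Sylow 5 D) (x : Γ)
    (hx : x ∈ Subgroup.centralizer (((P : Subgroup D).map D.subtype : Subgroup Γ) : Set Γ)) :
    ∃ u : D, u ∈ P ∧ (u : Γ)⁻¹ * x ∈ (rho D).ker := by
  have h6 := Cfsg.Agent.S3378.card_sylow5 hD hns
  have hP5 := card_sylow_five D hD P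
  have hnt : Nontrivial (Sylow 5 D) := by
    rw [← Finite.one_lt_card_iff_nontrivial, h6]; norm_num
  obtain ⟨Q, hQ⟩ := exists_ne P
  have hxN : x ∈ Subgroup.normalizer (((P : Subgroup D).map D.subtype : Subgroup Γ) : Set Γ) :=
    Subgroup.centralizer_le_normalizer _ hx
  have hxP : rho D x P = P := (rho_eq_self_iff D x P).mpr hxN
  have hQ1 : rho D x Q ≠ P := by
    intro h
    apply hQ
    exact (rho D x).injective (h.trans hxP.symm)
  obtain ⟨u, hu, huQ⟩ := exists_smul_eq_of_ne D hD hns P Q (rho D x Q) hQ hQ1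
  refine ⟨u, hu, ?_⟩
  set y : Γ := (u : Γ)⁻¹ * x with hy
  -- P is commutative
  have hPc : ∀ a ∈ (P : Subgroup D), ∀ b ∈ (P : Subgroup D), a * b = b * a := by
    intro a ha b hb
    have hcyc : IsCyclic (P : Subgroup D) :=
      isCyclic_of_prime_card (p := 5) hP5
    have := (IsCyclic.isMulCommutative (α := (P : Subgroup D))).is_comm.comm ⟨a, ha⟩ ⟨b, hb⟩
    exact congrArg Subtype.val this
  have hyv : ∀ v : D, v ∈ P → y * (v : Γ) = (v : Γ) * y := by
    intro v hv
    have h1 : (v : Γ) * x = x * (v : Γ) :=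
      (Subgroup.mem_centralizer_iff.mp hx) _ (Subgroup.mem_map.mpr ⟨v, hv, rfl⟩)
    have h2 : (u : Γ) * (v : Γ) = (v : Γ) * (u : Γ) := by
      have := hPc u hu v hv
      exact_mod_cast congrArg Subtype.val this
    have h3 : (u : Γ)⁻¹ * (v : Γ) = (v : Γ) * (u : Γ)⁻¹ := by
      calc (u : Γ)⁻¹ * (v : Γ) = (u : Γ)⁻¹ * ((v : Γ) * (u : Γ)) * (u : Γ)⁻¹ := by group
        _ = (u : Γ)⁻¹ * ((u : Γ) * (v : Γ)) * (u : Γ)⁻¹ := by rw [h2]
        _ = (v : Γ) * (u : Γ)⁻¹ := by group
    calc y * (v : Γ) = (u : Γ)⁻¹ * (x * (v : Γ)) := by rw [hy]; group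
      _ = (u : Γ)⁻¹ * ((v : Γ) * x) := by rw [h1]
      _ = ((u : Γ)⁻¹ * (v : Γ)) * x := by group
      _ = ((v : Γ) * (u : Γ)⁻¹) * x := by rw [h3]
      _ = (v : Γ) * y := by rw [hy]; group
  have hyQ : rho D y Q = Q := by
    rw [hy, map_mul, Equiv.Perm.mul_apply, ← huQ, ← rho_coe, ← Equiv.Perm.mul_apply, ← map_mul,
      inv_mul_cancel, map_one]
    rfl
  have hyP : rho D y P = P := by
    rw [rho_eq_self_iff]
    refine Subgroup.mul_mem _ (Subgroup.inv_mem _ ?_) hxN
    exact Subgroup.le_normalizer (Subgroup.mem_map.mpr ⟨u, hu, rfl⟩)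
  rw [MonoidHom.mem_ker]
  apply Equiv.ext
  intro R
  rw [Equiv.Perm.one_apply]
  by_cases hR : R = P
  · rw [hR]; exact hyP
  · obtain ⟨v, hv, hvR⟩ := exists_smul_eq_of_ne D hD hns P Q R hQ hR
    rw [← hvR, ← rho_coe, ← Equiv.Perm.mul_apply, ← map_mul, hyv v hv, map_mul,
      Equiv.Perm.mul_apply, hyQ]

end main

end Cfsg.Agent.Lib.Helper35.SL25Compl
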