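-- helper35: |Γ : D C_Γ(D)| ≤ 2 for a normal perfect non-solvable subgroup D of order 120.
import Mathlib
import Cfsg.Agent.Lib.Helper35.SL25ComplA

set_option autoImplicit false

namespace Cfsg.Agent.Lib.Helper35.SL25Compl

open scoped Pointwise

universe u v

/-- orbit-stabilizer for a transitive permutation representation -/
theorem card_eq_card_mul_card_stabilizer {Γ : Type u} {X : Type v} [Group Γ] [Finite Γ] [Finite X]
    (φ : Γ →* Equiv.Perm X) (x : X) (htrans : ∀ y, ∃ g, φ g x = y) (S : Subgroup Γ)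
    (hS : ∀ g, g ∈ S ↔ φ g x = x) : Nat.card Γ = Nat.card X * Nat.card S := by
  let _ : MulAction Γ X := MulAction.compHom X φ
  have hsmul : ∀ g (y : X), g • y = φ g y := fun g y => rfl
  have : MulAction.IsPretransitive Γ X := ⟨fun a b => by
    obtain ⟨g, hg⟩ := htrans a
    obtain ⟨h, hh⟩ := htrans b
    refine ⟨h * g⁻¹, ?_⟩
    rw [hsmul, ← hg, map_mul, map_inv]
    simp [hh]⟩
  have hstab : MulAction.stabilizer Γ x = S := by
    ext g
    rw [MulAction.mem_stabilizer_iff, hsmul, hS]
  have h1 := MulAction.index_stabilizer_of_transitive Γ x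
  have h2 := Subgroup.card_mul_index (MulAction.stabilizer Γ x)
  rw [h1, hstab] at h2
  rw [← h2, mul_comm]

section general

variable {Γ : Type u} [Group Γ] [Finite Γ]

omit [Finite Γ] in
theorem card_mul_relIndex_of_le {H K : Subgroup Γ} (h : H ≤ K) :
    Nat.card H * H.relIndex K = Nat.card K := by
  have := Subgroup.relIndex_mul_relIndex (⊥ : Subgroup Γ) H K bot_le h
  rwa [Subgroup.relIndex_bot_left, Subgroup.relIndex_bot_left] at this

theorem card_normalizer_le_of_card_five (P : Subgroup Γ) (hP : Nat.card P = 5) :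
    Nat.card (Subgroup.normalizer (P : Set Γ)) ≤
      4 * Nat.card (Subgroup.centralizer (P : Set Γ)) := by
  have hcyc : IsCyclic P := isCyclic_of_prime_card (p := 5) hP
  have haut : Nat.card (MulAut P) = 4 := by
    rw [IsCyclic.card_mulAut, hP]; decide
  set f := Subgroup.normalizerMonoidHom P with hf
  have hker : f.ker = (Subgroup.centralizer (P : Set Γ)).subgroupOf
      (Subgroup.normalizer (P : Set Γ)) := Subgroup.normalizerMonoidHom_ker P
  have h1 : Nat.card f.ker * f.ker.index = Nat.card (Subgroup.normalizer (P : Set Γ)) :=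
    Subgroup.card_mul_index _
  have h2 : f.ker.index = Nat.card f.range := Subgroup.index_ker f
  have h3 : Nat.card f.range ∣ 4 := haut ▸ Subgroup.card_subgroup_dvd_card f.range
  have h4 : Nat.card f.ker = Nat.card (Subgroup.centralizer (P : Set Γ)) := by
    rw [hker]
    exact Nat.card_congr
      (Subgroup.subgroupOfEquivOfLe (Subgroup.centralizer_le_normalizer _)).toEquiv
  have h5 : Nat.card f.range ≤ 4 := Nat.le_of_dvd (by norm_num) h3
  rw [← h1, h2, h4]
  nlinarith [Nat.zero_le (Nat.card (Subgroup.centralizer (P : Set Γ)))]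

/-- `|P ⊔ C| ≤ |P| |C|` for normal `C` -/
theorem card_sup_le_of_normal (P C : Subgroup Γ) [C.Normal] :
    Nat.card (P ⊔ C : Subgroup Γ) ≤ Nat.card P * Nat.card C := by
  have h1 := card_mul_relIndex_of_le (le_sup_right : C ≤ P ⊔ C)
  rw [Subgroup.relIndex_sup_right] at h1
  have h2 : C.relIndex P ∣ Nat.card P := Subgroup.relIndex_dvd_card C P
  have h3 : C.relIndex P ≤ Nat.card P := Nat.le_of_dvd Nat.card_pos h2
  rw [← h1]
  nlinarith [Nat.zero_le (Nat.card C)]

end general

section main

variable {Γ : Type u} [Group Γ] [Finite Γ] (D : Subgroup Γ) [D.Normal]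

theorem card_eq_six_mul (hD : Nat.card D = 120) (hns : ¬ Group.IsSolvable D) (P : Sylow 5 D) :
    Nat.card Γ = 6 * Nat.card (Subgroup.normalizer
      (((P : Subgroup D).map D.subtype : Subgroup Γ) : Set Γ)) := by
  have h6 := Cfsg.Agent.S3378.card_sylow5 hD hns
  rw [← h6]
  apply card_eq_card_mul_card_stabilizer (rho D) P
  · intro Q
    obtain ⟨d, hd⟩ := MulAction.exists_smul_eq D P Q
    exact ⟨(d : Γ), by rw [rho_coe]; exact hd⟩
  · intro g
    exact (rho_eq_self_iff D g P).symm

/-- a solvable normal subgroup of a non-solvable group of order 120 has order at most 2 -/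
theorem card_le_two_of_normal_solvable {E : Type u} [Group E] [Finite E]
    (hcard : Nat.card E = 120) (hns : ¬ Group.IsSolvable E)
    (K : Subgroup E) [K.Normal] (sK : Group.IsSolvable K) : Nat.card K ≤ 2 := by
  have nsQ : ¬ Group.IsSolvable (E ⧸ K) := fun h =>
    hns (Cfsg.Agent.S3378.solvable_of_normal K sK h)
  have hQ60 : 60 ≤ Nat.card (E ⧸ K) := by
    by_contra hlt
    push Not at hlt
    exact nsQ (Cfsg.Agent.S3378.solvable_of_card_lt_sixty _ _ rfl hlt)
  have hmul := Subgroup.card_mul_index K
  rw [hcard, Subgroup.index_eq_card] at hmul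
  have hKpos : 0 < Nat.card K := Nat.card_pos
  by_contra hgt
  push Not at hgt
  nlinarith

/-- `D ∩ C_Γ(D)` has at most two elements -/
theorem card_centralizer_subgroupOf_le (hD : Nat.card D = 120) (hns : ¬ Group.IsSolvable D) :
    Nat.card ((Subgroup.centralizer (D : Set Γ)).subgroupOf D) ≤ 2 := by
  have hcomm : ∀ a b : (Subgroup.centralizer (D : Set Γ)).subgroupOf D, a * b = b * a := by
    intro a b
    apply Subtype.ext
    apply Subtype.ext
    have ha : ((a : D) : Γ) ∈ Subgroup.centralizer (D : Set Γ) := Subgroup.mem_subgroupOf.mp a.2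
    have := (Subgroup.mem_centralizer_iff.mp ha) ((b : D) : Γ) (b : D).2
    simpa using this.symm
  exact card_le_two_of_normal_solvable hD hns _ (Group.isSolvable_of_comm hcomm)

theorem sixty_mul_card_le (hD : Nat.card D = 120) (hns : ¬ Group.IsSolvable D) :
    60 * Nat.card (Subgroup.centralizer (D : Set Γ)) ≤
      Nat.card (D ⊔ Subgroup.centralizer (D : Set Γ) : Subgroup Γ) := by
  set C := Subgroup.centralizer (D : Set Γ) with hC
  have h1 := card_mul_relIndex_of_le (le_sup_right : C ≤ D ⊔ C)
  rw [Subgroup.relIndex_sup_right] at h1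
  have h2 := Subgroup.card_mul_index (C.subgroupOf D)
  rw [hD] at h2
  have h3 := card_centralizer_subgroupOf_le D hD hns
  have h4 : C.relIndex D = (C.subgroupOf D).index := rfl
  have h5 : 60 ≤ C.relIndex D := by
    rw [h4]
    have hpos : 0 < Nat.card (C.subgroupOf D) := Nat.card_pos
    by_contra hlt
    push Not at hlt
    nlinarith
  rw [← h1]
  nlinarith [Nat.zero_le (Nat.card C)]

theorem card_le_mul_card_centralizer (hD : Nat.card D = 120) (hns : ¬ Group.IsSolvable D)
    (hperf : ⁅D, D⁆ = D) :
    Nat.card Γ ≤ 120 * Nat.card (Subgroup.centralizer (D : Set Γ)) := by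
  set C := Subgroup.centralizer (D : Set Γ) with hC
  have P' : Sylow 5 D := default
  set P : Subgroup Γ := (P' : Subgroup D).map D.subtype with hP
  have hP5 : Nat.card P = 5 := by
    rw [hP, Subgroup.card_map_of_injective D.subtype_injective]
    exact card_sylow_five D hD P'
  have h1 : Nat.card Γ = 6 * Nat.card (Subgroup.normalizer (P : Set Γ)) :=
    card_eq_six_mul D hD hns P'
  have h2 := card_normalizer_le_of_card_five P hP5
  have h3 : Subgroup.centralizer (P : Set Γ) ≤ P ⊔ C := by
    intro x hx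
    obtain ⟨u, hu, hux⟩ := exists_mul_mem_ker D hD hns P' x hx
    have hc : (u : Γ)⁻¹ * x ∈ C := ker_rho_le_centralizer D hD hns hperf hux
    have hu' : (u : Γ) ∈ P := Subgroup.mem_map.mpr ⟨u, hu, rfl⟩
    have : x = (u : Γ) * ((u : Γ)⁻¹ * x) := by group
    rw [this]
    exact Subgroup.mul_mem _ (Subgroup.mem_sup_left hu') (Subgroup.mem_sup_right hc)
  have h4 := Subgroup.card_le_of_le h3
  have h5 := card_sup_le_of_normal P C
  rw [hP5] at h5
  rw [h1]
  omega

/-- `D C_Γ(D)` has index one or two -/
theorem index_sup_centralizer (hD : Nat.card D = 120) (hns : ¬ Group.IsSolvable D)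
    (hperf : ⁅D, D⁆ = D) :
    (D ⊔ Subgroup.centralizer (D : Set Γ) : Subgroup Γ).index = 1 ∨
      (D ⊔ Subgroup.centralizer (D : Set Γ) : Subgroup Γ).index = 2 := by
  set C := Subgroup.centralizer (D : Set Γ) with hC
  have h1 := sixty_mul_card_le D hD hns
  have h2 := card_le_mul_card_centralizer D hD hns hperf
  have h3 := Subgroup.card_mul_index (D ⊔ C : Subgroup Γ)
  have hpos : 0 < (D ⊔ C : Subgroup Γ).index := Nat.pos_of_ne_zero Subgroup.index_ne_zero_of_finite
  have hCpos : 0 < Nat.card C := Nat.card_pos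
  have hle : (D ⊔ C : Subgroup Γ).index ≤ 2 := by
    by_contra hgt
    push Not at hgt
    nlinarith
  omega

end main

end Cfsg.Agent.Lib.Helper35.SL25Compl
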