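-- helper35: structure of a finite group Γ with a unique involution, whose p-subgroups have at most
-- one subgroup of order p, and with a normal perfect non-solvable subgroup D of order 120.
import Mathlib
import Cfsg.Agent.S0016
import Cfsg.Agent.Lib.Helper35.SL25ComplB

set_option autoImplicit false

namespace Cfsg.Agent.Lib.Helper35.SL25Compl

open scoped Pointwise

universe u

/-- all involutions coincide -/
def UniqueInvol (Γ : Type u) [Group Γ] : Prop :=
  ∀ a b : Γ, orderOf a = 2 → orderOf b = 2 → a = b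

/-- every `p`-subgroup has at most one subgroup of order `p` -/
def UniqueOrderP (Γ : Type u) [Group Γ] : Prop :=
  ∀ (p : ℕ) [Fact p.Prime] (Q : Subgroup Γ), IsPGroup p Q →
    ∀ C₁ C₂ : Subgroup Q, Nat.card C₁ = p → Nat.card C₂ = p → C₁ = C₂

section elementary

variable {Γ : Type u} [Group Γ]

theorem orderOf_eq_two_of_sq {x : Γ} (h1 : x * x = 1) (h2 : x ≠ 1) : orderOf x = 2 :=
  orderOf_eq_prime (by rw [pow_two]; exact h1) h2

theorem central_of_uniqueInvol (hinv : UniqueInvol Γ) {z : Γ} (hz : orderOf z = 2) (g : Γ) :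
    g * z = z * g := by
  have h1 : orderOf (g * z * g⁻¹) = 2 := by
    have := (MulAut.conj g).orderOf_eq z
    rw [MulAut.conj_apply] at this
    rw [this, hz]
  have h2 := hinv _ _ h1 hz
  calc g * z = (g * z * g⁻¹) * g := by group
    _ = z * g := by rw [h2]

/-- an element of 2-power order is trivial, an involution, or has a power whose square is an
involution -/
theorem two_power_cases (t : Γ) (k : ℕ) (hk : orderOf t = 2 ^ k) :
    t = 1 ∨ orderOf t = 2 ∨ ∃ c ∈ Subgroup.zpowers t, orderOf (c * c) = 2 := by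
  rcases k with _ | _ | k
  · left
    rw [pow_zero] at hk
    exact orderOf_eq_one_iff.mp hk
  · right; left
    simpa using hk
  · right; right
    refine ⟨t ^ (2 ^ k), Subgroup.pow_mem _ (Subgroup.mem_zpowers t) _, ?_⟩
    apply orderOf_eq_two_of_sq
    · rw [← pow_add, ← pow_add]
      have : 2 ^ k + 2 ^ k + (2 ^ k + 2 ^ k) = 2 ^ (k + 1 + 1) := by ring
      rw [this, ← hk]
      exact pow_orderOf_eq_one t
    · rw [← pow_add]
      intro h
      have hdvd := orderOf_dvd_of_pow_eq_one h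
      rw [hk] at hdvd
      have h2 : 2 ^ k + 2 ^ k = 2 ^ (k + 1) := by ring
      rw [h2] at hdvd
      have := Nat.le_of_dvd (by positivity) hdvd
      have h3 : 2 ^ (k + 1 + 1) = 2 * 2 ^ (k + 1) := by ring
      have h4 : 0 < 2 ^ (k + 1) := by positivity
      omega

end elementary

section partC

variable {Γ : Type u} [Group Γ] [Finite Γ] (D : Subgroup Γ) [D.Normal]

omit [D.Normal] in
theorem exists_invol (hD : Nat.card D = 120) : ∃ z ∈ D, orderOf z = 2 := by
  have h2 : 2 ∣ Nat.card D := by rw [hD]; norm_num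
  obtain ⟨z, hz⟩ := exists_prime_orderOf_dvd_card' 2 h2
  exact ⟨(z : Γ), z.2, by rw [Subgroup.orderOf_coe]; exact hz⟩

/-- elements of `D ∩ C_Γ(D)` square to one -/
theorem sq_eq_one_of_mem_inf (hD : Nat.card D = 120) (hns : ¬ Group.IsSolvable D) {c : Γ}
    (hcD : c ∈ D) (hcC : c ∈ Subgroup.centralizer (D : Set Γ)) : c * c = 1 := by
  have h2 := card_centralizer_subgroupOf_le D hD hns
  set Z := (Subgroup.centralizer (D : Set Γ)).subgroupOf D with hZ
  have hmem : (⟨c, hcD⟩ : D) ∈ Z := Subgroup.mem_subgroupOf.mpr hcC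
  have h3 : (⟨⟨c, hcD⟩, hmem⟩ : Z) ^ Nat.card Z = 1 := pow_card_eq_one'
  have h4 : c ^ Nat.card Z = 1 := by
    have h := congrArg (fun t : Z => ((t : D) : Γ)) h3
    simpa only [Subgroup.coe_pow, Subgroup.coe_one] using h
  have hpos : 0 < Nat.card Z := Nat.card_pos
  have h5 : Nat.card Z = 1 ∨ Nat.card Z = 2 := by omega
  rcases h5 with h5 | h5
  · rw [h5, pow_one] at h4; rw [h4, one_mul]
  · rw [h5, pow_two] at h4; exact h4

omit [D.Normal] in
/-- some element of `D` squares to the involution -/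
theorem exists_sq_eq_invol (hinv : UniqueInvol Γ) (hD : Nat.card D = 120) {z : Γ}
    (hz : orderOf z = 2) : ∃ i ∈ D, i * i = z := by
  have : Fact (Nat.Prime 2) := ⟨Nat.prime_two⟩
  have T : Sylow 2 D := default
  have hT8 : Nat.card (T : Subgroup D) = 8 := by
    rw [Sylow.card_eq_multiplicity, hD]
    have : (120 : ℕ).factorization 2 = 3 := by decide +kernel
    rw [this]; norm_num
  -- some element of T does not square to one
  have hex : ∃ x : D, x ∈ T ∧ (x : Γ) * (x : Γ) ≠ 1 := by
    by_contra hcon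
    push Not at hcon
    classical
    have hor : ∀ x : ↥(T : Subgroup D), (((x : D) : Γ) = 1) ∨ (((x : D) : Γ) = z) := by
      intro x
      by_cases hx1 : ((x : D) : Γ) = 1
      · exact Or.inl hx1
      · exact Or.inr (hinv _ _ (orderOf_eq_two_of_sq (hcon x x.2) hx1) hz)
    let g : ↥(T : Subgroup D) → Bool := fun x => decide (((x : D) : Γ) = 1)
    have hginj : Function.Injective g := by
      intro x y hxy
      apply Subtype.ext
      apply Subtype.ext
      have hxy' : (((x : D) : Γ) = 1) ↔ (((y : D) : Γ) = 1) := by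
        simpa [g] using hxy
      rcases hor x with hx | hx
      · rw [hx, hxy'.mp hx]
      · rcases hor y with hy | hy
        · rw [hy, hxy'.mpr hy]
        · rw [hx, hy]
    have := Nat.card_le_card_of_injective g hginj
    rw [hT8, Nat.card_eq_fintype_card, Fintype.card_bool] at this
    omega
  obtain ⟨x, hxT, hx2⟩ := hex
  have hx8 : (x : Γ) ^ 8 = 1 := by
    have h := pow_card_eq_one' (G := ↥(T : Subgroup D)) (x := ⟨x, hxT⟩)
    rw [hT8] at h
    have h' := congrArg (fun t : ↥(T : Subgroup D) => ((t : D) : Γ)) h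
    simpa only [Subgroup.coe_pow, Subgroup.coe_one] using h'
  have e4 : ∀ y : Γ, y * y * (y * y) = y ^ 4 := fun y => by
    rw [← pow_two, ← pow_two, ← pow_mul]
  by_cases hx4 : (x : Γ) ^ 4 = 1
  · refine ⟨(x : Γ), x.2, ?_⟩
    apply hinv _ _ _ hz
    apply orderOf_eq_two_of_sq _ hx2
    rw [e4]; exact hx4
  · refine ⟨(x : Γ) * (x : Γ), D.mul_mem x.2 x.2, ?_⟩
    apply hinv _ _ _ hz
    rw [e4]
    apply orderOf_eq_two_of_sq _ hx4
    rw [← pow_add]; exact hx8

/-- no element of `C_Γ(D)` squares to the involution -/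
theorem sq_ne_invol_of_mem_centralizer (hinv : UniqueInvol Γ) (hD : Nat.card D = 120)
    (hns : ¬ Group.IsSolvable D) {z : Γ} (hz : orderOf z = 2) {c : Γ}
    (hc : c ∈ Subgroup.centralizer (D : Set Γ)) : c * c ≠ z := by
  intro hcz
  obtain ⟨i, hiD, hiz⟩ := exists_sq_eq_invol D hinv hD hz
  have hci : i * c = c * i := (Subgroup.mem_centralizer_iff.mp hc) i hiD
  have hz1 : z ≠ 1 := by
    intro h; rw [h, orderOf_one] at hz; omega
  have hzz : z * z = 1 := by
    have := pow_orderOf_eq_one z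
    rwa [hz, pow_two] at this
  have h1 : (c * i) * (c * i) = 1 := by
    calc (c * i) * (c * i) = c * (i * c) * i := by group
      _ = c * (c * i) * i := by rw [hci]
      _ = (c * c) * (i * i) := by group
      _ = 1 := by rw [hcz, hiz, hzz]
  have hzD : z ∈ D := by rw [← hiz]; exact D.mul_mem hiD hiD
  have hcD : c ∈ D := by
    by_cases h2 : c * i = 1
    · have : c = i⁻¹ := eq_inv_of_mul_eq_one_left h2
      rw [this]; exact D.inv_mem hiD
    · have h3 := hinv _ _ (orderOf_eq_two_of_sq h1 h2) hz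
      have : c = z * i⁻¹ := by rw [← h3]; group
      rw [this]
      exact D.mul_mem hzD (D.inv_mem hiD)
  have := sq_eq_one_of_mem_inf D hD hns hcD hc
  rw [hcz] at this
  exact hz1 this

theorem eq_one_or_eq_invol_of_two_power (hinv : UniqueInvol Γ) (hD : Nat.card D = 120)
    (hns : ¬ Group.IsSolvable D) {z : Γ} (hz : orderOf z = 2) {t : Γ}
    (ht : t ∈ Subgroup.centralizer (D : Set Γ)) (k : ℕ) (hk : orderOf t = 2 ^ k) :
    t = 1 ∨ t = z := by
  rcases two_power_cases t k hk with h | h | ⟨c, hc, hcc⟩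
  · exact Or.inl h
  · exact Or.inr (hinv _ _ h hz)
  · exfalso
    have hcC : c ∈ Subgroup.centralizer (D : Set Γ) := (Subgroup.zpowers_le.mpr ht) hc
    exact sq_ne_invol_of_mem_centralizer D hinv hD hns hz hcC (hinv _ _ hcc hz)

/-- `C_Γ(D)` has a normal 2-complement `M`, and `C_Γ(D) ≤ D M` -/
theorem exists_odd_complement (hinv : UniqueInvol Γ) (hD : Nat.card D = 120)
    (hns : ¬ Group.IsSolvable D) :
    ∃ M : Subgroup Γ, M ≤ Subgroup.centralizer (D : Set Γ) ∧ ¬ 2 ∣ Nat.card M ∧
      Subgroup.centralizer (D : Set Γ) ≤ D ⊔ M := by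
  obtain ⟨z, hzD, hz⟩ := exists_invol D hD
  set C := Subgroup.centralizer (D : Set Γ) with hC
  have : Fact (Nat.Prime 2) := ⟨Nat.prime_two⟩
  let T₂ : Sylow 2 ↥C := default
  have hT : ∀ t : ↥C, t ∈ T₂ → (t : Γ) = 1 ∨ (t : Γ) = z := by
    intro t ht
    obtain ⟨k, hk⟩ := (IsPGroup.iff_orderOf.mp T₂.2) ⟨t, ht⟩
    have hk' : orderOf (t : Γ) = 2 ^ k := by
      rw [Subgroup.orderOf_coe, ← hk]
      exact (Subgroup.orderOf_mk t ht).symm
    exact eq_one_or_eq_invol_of_two_power D hinv hD hns hz t.2 k hk'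
  have hcen : Subgroup.normalizer (T₂ : Set ↥C) ≤ Subgroup.centralizer (T₂ : Set ↥C) := by
    intro g _
    rw [Subgroup.mem_centralizer_iff]
    intro t ht
    apply Subtype.ext
    rw [Subgroup.coe_mul, Subgroup.coe_mul]
    rcases hT t ht with h | h
    · rw [h]; simp
    · rw [h]; exact (central_of_uniqueInvol hinv hz (g : Γ)).symm
  set K := (MonoidHom.transferSylow T₂ hcen).ker with hK
  have hcompl : Subgroup.IsComplement' K T₂ :=
    MonoidHom.ker_transferSylow_isComplement' T₂ hcen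
  have hodd : ¬ 2 ∣ Nat.card K := MonoidHom.not_dvd_card_ker_transferSylow T₂ hcen
  refine ⟨K.map C.subtype, Subgroup.map_subtype_le K, ?_, ?_⟩
  · rwa [Subgroup.card_map_of_injective C.subtype_injective]
  · intro c hc
    obtain ⟨⟨k, t⟩, hkt, -⟩ := (Subgroup.isComplement_iff_existsUnique.mp hcompl) ⟨c, hc⟩
    have hc' : c = ((k : C) : Γ) * ((t : C) : Γ) := by
      have := congrArg Subtype.val hkt
      simpa using this.symm
    rw [hc']
    apply Subgroup.mul_mem
    · exact Subgroup.mem_sup_right (Subgroup.mem_map.mpr ⟨k, k.2, rfl⟩)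
    · apply Subgroup.mem_sup_left
      rcases hT t t.2 with h | h
      · rw [h]; exact D.one_mem
      · rw [h]; exact hzD

omit [Finite Γ] [D.Normal] in
/-- commuting subgroups with trivial intersection in a group satisfying `UniqueOrderP`
have no common prime divisor of their orders -/
theorem not_dvd_card_of_disjoint_commute (hU : UniqueOrderP Γ) (M : Subgroup Γ) [Finite D]
    [Finite M] (hinf : D ⊓ M = ⊥)
    (hcomm : ∀ s ∈ D, ∀ x ∈ M, s * x = x * s) (p : ℕ) [hp : Fact p.Prime]
    (hpD : p ∣ Nat.card D) : ¬ p ∣ Nat.card M := by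
  intro hpM
  obtain ⟨d, hd⟩ := exists_prime_orderOf_dvd_card' p hpD
  obtain ⟨m, hm⟩ := exists_prime_orderOf_dvd_card' p hpM
  have hd' : orderOf (d : Γ) = p := by rw [Subgroup.orderOf_coe]; exact hd
  have hm' : orderOf (m : Γ) = p := by rw [Subgroup.orderOf_coe]; exact hm
  set A := Subgroup.zpowers (d : Γ) with hA
  set B := Subgroup.zpowers (m : Γ) with hB
  have hAc : Nat.card A = p := by rw [hA, Nat.card_zpowers, hd']
  have hBc : Nat.card B = p := by rw [hB, Nat.card_zpowers, hm']
  have hAp : IsPGroup p A := IsPGroup.of_card (n := 1) (by rw [hAc, pow_one])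
  have hBp : IsPGroup p B := IsPGroup.of_card (n := 1) (by rw [hBc, pow_one])
  have hAB : A ≤ Subgroup.normalizer (B : Set Γ) := by
    rw [hA, Subgroup.zpowers_le]
    apply Subgroup.centralizer_le_normalizer
    rw [Subgroup.mem_centralizer_iff]
    intro h hh
    obtain ⟨k, rfl⟩ := Subgroup.mem_zpowers_iff.mp hh
    have hc : Commute (m : Γ) (d : Γ) := (hcomm d d.2 m m.2).symm
    exact (hc.zpow_left k).eq
  have hQ : IsPGroup p ↥(A ⊔ B) := IsPGroup.to_sup_of_normal_right' hAp hBp hAB
  have hcard1 : Nat.card (A.subgroupOf (A ⊔ B)) = p := by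
    rw [← hAc]
    exact Nat.card_congr (Subgroup.subgroupOfEquivOfLe le_sup_left).toEquiv
  have hcard2 : Nat.card (B.subgroupOf (A ⊔ B)) = p := by
    rw [← hBc]
    exact Nat.card_congr (Subgroup.subgroupOfEquivOfLe le_sup_right).toEquiv
  have heq := hU p (A ⊔ B) hQ _ _ hcard1 hcard2
  rw [Subgroup.subgroupOf_inj, inf_eq_left.mpr le_sup_left, inf_eq_left.mpr le_sup_right] at heq
  have hmA : (m : Γ) ∈ A := by rw [heq]; exact Subgroup.mem_zpowers _
  have hmD : (m : Γ) ∈ D := (Subgroup.zpowers_le.mpr d.2) hmA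
  have hm1 : (m : Γ) ∈ D ⊓ M := ⟨hmD, m.2⟩
  rw [hinf, Subgroup.mem_bot] at hm1
  rw [hm1, orderOf_one] at hm'
  exact hp.out.one_lt.ne hm'

omit [Finite Γ] [D.Normal] in
/-- Sylow subgroups of a subgroup `M` of odd order in a group satisfying `UniqueOrderP` are cyclic -/
theorem isCyclic_sylow_of_uniqueOrderP (hU : UniqueOrderP Γ) (M : Subgroup Γ) [Finite M]
    (hodd : ¬ 2 ∣ Nat.card M) (p : ℕ) [hp : Fact p.Prime] (P : Sylow p M) : IsCyclic P := by
  have huniq : ∀ H K : Subgroup ↥(P : Subgroup M), Nat.card H = p → Nat.card K = p → H = K := by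
    intro H K hH hK
    set Q : Subgroup Γ := (P : Subgroup M).map M.subtype with hQ
    have hQp : IsPGroup p Q := P.2.map M.subtype
    let e : ↥(P : Subgroup M) ≃* ↥Q :=
      (P : Subgroup M).equivMapOfInjective M.subtype M.subtype_injective
    have h1 : Nat.card (H.map e.toMonoidHom) = p := by
      rw [Subgroup.card_map_of_injective e.injective]; exact hH
    have h2 : Nat.card (K.map e.toMonoidHom) = p := by
      rw [Subgroup.card_map_of_injective e.injective]; exact hK
    have := hU p Q hQp _ _ h1 h2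
    exact Subgroup.map_injective e.injective this
  rcases Cfsg.Agent.S0016.result (G := ↥(P : Subgroup M)) p P.2 huniq with h | ⟨h2, -⟩
  · exact h
  · subst h2
    have hc : Nat.card (P : Subgroup M) = 1 := by
      rw [Sylow.card_eq_multiplicity, Nat.factorization_eq_zero_of_not_dvd hodd, pow_zero]
    have : Subsingleton ↥(P : Subgroup M) := (Nat.card_eq_one_iff_unique.mp hc).1
    exact isCyclic_of_subsingleton

/-- the structure theorem -/
theorem structure_thm (hinv : UniqueInvol Γ) (hU : UniqueOrderP Γ) (hD : Nat.card D = 120)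
    (hns : ¬ Group.IsSolvable D) (hperf : ⁅D, D⁆ = D) :
    ∃ G₀ : Subgroup Γ, G₀.Normal ∧ (G₀.index = 1 ∨ G₀.index = 2) ∧
      ∃ M : Subgroup Γ, D ⊔ M = G₀ ∧ D ⊓ M = ⊥ ∧ (∀ s ∈ D, ∀ x ∈ M, s * x = x * s) ∧
        (∀ (p : ℕ) [Fact p.Prime] (P : Sylow p M), IsCyclic P) ∧ (Nat.card M).Coprime 30 := by
  obtain ⟨M, hMC, hModd, hCM⟩ := exists_odd_complement D hinv hD hns
  set C := Subgroup.centralizer (D : Set Γ) with hC
  have hinf : D ⊓ M = ⊥ := by
    rw [eq_bot_iff]
    intro x hx
    rw [Subgroup.mem_bot]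
    have h1 : x * x = 1 := sq_eq_one_of_mem_inf D hD hns hx.1 (hMC hx.2)
    have h2 : orderOf x ∣ 2 := orderOf_dvd_of_pow_eq_one (by rw [pow_two]; exact h1)
    have h3 : orderOf x ∣ Nat.card M := Subgroup.orderOf_dvd_natCard M hx.2
    rcases (Nat.dvd_prime Nat.prime_two).mp h2 with h | h
    · exact orderOf_eq_one_iff.mp h
    · exact absurd (h ▸ h3) hModd
  have hcomm : ∀ s ∈ D, ∀ x ∈ M, s * x = x * s := by
    intro s hs x hx
    exact (Subgroup.mem_centralizer_iff.mp (hMC hx)) s hs
  refine ⟨D ⊔ C, inferInstance, index_sup_centralizer D hD hns hperf, M, ?_, hinf, hcomm, ?_, ?_⟩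
  · apply le_antisymm
    · exact sup_le le_sup_left (hMC.trans le_sup_right)
    · exact sup_le le_sup_left hCM
  · intro p _ P
    exact isCyclic_sylow_of_uniqueOrderP hU M hModd p P
  · have : Fact (Nat.Prime 3) := ⟨by norm_num⟩
    have : Fact (Nat.Prime 5) := ⟨by norm_num⟩
    have h3 : ¬ 3 ∣ Nat.card M :=
      not_dvd_card_of_disjoint_commute D hU M hinf hcomm 3 (by rw [hD]; norm_num)
    have h5 : ¬ 5 ∣ Nat.card M :=
      not_dvd_card_of_disjoint_commute D hU M hinf hcomm 5 (by rw [hD]; norm_num)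
    have e30 : (30 : ℕ) = 2 * (3 * 5) := by norm_num
    rw [e30]
    apply Nat.Coprime.mul_right
    · exact (Nat.Coprime.symm ((Nat.Prime.coprime_iff_not_dvd Nat.prime_two).mpr hModd))
    · apply Nat.Coprime.mul_right
      · exact (Nat.Coprime.symm ((Nat.Prime.coprime_iff_not_dvd (by norm_num)).mpr h3))
      · exact (Nat.Coprime.symm ((Nat.Prime.coprime_iff_not_dvd (by norm_num)).mpr h5))

end partC

end Cfsg.Agent.Lib.Helper35.SL25Compl
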