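-- helper35: structure of non-solvable Frobenius complements, modulo Zassenhaus' theorem that a perfect
-- group of fixed-point-free automorphisms is SL(2,5) (taken as a hypothesis `h690`).
import Mathlib
import Cfsg.Agent.Lib.Helper35.FrobStructure
import Cfsg.Agent.Lib.Helper35.FrobSylow
import Cfsg.Agent.Lib.Helper35.InvolAut
import Cfsg.Agent.Lib.Helper35.PerfectCore
import Cfsg.Agent.Lib.Helper35.SL25ComplC

set_option autoImplicit false

namespace Cfsg.Agent.Lib.Helper35.SL25Compl

open Cfsg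

theorem commutator_eq_top_of_perfect {X : Type*} [Group X] (A : Subgroup X) (h : ⁅A, A⁆ = A) :
    commutator A = ⊤ := by
  apply Subgroup.map_injective A.subtype_injective
  rw [Subgroup.map_subtype_commutator, h, ← MonoidHom.range_eq_map, Subgroup.range_subtype]

section frob

variable {L : Type*} [Group L] (H N : Subgroup L)

theorem mem_inf_centralizer_of_conj_eq {a x : L} (hx : x ∈ N) (h : a * x * a⁻¹ = x) :
    x ∈ N ⊓ Subgroup.centralizer {a} := by
  refine Subgroup.mem_inf.mpr ⟨hx, ?_⟩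
  rw [Subgroup.mem_centralizer_iff]
  intro b hb
  rw [Set.mem_singleton_iff] at hb
  subst hb
  calc b * x = (b * x * b⁻¹) * b := by group
    _ = x * b := by rw [h]

variable [Finite L] [hN : N.Normal]
  (hfpf : ∀ a ∈ H, a ≠ 1 → N ⊓ Subgroup.centralizer {a} = ⊥)
include hfpf

/-- an involution acting fixed-point-freely inverts -/
theorem invol_inverts {a : L} (haH : a ∈ H) (ha : orderOf a = 2) :
    ∀ x ∈ N, a * x * a⁻¹ = x⁻¹ := by
  have ha1 : a ≠ 1 := by
    intro h; rw [h, orderOf_one] at ha; omega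
  have haa : a * a = 1 := by
    have := pow_orderOf_eq_one a
    rwa [ha, pow_two] at this
  have hainv : a⁻¹ = a := inv_eq_of_mul_eq_one_left haa
  have key := inv_of_fpf (P := L) N (MulAut.conj a).toMonoidHom
    (fun x hx => by
      change (MulAut.conj a) x ∈ N
      rw [MulAut.conj_apply]
      exact hN.conj_mem x hx a)
    (fun x _ => by
      change (MulAut.conj a) ((MulAut.conj a) x) = x
      rw [MulAut.conj_apply, MulAut.conj_apply, hainv]
      calc a * (a * x * a) * a = (a * a) * x * (a * a) := by group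
        _ = x := by rw [haa, one_mul, mul_one])
    (fun x hx hfix => by
      change (MulAut.conj a) x = x at hfix
      rw [MulAut.conj_apply] at hfix
      have := mem_inf_centralizer_of_conj_eq N hx hfix
      rw [hfpf a haH ha1, Subgroup.mem_bot] at this
      exact this)
  intro x hx
  have := key x hx
  change (MulAut.conj a) x = x⁻¹ at this
  rwa [MulAut.conj_apply] at this

theorem invol_unique (hN1 : N ≠ ⊥) {a b : L} (haH : a ∈ H) (hbH : b ∈ H) (ha : orderOf a = 2)
    (hb : orderOf b = 2) : a = b := by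
  have hia := invol_inverts H N hfpf haH ha
  have hib := invol_inverts H N hfpf hbH hb
  obtain ⟨x, hxN, hx1⟩ := (Subgroup.ne_bot_iff_exists_ne_one.mp hN1 : ∃ x : N, x ≠ 1) |>.elim
    (fun x hx => (⟨(x : L), x.2, fun h => hx (Subtype.ext h)⟩ : ∃ x : L, x ∈ N ∧ x ≠ 1))
  have hbb : b * b = 1 := by
    have := pow_orderOf_eq_one b
    rwa [hb, pow_two] at this
  have hconj : (a * b) * x * (a * b)⁻¹ = x := by
    have h1 : b * x * b⁻¹ = x⁻¹ := hib x hxN
    have h2 : a * x⁻¹ * a⁻¹ = x⁻¹⁻¹ := hia x⁻¹ (N.inv_mem hxN)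
    calc (a * b) * x * (a * b)⁻¹ = a * (b * x * b⁻¹) * a⁻¹ := by group
      _ = a * x⁻¹ * a⁻¹ := by rw [h1]
      _ = x := by rw [h2, inv_inv]
  have hab : a * b = 1 := by
    by_contra hne
    have := mem_inf_centralizer_of_conj_eq N hxN hconj
    rw [hfpf (a * b) (H.mul_mem haH hbH) hne, Subgroup.mem_bot] at this
    exact hx1 this
  calc a = a * (b * b) := by rw [hbb, mul_one]
    _ = (a * b) * b := by group
    _ = b := by rw [hab, one_mul]

end frob

/-- Structure of non-solvable Frobenius complements, given Zassenhaus' theorem `h690`. -/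
theorem result_of
    (h690 : ∀ {K : Type} [Group K] [Finite K] (A : Subgroup (MulAut K)),
      (∀ φ ∈ A, φ ≠ 1 → ∀ k : K, φ k = k → k = 1) → commutator A = ⊤ → A ≠ ⊥ →
      Nonempty (A ≃* Matrix.SpecialLinearGroup (Fin 2) (ZMod 5)))
    {G : Type*} [Group G] [Finite G] (hns : ¬ Group.IsSolvable G)
    (hFC : ∃ (L : Type) (_ : Group L) (_ : Finite L) (H : Subgroup L),
      Cfsg.IsFrobeniusComplement H ∧ Nonempty (G ≃* H)) :
    ∃ G₀ : Subgroup G, G₀.Normal ∧ (G₀.index = 1 ∨ G₀.index = 2) ∧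
      ∃ S M : Subgroup G, S ⊔ M = G₀ ∧ S ⊓ M = ⊥ ∧ (∀ s ∈ S, ∀ x ∈ M, s * x = x * s) ∧
        Nonempty (S ≃* Matrix.SpecialLinearGroup (Fin 2) (ZMod 5)) ∧
        (∀ (p : ℕ) [Fact p.Prime] (P : Sylow p M), IsCyclic P) ∧ (Nat.card M).Coprime 30 := by
  obtain ⟨L, _, _, H, hH, ⟨e⟩⟩ := hFC
  obtain ⟨N, hNker, -, -⟩ := Cfsg.Agent.S0035.result H hH
  obtain ⟨hNn, -, -, hN1, hfpf, -⟩ := frobenius_data H N hH hNker.symm
  set ι : G →* L := H.subtype.comp e.toMonoidHom with hι
  have hιinj : Function.Injective ι := H.subtype_injective.comp e.injective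
  have hιH : ∀ g, ι g ∈ H := fun g => (e g).2
  have hinv : UniqueInvol G := by
    intro a b ha hb
    apply hιinj
    apply invol_unique H N hfpf hN1 (hιH a) (hιH b)
    · rw [orderOf_injective ι hιinj]; exact ha
    · rw [orderOf_injective ι hιinj]; exact hb
  have hU : UniqueOrderP G := by
    intro p _ Q hQ C₁ C₂ h1 h2
    set Q' : Subgroup ↥H := Q.map e.toMonoidHom with hQ'
    have hQ'p : IsPGroup p Q' := hQ.map e.toMonoidHom
    let eQ : ↥Q ≃* ↥Q' := Q.equivMapOfInjective e.toMonoidHom e.injective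
    have h1' : Nat.card (C₁.map eQ.toMonoidHom) = p := by
      rw [Subgroup.card_map_of_injective eQ.injective]; exact h1
    have h2' : Nat.card (C₂.map eQ.toMonoidHom) = p := by
      rw [Subgroup.card_map_of_injective eQ.injective]; exact h2
    have := unique_subgroup_of_order_p_of_fpf N H hN1 hfpf p Q' hQ'p _ _ h1' h2'
    exact Subgroup.map_injective eQ.injective this
  obtain ⟨D, hDn, hDne, hDperf⟩ := exists_perfect_normal_of_not_isSolvable hns
  set φ : G →* MulAut ↥N := (MulAut.conjNormal (H := N)).comp ι with hφ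
  have hφapp : ∀ g (x : N), ((φ g x : N) : L) = ι g * (x : L) * (ι g)⁻¹ := by
    intro g x
    rw [hφ, MonoidHom.comp_apply, MulAut.conjNormal_apply]
  obtain ⟨x₀, hx₀N, hx₀1⟩ : ∃ x : L, x ∈ N ∧ x ≠ 1 := by
    obtain ⟨x, hx⟩ := Subgroup.ne_bot_iff_exists_ne_one.mp hN1
    exact ⟨(x : L), x.2, fun h => hx (Subtype.ext h)⟩
  have hφinj : Function.Injective φ := by
    rw [injective_iff_map_eq_one]
    intro g hg
    by_contra hg1
    have hιg1 : ι g ≠ 1 := fun h => hg1 (hιinj (h.trans (map_one ι).symm))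
    have hfix : ι g * x₀ * (ι g)⁻¹ = x₀ := by
      have := hφapp g ⟨x₀, hx₀N⟩
      rw [hg] at this
      exact this.symm
    have := mem_inf_centralizer_of_conj_eq N hx₀N hfix
    rw [hfpf _ (hιH g) hιg1, Subgroup.mem_bot] at this
    exact hx₀1 this
  set A : Subgroup (MulAut ↥N) := D.map φ with hA
  have hAfpf : ∀ ψ ∈ A, ψ ≠ 1 → ∀ k : N, ψ k = k → k = 1 := by
    rintro ψ ⟨d, hd, rfl⟩ hψ k hk
    have ha1 : ι d ≠ 1 := by
      intro h
      apply hψ
      have : d = 1 := hιinj (h.trans (map_one ι).symm)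
      rw [this, map_one]
    have hk' : ι d * (k : L) * (ι d)⁻¹ = k := by
      rw [← hφapp d k, hk]
    have := mem_inf_centralizer_of_conj_eq N k.2 hk'
    rw [hfpf _ (hιH d) ha1, Subgroup.mem_bot] at this
    exact Subtype.ext this
  have hAperf : commutator A = ⊤ := by
    apply commutator_eq_top_of_perfect
    rw [hA, ← Subgroup.map_commutator, hDperf]
  have hAne : A ≠ ⊥ := by
    rw [hA, Ne, Subgroup.map_eq_bot_iff_of_injective D hφinj]
    exact hDne
  obtain ⟨εA⟩ := h690 A hAfpf hAperf hAne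
  let εD : ↥D ≃* Matrix.SpecialLinearGroup (Fin 2) (ZMod 5) :=
    (D.equivMapOfInjective φ hφinj).trans εA
  have hDcard : Nat.card D = 120 :=
    (Nat.card_congr εD.toEquiv).trans Cfsg.Agent.S3378.card_SL25
  have hDns : ¬ Group.IsSolvable D := by
    intro hs
    have : Nontrivial D := (Subgroup.nontrivial_iff_ne_bot D).mpr hDne
    exact (Group.IsSolvable.commutator_lt_top_of_nontrivial D).ne
      (commutator_eq_top_of_perfect D hDperf)
  obtain ⟨G₀, hG₀n, hidx, M, h1, h2, h3, h4, h5⟩ :=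
    structure_thm D hinv hU hDcard hDns hDperf
  exact ⟨G₀, hG₀n, hidx, D, M, h1, h2, h3, ⟨εD⟩, h4, h5⟩

end Cfsg.Agent.Lib.Helper35.SL25Compl
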