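-- helper35: the insoluble sharply doubly transitive groups (degrees 11², 29², 59²), modulo
-- Zassenhaus' theorem (perfect fixed-point-free automorphism groups are SL(2,5)), hypothesis `h690`.
import Mathlib
import Cfsg.Agent.S0684
import Cfsg.Agent.S0685
import Cfsg.Agent.S0688
import Cfsg.Agent.S3378
import Cfsg.Agent.Lib.Helper35.PerfectCore
import Cfsg.Agent.Lib.Helper35.SL25ComplC
import Cfsg.Agent.Lib.Helper35.FrobComplNonsolv

set_option autoImplicit false

namespace Cfsg.Agent.Lib.Helper35.Sharp2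

open Cfsg.Agent.Lib.Helper35.SL25Compl

universe u

section matrices

open Cfsg.Agent.S3374

/-- a matrix of order 4 in `SL(2,5)` -/
def mI : SL25 := ⟨!![2, 0; 0, 3], by rw [Matrix.det_fin_two_of]; decide⟩
/-- a second matrix of order 4 in `SL(2,5)`, anticommuting with `mI` -/
def mJ : SL25 := ⟨!![0, 1; 4, 0], by rw [Matrix.det_fin_two_of]; decide⟩

theorem toQ_mI : toQ mI = (2, 0, 0, 3) := rfl
theorem toQ_mJ : toQ mJ = (0, 1, 4, 0) := rfl

theorem mI_sq_ne : mI * mI ≠ 1 := by
  intro h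
  have := congrArg toQ h
  rw [toQ_mul, toQ_one, toQ_mI] at this
  revert this
  decide

theorem mI_four : (mI * mI) * (mI * mI) = 1 := by
  apply toQ_injective
  rw [toQ_mul, toQ_mul, toQ_one, toQ_mI]
  decide

theorem mJ_sq : mJ * mJ = mI * mI := by
  apply toQ_injective
  rw [toQ_mul, toQ_mul, toQ_mI, toQ_mJ]
  decide

theorem mIJ : mI * mJ = (mI * mI) * (mJ * mI) := by
  apply toQ_injective
  rw [toQ_mul, toQ_mul, toQ_mul, toQ_mul, toQ_mI, toQ_mJ]
  decide

end matrices

section arithmetic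

theorem arith_check_fin : ∀ Q : Fin 121, ∀ ε : Fin 3, 3 ≤ Q.val → 1 ≤ ε.val →
    (Q.val * Q.val - 1) % (120 * ε.val) = 0 →
    (Q.val - 1) % (2 * ((Q.val * Q.val - 1) / (120 * ε.val))) = 0 →
    Nat.gcd ((Q.val * Q.val - 1) / (120 * ε.val)) 30 = 1 →
    (Q.val = 11 ∧ ε.val = 1) ∨ (Q.val = 29 ∧ ε.val = 1) ∨ (Q.val = 59 ∧ ε.val = 1) ∨
      Q.val = 119 := by
  decide +kernel

theorem arith_check (Q : ℕ) (hQ121 : Q < 121) (ε : ℕ) (hε3 : ε < 3) : 3 ≤ Q → 1 ≤ ε →
    (Q * Q - 1) % (120 * ε) = 0 → (Q - 1) % (2 * ((Q * Q - 1) / (120 * ε))) = 0 →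
    Nat.gcd ((Q * Q - 1) / (120 * ε)) 30 = 1 →
    (Q = 11 ∧ ε = 1) ∨ (Q = 29 ∧ ε = 1) ∨ (Q = 59 ∧ ε = 1) ∨ Q = 119 :=
  arith_check_fin ⟨Q, hQ121⟩ ⟨ε, hε3⟩

theorem arith (Q m ε : ℕ) (hQ : 3 ≤ Q) (hε : ε = 1 ∨ ε = 2) (hm : Nat.Coprime m 30)
    (hmain : Q * Q - 1 = 120 * m * ε) (hdvd : 2 * m ∣ Q - 1) :
    (Q = 11 ∧ m = 1 ∧ ε = 1) ∨ (Q = 29 ∧ m = 7 ∧ ε = 1) ∨ (Q = 59 ∧ m = 29 ∧ ε = 1) ∨
      Q = 119 := by
  have hmpos : 0 < m := by
    rcases Nat.eq_zero_or_pos m with h | h
    · subst h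
      rw [Nat.coprime_zero_left] at hm
      omega
    · exact h
  have hεpos : 0 < ε := by rcases hε with rfl | rfl <;> norm_num
  obtain ⟨k, hk⟩ := hdvd
  have hfac : Q * Q - 1 = (Q - 1) * (Q + 1) := by
    obtain ⟨n, rfl⟩ : ∃ n, Q = n + 1 := ⟨Q - 1, by omega⟩
    simp only [Nat.add_sub_cancel]
    have : (n + 1) * (n + 1) = n * (n + 1 + 1) + 1 := by ring
    omega
  have hk2 : k * (Q + 1) = 60 * ε := by
    have h1 : 2 * m * (k * (Q + 1)) = 2 * m * (60 * ε) := by
      rw [← mul_assoc, ← hk, ← hfac, hmain]; ring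
    exact Nat.eq_of_mul_eq_mul_left (by positivity) h1
  have hkpos : 0 < k := by
    rcases Nat.eq_zero_or_pos k with h | h
    · rw [h, zero_mul] at hk2; omega
    · exact h
  have hQle : Q + 1 ≤ 120 := by
    have : Q + 1 ≤ k * (Q + 1) := Nat.le_mul_of_pos_left _ hkpos
    rcases hε with rfl | rfl <;> omega
  have hmval : m = (Q * Q - 1) / (120 * ε) := by
    rw [hmain, show 120 * m * ε = m * (120 * ε) by ring, Nat.mul_div_cancel _ (by positivity)]
  have h1 : (Q * Q - 1) % (120 * ε) = 0 := by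
    rw [hmain, show 120 * m * ε = m * (120 * ε) by ring]
    exact Nat.mul_mod_left _ _
  have h2 : (Q - 1) % (2 * ((Q * Q - 1) / (120 * ε))) = 0 := by
    rw [← hmval, hk]
    exact Nat.mul_mod_right _ _
  have h3 : Nat.gcd ((Q * Q - 1) / (120 * ε)) 30 = 1 := by
    rw [← hmval]; exact hm
  have := arith_check Q (by omega) ε (by rcases hε with rfl | rfl <;> omega) hQ hεpos h1 h2 h3
  rcases this with ⟨rfl, rfl⟩ | ⟨rfl, rfl⟩ | ⟨rfl, rfl⟩ | h
  · left; exact ⟨rfl, by omega, rfl⟩
  · right; left; exact ⟨rfl, by omega, rfl⟩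
  · right; right; left; exact ⟨rfl, by omega, rfl⟩
  · right; right; right; exact h

theorem not_prime_pow_119 (p r : ℕ) (hp : p.Prime) (h : p ^ r = 119) : False := by
  have hr : r ≠ 0 := by
    rintro rfl
    simp at h
  have hdvd : p ∣ 7 * 17 := by
    have : p ∣ p ^ r := dvd_pow_self p hr
    rw [h] at this
    exact this
  rcases (Nat.Prime.dvd_mul hp).mp hdvd with h7 | h17
  · have hp7 : p = 7 := (Nat.prime_dvd_prime_iff_eq hp (by norm_num)).mp h7
    subst hp7
    have hr3 : r < 3 := by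
      by_contra hge
      push Not at hge
      have := Nat.pow_le_pow_right (show 0 < 7 by norm_num) hge
      omega
    interval_cases r <;> omega
  · have hp17 : p = 17 := (Nat.prime_dvd_prime_iff_eq hp (by norm_num)).mp h17
    subst hp17
    have hr2 : r < 2 := by
      by_contra hge
      push Not at hge
      have := Nat.pow_le_pow_right (show 0 < 17 by norm_num) hge
      omega
    interval_cases r <;> omega

end arithmetic

section linear

variable {p : ℕ} [Fact p.Prime] {V : Type u} [AddCommGroup V] [Module (ZMod p) V]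
  (H : Subgroup (V ≃ₗ[ZMod p] V))

theorem finite_GL [Finite V] : Finite (V ≃ₗ[ZMod p] V) :=
  Finite.of_injective (fun e : V ≃ₗ[ZMod p] V => (e : V → V)) DFunLike.coe_injective

variable (hfree : ∀ h : H, ∀ v : V, v ≠ 0 → (h : V ≃ₗ[ZMod p] V) v = v → h = 1)
include hfree

/-- an involution of a freely acting linear group is `-1` -/
theorem invol_apply {t : H} (ht : orderOf t = 2) (v : V) : (t : V ≃ₗ[ZMod p] V) v = -v := by
  have ht1 : t ≠ 1 := by
    intro h; rw [h, orderOf_one] at ht; omega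
  have htt : t * t = 1 := by
    have := pow_orderOf_eq_one t
    rwa [ht, pow_two] at this
  have h2 : (t : V ≃ₗ[ZMod p] V) ((t : V ≃ₗ[ZMod p] V) v) = v := by
    have : ((t * t : H) : V ≃ₗ[ZMod p] V) v = v := by rw [htt]; rfl
    exact this
  have h3 : v + (t : V ≃ₗ[ZMod p] V) v = 0 := by
    by_contra h0
    apply ht1
    apply hfree t _ h0
    rw [map_add, h2, add_comm]
  exact eq_neg_of_add_eq_zero_right h3

theorem uniqueInvol : UniqueInvol H := by
  intro a b ha hb
  apply Subtype.ext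
  apply LinearEquiv.ext
  intro v
  rw [invol_apply H hfree ha, invol_apply H hfree hb]

theorem uniqueOrderP [Finite V] [Nontrivial V] : UniqueOrderP H := by
  have := finite_GL (p := p) (V := V)
  intro q _ Q hQ C₁ C₂ h1 h2
  have hcyc : ∀ B : Subgroup Q, IsMulCommutative B → IsCyclic B := by
    intro B hB
    have hB' : IsMulCommutative (B.map Q.subtype) := inferInstance
    have h3 := Cfsg.Agent.S0685.isCyclic_of_free H hfree (B.map Q.subtype) hB'
    exact (MulEquiv.isCyclic (B.equivMapOfInjective Q.subtype Q.subtype_injective)).mpr h3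
  exact Cfsg.Agent.S0688.unique_order hcyc q hQ C₁ C₂ h1 h2

/-- a quaternion subgroup `⟨i, j⟩` gives `|V| = |W|²`, and a subgroup centralizing it has order
dividing `|W| - 1` -/
theorem card_dvd_of_quaternion [Finite V] [Nontrivial V] (i j : H) (hz : orderOf (i * i) = 2)
    (hjj : j * j = i * i) (hij : i * j = (i * i) * (j * i))
    (M : Subgroup H) (hMi : ∀ x ∈ M, i * x = x * i) (hMj : ∀ x ∈ M, j * x = x * j) :
    ∃ W : Submodule (ZMod p) V, Nat.card V = Nat.card W * Nat.card W ∧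
      Nat.card M ∣ Nat.card W - 1 ∧ (2 : ZMod p) ≠ 0 := by
  have hneg : ∀ v : V, ((i * i : H) : V ≃ₗ[ZMod p] V) v = -v := invol_apply H hfree hz
  have hz1 : i * i ≠ 1 := by
    intro h; rw [h, orderOf_one] at hz; omega
  have h2 : (2 : ZMod p) ≠ 0 := by
    intro h0
    obtain ⟨v, hv⟩ := exists_ne (0 : V)
    apply hz1
    apply hfree _ v hv
    rw [hneg]
    have : (2 : ZMod p) • v = 0 := by rw [h0, zero_smul]
    rw [two_smul] at this
    exact (eq_neg_of_add_eq_zero_left this).symm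
  let I : V →ₗ[ZMod p] V := ((i : V ≃ₗ[ZMod p] V) : V →ₗ[ZMod p] V)
  let J : V →ₗ[ZMod p] V := ((j : V ≃ₗ[ZMod p] V) : V →ₗ[ZMod p] V)
  have hII : ∀ v, I (I v) = -v := by
    intro v
    rw [← hneg]
    rfl
  have hJJ : ∀ v, J (J v) = -v := by
    intro v
    rw [← hneg, ← hjj]
    rfl
  have hIJ : ∀ v, I (J v) = -J (I v) := by
    intro v
    rw [← hneg]
    show ((i * j : H) : V ≃ₗ[ZMod p] V) v = _
    rw [hij]
    rfl
  obtain ⟨a, b, hab⟩ := ZMod.sq_add_sq p (-1)
  have hVW := Cfsg.Agent.S0688.card_eq_sq_abs (Cfsg.Agent.S0688.eM I J a b)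
    (Cfsg.Agent.S0688.fM I J a b) (Cfsg.Agent.S0688.e_e I J a b hII hJJ hIJ hab)
    (Cfsg.Agent.S0688.f_f I J a b hII hJJ hIJ hab) (Cfsg.Agent.S0688.e_f I J a b hII hJJ hIJ) h2
  set W : Submodule (ZMod p) V :=
    LinearMap.ker (Cfsg.Agent.S0688.eM I J a b - LinearMap.id) with hW
  have hmemW : ∀ v : V, v ∈ W ↔ Cfsg.Agent.S0688.eM I J a b v = v := by
    intro v
    rw [hW, LinearMap.mem_ker, LinearMap.sub_apply, LinearMap.id_apply, sub_eq_zero]
  have hinv : ∀ c ∈ M, ∀ v ∈ W, ((c : H) : V ≃ₗ[ZMod p] V) v ∈ W := by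
    intro c hc v hv
    rw [hmemW] at hv ⊢
    have c1 : ∀ w : V, I ((c : V ≃ₗ[ZMod p] V) w) = (c : V ≃ₗ[ZMod p] V) (I w) := by
      intro w
      have := hMi c hc
      show ((i * c : H) : V ≃ₗ[ZMod p] V) w = _
      rw [this]
      rfl
    have c2 : ∀ w : V, J ((c : V ≃ₗ[ZMod p] V) w) = (c : V ≃ₗ[ZMod p] V) (J w) := by
      intro w
      have := hMj c hc
      show ((j * c : H) : V ≃ₗ[ZMod p] V) w = _
      rw [this]
      rfl
    have h5 : (c : V ≃ₗ[ZMod p] V) (Cfsg.Agent.S0688.eM I J a b v)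
        = a • (c : V ≃ₗ[ZMod p] V) (I v) + b • (c : V ≃ₗ[ZMod p] V) (J v) := by
      rw [Cfsg.Agent.S0688.eM_apply, map_add, map_smul, map_smul]
    rw [Cfsg.Agent.S0688.eM_apply, c1, c2, ← h5, hv]
  have hdvd := Cfsg.Agent.S0685.card_dvd_card_sub_one H hfree M W hinv
  exact ⟨W, hVW, hdvd, h2⟩

end linear

section zassenhaus

variable {p : ℕ} [Fact p.Prime] {V : Type u} [AddCommGroup V] [Module (ZMod p) V]

/-- linear automorphisms as automorphisms of the multiplicative copy of `V` -/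
def toMulAut : (V ≃ₗ[ZMod p] V) →* MulAut (Multiplicative V) where
  toFun e := AddEquiv.toMultiplicative e.toAddEquiv
  map_one' := by
    apply MulEquiv.ext
    intro x
    rfl
  map_mul' := fun a b => by
    apply MulEquiv.ext
    intro x
    rfl

theorem toMulAut_apply (e : V ≃ₗ[ZMod p] V) (x : Multiplicative V) :
    toMulAut e x = Multiplicative.ofAdd (e (Multiplicative.toAdd x)) := rfl

theorem toMulAut_injective :
    Function.Injective (toMulAut : (V ≃ₗ[ZMod p] V) →* MulAut (Multiplicative V)) := by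
  intro a b hab
  apply LinearEquiv.ext
  intro v
  have := congrArg (fun f : MulAut (Multiplicative V) =>
    Multiplicative.toAdd (f (Multiplicative.ofAdd v))) hab
  exact this

/-- a nontrivial perfect subgroup of a freely acting linear group is `SL(2,5)`, given Zassenhaus -/
theorem perfect_iso [Finite V]
    (h690 : ∀ {K : Type u} [Group K] [Finite K] (A : Subgroup (MulAut K)),
      (∀ φ ∈ A, φ ≠ 1 → ∀ k : K, φ k = k → k = 1) → commutator A = ⊤ → A ≠ ⊥ →
      Nonempty (A ≃* Matrix.SpecialLinearGroup (Fin 2) (ZMod 5)))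
    (H : Subgroup (V ≃ₗ[ZMod p] V))
    (hfree : ∀ h : H, ∀ v : V, v ≠ 0 → (h : V ≃ₗ[ZMod p] V) v = v → h = 1)
    (D : Subgroup H) (hDne : D ≠ ⊥) (hDperf : ⁅D, D⁆ = D) :
    Nonempty (D ≃* Matrix.SpecialLinearGroup (Fin 2) (ZMod 5)) := by
  set φ : H →* MulAut (Multiplicative V) := toMulAut.comp H.subtype with hφ
  have hφinj : Function.Injective φ := toMulAut_injective.comp H.subtype_injective
  set A : Subgroup (MulAut (Multiplicative V)) := D.map φ with hA
  have hAfpf : ∀ ψ ∈ A, ψ ≠ 1 → ∀ k : Multiplicative V, ψ k = k → k = 1 := by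
    rintro ψ ⟨d, hd, rfl⟩ hψ k hk
    have hd1 : d ≠ 1 := fun h => hψ (by rw [h, map_one])
    by_contra hk1
    apply hd1
    apply hfree d (Multiplicative.toAdd k)
    · intro h0
      apply hk1
      exact Multiplicative.toAdd.injective h0
    · exact congrArg Multiplicative.toAdd hk
  have hAperf : commutator A = ⊤ := by
    apply commutator_eq_top_of_perfect
    rw [hA, ← Subgroup.map_commutator, hDperf]
  have hAne : A ≠ ⊥ := by
    rw [hA, Ne, Subgroup.map_eq_bot_iff_of_injective D hφinj]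
    exact hDne
  obtain ⟨εA⟩ := h690 A hAfpf hAperf hAne
  exact ⟨(D.equivMapOfInjective φ hφinj).trans εA⟩

end zassenhaus

section main

variable {p : ℕ} [Fact p.Prime] {V : Type u} [AddCommGroup V] [Module (ZMod p) V] [Finite V]

theorem card_multiplicative_zmod (n : ℕ) [NeZero n] : Nat.card (Multiplicative (ZMod n)) = n := by
  rw [Nat.card_congr Multiplicative.toAdd, Nat.card_zmod]

/-- The insoluble sharply doubly transitive groups, given Zassenhaus' theorem `h690`. -/
theorem result_of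
    (h690 : ∀ {K : Type u} [Group K] [Finite K] (A : Subgroup (MulAut K)),
      (∀ φ ∈ A, φ ≠ 1 → ∀ k : K, φ k = k → k = 1) → commutator A = ⊤ → A ≠ ⊥ →
      Nonempty (A ≃* Matrix.SpecialLinearGroup (Fin 2) (ZMod 5)))
    (H : Subgroup (V ≃ₗ[ZMod p] V))
    (hreg : ∀ v w : V, v ≠ 0 → w ≠ 0 → ∃! h : H, (h : V ≃ₗ[ZMod p] V) v = w)
    (hsolv : ¬ Group.IsSolvable H) :
    (Nat.card V = 121 ∧ Nonempty (H ≃* Matrix.SpecialLinearGroup (Fin 2) (ZMod 5))) ∨
    (Nat.card V = 841 ∧
      Nonempty (H ≃* Matrix.SpecialLinearGroup (Fin 2) (ZMod 5) × Multiplicative (ZMod 7))) ∨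
    (Nat.card V = 3481 ∧
      Nonempty (H ≃* Matrix.SpecialLinearGroup (Fin 2) (ZMod 5) × Multiplicative (ZMod 29))) := by
  classical
  have hp : p.Prime := Fact.out
  have hfinGL : Finite (V ≃ₗ[ZMod p] V) := finite_GL
  have hfree : ∀ h : H, ∀ v : V, v ≠ 0 → (h : V ≃ₗ[ZMod p] V) v = v → h = 1 := by
    intro h v hv hhv
    obtain ⟨h0, -, huniq⟩ := hreg v v hv hv
    rw [huniq h hhv, huniq 1 (by simp)]
  have hVnt : Nontrivial V := by
    by_contra hnt
    rw [not_nontrivial_iff_subsingleton] at hnt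
    apply hsolv
    have : Subsingleton H := ⟨fun a b => Subtype.ext (LinearEquiv.ext fun v => Subsingleton.elim _ _)⟩
    infer_instance
  -- `|H| = |V| - 1`
  have hHcard : Nat.card H = Nat.card V - 1 := by
    obtain ⟨v0, hv0⟩ := exists_ne (0 : V)
    have h1 : Nat.card H = Nat.card {w : V // w ≠ 0} := by
      apply Nat.card_congr
      refine Equiv.ofBijective (fun h => ⟨(h : V ≃ₗ[ZMod p] V) v0, ?_⟩) ⟨?_, ?_⟩
      · intro h0
        apply hv0
        have := (h : V ≃ₗ[ZMod p] V).injective (h0.trans (map_zero _).symm)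
        exact this
      · intro h k hhk
        have h3 : (h : V ≃ₗ[ZMod p] V) v0 = (k : V ≃ₗ[ZMod p] V) v0 := congrArg Subtype.val hhk
        obtain ⟨h0, -, huniq⟩ := hreg v0 _ hv0 (show (k : V ≃ₗ[ZMod p] V) v0 ≠ 0 from by
          intro h0
          apply hv0
          exact (k : V ≃ₗ[ZMod p] V).injective (h0.trans (map_zero _).symm))
        rw [huniq h h3, huniq k rfl]
      · rintro ⟨w, hw⟩
        obtain ⟨h, hh, -⟩ := hreg v0 w hv0 hw
        exact ⟨h, Subtype.ext hh⟩
    rw [h1]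
    have : Fintype V := Fintype.ofFinite V
    rw [Nat.card_eq_fintype_card, Nat.card_eq_fintype_card]
    exact Set.card_ne_eq (0 : V)
  have hinv : UniqueInvol H := uniqueInvol H hfree
  have hU : UniqueOrderP H := uniqueOrderP H hfree
  -- the perfect core
  obtain ⟨D, hDn, hDne, hDperf⟩ := exists_perfect_normal_of_not_isSolvable hsolv
  obtain ⟨εD⟩ := perfect_iso h690 H hfree D hDne hDperf
  have hDcard : Nat.card D = 120 :=
    (Nat.card_congr εD.toEquiv).trans Cfsg.Agent.S3378.card_SL25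
  have hDns : ¬ Group.IsSolvable D := by
    intro hs
    have : Nontrivial D := (Subgroup.nontrivial_iff_ne_bot D).mpr hDne
    exact (Group.IsSolvable.commutator_lt_top_of_nontrivial D).ne
      (commutator_eq_top_of_perfect D hDperf)
  obtain ⟨G₀, hG₀n, hidx, M, hDM, hinf, hcomm, -, hcop⟩ :=
    structure_thm D hinv hU hDcard hDns hDperf
  -- the quaternion elements
  set i : H := ((εD.symm mI : D) : H) with hi
  set j : H := ((εD.symm mJ : D) : H) with hj
  have hiD : i ∈ D := (εD.symm mI).2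
  have hjD : j ∈ D := (εD.symm mJ).2
  have hii1 : i * i ≠ 1 := by
    intro h
    apply mI_sq_ne
    apply εD.symm.injective
    apply Subtype.ext
    rw [map_mul, map_one]
    exact h
  have hi4 : (i * i) * (i * i) = 1 := by
    have := congrArg (fun t : D => (t : H)) (congrArg εD.symm mI_four)
    simpa only [map_mul, map_one, Subgroup.coe_mul, Subgroup.coe_one] using this
  have hjj : j * j = i * i := by
    have := congrArg (fun t : D => (t : H)) (congrArg εD.symm mJ_sq)
    simpa only [map_mul, Subgroup.coe_mul] using this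
  have hij : i * j = (i * i) * (j * i) := by
    have := congrArg (fun t : D => (t : H)) (congrArg εD.symm mIJ)
    simpa only [map_mul, Subgroup.coe_mul] using this
  have hz : orderOf (i * i) = 2 := orderOf_eq_two_of_sq hi4 hii1
  obtain ⟨W, hVW, hMdvd, h2⟩ := card_dvd_of_quaternion H hfree i j hz hjj hij M
    (fun x hx => hcomm i hiD x hx) (fun x hx => hcomm j hjD x hx)
  -- cardinalities
  set Q := Nat.card W with hQ
  set m := Nat.card M with hm
  have hWcard : Q = p ^ Module.finrank (ZMod p) W := by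
    have : Fintype W := Fintype.ofFinite W
    rw [hQ, Nat.card_eq_fintype_card, Module.card_eq_pow_finrank (K := ZMod p) (V := W), ZMod.card]
  have hp2 : p ≠ 2 := by
    rintro rfl
    apply h2
    exact ZMod.natCast_self 2
  have hr : 1 ≤ Module.finrank (ZMod p) W := by
    by_contra hr
    have hr0 : Module.finrank (ZMod p) W = 0 := by omega
    rw [hr0, pow_zero] at hWcard
    rw [hWcard] at hVW
    have := Finite.one_lt_card (α := V)
    omega
  have hQ3 : 3 ≤ Q := by
    have hp3 : 3 ≤ p := by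
      have := hp.two_le
      omega
    rw [hWcard]
    calc 3 ≤ p := hp3
      _ = p ^ 1 := (pow_one p).symm
      _ ≤ p ^ Module.finrank (ZMod p) W := Nat.pow_le_pow_right (by omega) hr
  -- `|D ⊔ M| = 120 m`
  have hcm : ∀ (d : D) (x : M), Commute (D.subtype d) (M.subtype x) :=
    fun d x => hcomm d d.2 x x.2
  set ψ : D × M →* H := MonoidHom.noncommCoprod D.subtype M.subtype hcm with hψ
  have hψinj : Function.Injective ψ := by
    rw [hψ, MonoidHom.noncommCoprod_injective]
    refine ⟨D.subtype_injective, M.subtype_injective, ?_⟩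
    rw [Subgroup.range_subtype, Subgroup.range_subtype, disjoint_iff]
    exact hinf
  have hψrange : ψ.range = D ⊔ M := by
    rw [hψ, MonoidHom.noncommCoprod_range, Subgroup.range_subtype, Subgroup.range_subtype]
  have hG₀card : Nat.card G₀ = 120 * m := by
    rw [← hDM, ← hψrange, ← Nat.card_congr (MonoidHom.ofInjective hψinj).toEquiv, Nat.card_prod,
      hDcard]
  have hHG₀ := Subgroup.card_mul_index G₀
  rw [hG₀card] at hHG₀
  have hQodd : 2 ∣ Q - 1 := by
    have hpodd : Odd p := hp.odd_of_ne_two hp2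
    have : Odd Q := by rw [hWcard]; exact hpodd.pow
    obtain ⟨k, hk⟩ := this
    exact ⟨k, by omega⟩
  have hmodd : Nat.Coprime 2 m := by
    have : Nat.Coprime m (2 * 15) := hcop
    exact (Nat.Coprime.coprime_mul_right_right this).symm
  have h2m : 2 * m ∣ Q - 1 := Nat.Coprime.mul_dvd_of_dvd_of_dvd hmodd hQodd hMdvd
  have hmain : Q * Q - 1 = 120 * m * G₀.index := by
    rw [hHG₀, hHcard, hVW]
  rcases arith Q m G₀.index hQ3 hidx hcop hmain h2m with
    ⟨hQ11, hm1, hε⟩ | ⟨hQ29, hm7, hε⟩ | ⟨hQ59, hm29, hε⟩ | h119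
  · left
    refine ⟨by rw [hVW, hQ11], ?_⟩
    have hG₀top : G₀ = ⊤ := Subgroup.index_eq_one.mp hε
    have hψsurj : Function.Surjective ψ := by
      rw [← MonoidHom.range_eq_top, hψrange, hDM, hG₀top]
    have : Unique M := by
      have : Subsingleton M := (Nat.card_eq_one_iff_unique.mp hm1).1
      exact ⟨⟨1⟩, fun a => Subsingleton.elim _ _⟩
    exact ⟨(MulEquiv.ofBijective ψ ⟨hψinj, hψsurj⟩).symm.trans
      ((MulEquiv.prodUnique).trans εD)⟩
  · right; left
    refine ⟨by rw [hVW, hQ29], ?_⟩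
    have hG₀top : G₀ = ⊤ := Subgroup.index_eq_one.mp hε
    have hψsurj : Function.Surjective ψ := by
      rw [← MonoidHom.range_eq_top, hψrange, hDM, hG₀top]
    have : Fact (Nat.Prime 7) := ⟨by norm_num⟩
    have εM : M ≃* Multiplicative (ZMod 7) :=
      mulEquivOfPrimeCardEq (p := 7) hm7 (card_multiplicative_zmod 7)
    exact ⟨(MulEquiv.ofBijective ψ ⟨hψinj, hψsurj⟩).symm.trans (MulEquiv.prodCongr εD εM)⟩
  · right; right
    refine ⟨by rw [hVW, hQ59], ?_⟩
    have hG₀top : G₀ = ⊤ := Subgroup.index_eq_one.mp hε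
    have hψsurj : Function.Surjective ψ := by
      rw [← MonoidHom.range_eq_top, hψrange, hDM, hG₀top]
    have : Fact (Nat.Prime 29) := ⟨by norm_num⟩
    have εM : M ≃* Multiplicative (ZMod 29) :=
      mulEquivOfPrimeCardEq (p := 29) hm29 (card_multiplicative_zmod 29)
    exact ⟨(MulEquiv.ofBijective ψ ⟨hψinj, hψsurj⟩).symm.trans (MulEquiv.prodCongr εD εM)⟩
  · exfalso
    exact not_prime_pow_119 p _ hp (hWcard.symm.trans h119)

end main

end Cfsg.Agent.Lib.Helper35.Sharp2
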