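/-
helper35: project STEINBERG, phase 2b (S1078): the relation (R3) in a Steinberg model.
-/
import Cfsg.Agent.Lib.Helper35.StDefs2

set_option autoImplicit false

namespace Cfsg.Agent.Lib.Helper35.St

open Cfsg.Lie

universe u v

namespace Model

variable {D : ChevalleyDatum} {K : Type u} [Field K] {Γ : Type v} [Group Γ] (M : Model D K Γ)

/-- The relation (R3) for the fundamental roots: `h̄_p` is multiplicative. -/
def R3 : Prop := ∀ i, i < D.rank → ∀ t₁ t₂ : K, t₁ ≠ 0 → t₂ ≠ 0 →
  M.hbar (D.simple i) t₁ * M.hbar (D.simple i) t₂ = M.hbar (D.simple i) (t₁ * t₂)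

/-- The product `∏_{i < rank} h̄_{p_i}(t_i)`. -/
def hprod (t : ℕ → K) : Γ := ((List.range D.rank).map fun i => M.hbar (D.simple i) (t i)).prod

end Model

end Cfsg.Agent.Lib.Helper35.St
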