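/-
helper35: project SMALL (S2400), the datum `B₂` over the field with three elements.  The torus `{± 1}²` acts trivially
on the long root subgroups, so the canonical lifts of the long root elements are built from commutators of lifts of
short root elements.  The section property at a single root.
-/
import Cfsg.Agent.Lib.Helper60.St3Defs

set_option autoImplicit false

namespace Cfsg.Agent.Lib.Helper35.Small

open Cfsg.Lie Cfsg.Agent.Lib.Helper35.St Cfsg.Agent.Lib.Helper60.St3

universe u v w

variable {D : ChevalleyDatum} {K : Type u} [Field K] {Γ : Type v} [Group Γ] {E : Type w} [Group E]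

/-- The properties of `IsSection` at the single root `s`, for a function `zs : K → E`. -/
structure IsSecAt (M : Model D K Γ) (ψ : E →* Γ) (zs : K → E) (s : ℕ) : Prop where
  lift : ∀ t : K, ψ (zs t) = M.X s t
  add : ∀ t u : K, zs t * zs u = zs (t + u)
  brk : ∀ (g : Γ) (χ : ℕ → K), IsDiag M g χ → ∀ (t : K) (e x : E), ψ e = g → ψ x = M.X s t →
    e * x * e⁻¹ * x⁻¹ = zs ((χ s - 1) * t)

/-- A family of sections at all the roots is a section. -/
theorem isSection_of_secAt (M : Model D K Γ) (ψ : E →* Γ) (z : ℕ → K → E)
    (h : ∀ s, s < D.nroots → IsSecAt M ψ (z s) s) : IsSection M ψ z :=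
  ⟨fun s hs => (h s hs).lift, fun s hs => (h s hs).add, fun g χ hg s hs => (h s hs).brk g χ hg⟩

/-- A section restricts to a section at every root. -/
theorem IsSection.secAt {M : Model D K Γ} {ψ : E →* Γ} {z : ℕ → K → E} (hz : IsSection M ψ z) (s : ℕ)
    (hs : s < D.nroots) : IsSecAt M ψ (z s) s :=
  ⟨hz.lift s hs, hz.add s hs, fun g χ hg => hz.brk g χ hg s hs⟩

end Cfsg.Agent.Lib.Helper35.Small
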