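/-
helper35: project SMALL (S2103: the Schur multiplier of F₄(q) is trivial also for q = 3, 4).  Steinberg's Theorem 10
(helper60's project, S2398) needs a field with more than four elements because it separates roots by torus elements
`h(v)` with `v, v², v³ ≠ 1`.  Over the fields with 3 and 4 elements the only unit `v ≠ 1` has order `n = 2` resp. `3`, and
a coweight `λ` separates the roots `a`, `k` iff `n ∣ ⟨a, λ⟩`, `n ∤ ⟨k, λ⟩`.  Table facts of this kind, and the certificates
replacing the torus trick where it fails.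
-/
import Cfsg.Agent.Lib.Helper60.St3Defs

set_option autoImplicit false

namespace Cfsg.Agent.Lib.Helper35.Small

open Cfsg.Lie Cfsg.Agent.Lib.Helper35.St Cfsg.Agent.Lib.Helper60.St3

/-- A coweight `λ` with `n ∣ ⟨a, λ⟩` and `n ∤ ⟨k, λ⟩`. -/
def SepAt (D : ChevalleyDatum) (n : ℤ) (a k : ℕ) : Prop :=
  ∃ m : ℕ → ℤ, n ∣ pair D m a ∧ ¬ n ∣ pair D m k

/-- Every root is moved by some torus element of order `n`. -/
def HdN (D : ChevalleyDatum) (n : ℤ) : Prop :=
  ∀ s, s < D.nroots → ∃ m : ℕ → ℤ, ¬ n ∣ pair D m s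

/-- Two roots with a non-empty commutator formula are separated mod `n`. -/
def SepN (D : ChevalleyDatum) (n : ℤ) : Prop :=
  ∀ a k, a < D.nroots → k < D.nroots → k ≠ a → k ≠ D.neg a → D.commTerms a k ≠ [] → SepAt D n a k

/-- Two commuting roots are separated mod `n`, one way or the other. -/
def ComSep (D : ChevalleyDatum) (n : ℤ) : Prop :=
  ∀ a b, a < D.nroots → ComPair D a b → SepAt D n a b ∨ SepAt D n b a

/-- `b` is the top of a single-term commutator formula `[x_c, x_d] = x_b(C ..)`, `C ∈ {± 1, ± 2}`, of two roots `c`, `d`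
commuting with `a`. -/
def TopC (D : ChevalleyDatum) (a b : ℕ) : Prop :=
  ∃ (c d : ℕ) (C : ℤ), c < D.nroots ∧ d < D.nroots ∧ d ≠ c ∧ d ≠ D.neg c ∧ D.commTerms c d = [(b, C, 1, 1)] ∧
    (C = 1 ∨ C = -1 ∨ C = 2 ∨ C = -2) ∧ ComPair D a c ∧ ComPair D a d

/-- Two commuting roots are separated mod `n`, or the second is a top over the first. -/
def ComSepTop (D : ChevalleyDatum) (n : ℤ) : Prop :=
  ∀ a b, a < D.nroots → ComPair D a b → SepAt D n a b ∨ SepAt D n b a ∨ TopC D a b

/-- Every root has a certificate `TopCert` (helper60). -/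
def AllTop (D : ChevalleyDatum) : Prop := ∀ s, s < D.nroots → TopCert D s

end Cfsg.Agent.Lib.Helper35.Small
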