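/-
helper35: project SMALL (S2103).  Commutation of lifts of root elements in a central extension of a Steinberg model over
a small field: the torus trick with a unit `v` of order `n` (separation mod `n`), the "top of a commutator" trick, and
self-commutation over the prime field with three elements.
-/
import Cfsg.Agent.Lib.Helper35.SmallDefs
import Cfsg.Agent.Lib.Helper46.St3CP
import Cfsg.Agent.Lib.Helper44.St3Diag
import Cfsg.Agent.Lib.Helper50.St3.ScTop

set_option autoImplicit false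

namespace Cfsg.Agent.Lib.Helper35.Small

open Cfsg.Lie Cfsg.Agent.Lib.Helper35.St Cfsg.Agent.Lib.Helper60.St3 Cfsg.Agent.Lib.Helper53.CLift
  Cfsg.Agent.Lib.Helper53.AltMult

universe u v w

variable {D : ChevalleyDatum} {K : Type u} [Field K] {Γ : Type v} [Group Γ] {E : Type w} [Group E]

theorem liftsComm_symm {ψ : E →* Γ} {g g' : Γ} (h : LiftsComm ψ g g') : LiftsComm ψ g' g :=
  fun x y hx hy => (h y x hy hx).symm

/-- The torus trick for one pair of commuting root subgroups. -/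
theorem liftsComm_of_diag (M : Model D K Γ) (ψ : E →* Γ) (hψ : Function.Surjective ψ)
    (hc : ψ.ker ≤ Subgroup.center E) (a b : ℕ) (ha : a < D.nroots) (hb : b < D.nroots)
    (hcomm : ∀ t u : K, M.X b u * M.X a t = M.X a t * M.X b u)
    (g : Γ) (χ : ℕ → K) (hg : IsDiag M g χ) (hχa : χ a = 1) (hχb : χ b ≠ 1) (t u : K) :
    LiftsComm ψ (M.X a t) (M.X b u) := by
  intro x y hx hy
  have hA : ∀ t' u' : K, M.X b (t' + u') = M.X b t' * M.X b u' := fun t' u' => (M.add b hb t' u').symm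
  have hAb : ∀ t' : K, M.X b t' * M.X a t = M.X a t * M.X b t' := fun t' => hcomm t t'
  have hhA : ∀ t' : K, g * M.X b t' * g⁻¹ = M.X b (χ b * t') := fun t' => (hg b hb).2 t'
  have hhb : g * M.X a t * g⁻¹ = M.X a t := by
    rw [(hg a ha).2 t, hχa, one_mul]
  have key := liftsCommute_of_torus ψ hc hψ (fun u' : K => M.X b u') hA
    (M.X a t) hAb g (χ b) hχb hhA hhb u
  exact (key y x hy hx).eq.symm

/-- A unit `v` whose powers are `1` exactly at the multiples of `n`. -/
def OrdN (v : K) (n : ℤ) : Prop := v ≠ 0 ∧ ∀ j : ℤ, v ^ j = 1 ↔ n ∣ j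

/-- Separation mod `n` gives a separating diagonal element. -/
theorem diag_of_sepAt (M : Model D K Γ) (hH : M.HAct) {v : K} {n : ℤ} (hv : OrdN v n) {a k : ℕ}
    (h : SepAt D n a k) : ∃ (g : Γ) (χ : ℕ → K), IsDiag M g χ ∧ χ a = 1 ∧ χ k ≠ 1 := by
  obtain ⟨m, hma, hmk⟩ := h
  obtain ⟨g, hg⟩ := Cfsg.Agent.Lib.Helper44.St3.exists_diag M hH m v hv.1
  exact ⟨g, _, hg, (hv.2 _).2 hma, fun h1 => hmk ((hv.2 _).1 h1)⟩

/-- Every root is moved by a diagonal element. -/
theorem diag_of_hdN (M : Model D K Γ) (hH : M.HAct) {v : K} {n : ℤ} (hv : OrdN v n) (hd : HdN D n)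
    (s : ℕ) (hs : s < D.nroots) : ∃ (g : Γ) (χ : ℕ → K), IsDiag M g χ ∧ χ s ≠ 1 := by
  obtain ⟨m, hm⟩ := hd s hs
  obtain ⟨g, hg⟩ := Cfsg.Agent.Lib.Helper44.St3.exists_diag M hH m v hv.1
  exact ⟨g, _, hg, fun h1 => hm ((hv.2 _).1 h1)⟩

/-- The "top of a commutator" trick: if `b` is the top of a single-term formula of two roots commuting with `a`, the
lifts of `X_a` and `X_b` commute (the coefficient must be invertible in `K`). -/
theorem liftsComm_of_topC (M : Model D K Γ) (ψ : E →* Γ) (hψ : Function.Surjective ψ)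
    (hc : ψ.ker ≤ Subgroup.center E) (h2 : (2 : K) ≠ 0) (a b : ℕ) (ha : a < D.nroots) (h : TopC D a b) (t u : K) :
    LiftsComm ψ (M.X a t) (M.X b u) := by
  obtain ⟨c, d, C, hc', hd, hdc, hdn, hct, hC, hac, had⟩ := h
  have hC0 : (C : K) ≠ 0 := by
    rcases hC with rfl | rfl | rfl | rfl
    · simp
    · simp
    · simpa using h2
    · simpa using h2
  -- the relation `[X_d(1), X_c(t')] = X_b(C * (-t'))`
  set t' : K := -(u / (C : K)) with ht'
  have hrel := M.comm c d hc' hd hdc hdn t' 1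
  have hw : D.commWord K c d t' 1 = [(b, u)] := by
    unfold ChevalleyDatum.commWord
    rw [hct]
    simp only [List.map_cons, List.map_nil, pow_one, mul_one, ht', neg_neg]
    rw [mul_div_cancel₀ _ hC0]
  rw [hw, List.map_cons, List.map_nil, List.prod_cons, List.prod_nil, mul_one] at hrel
  -- `X_a(t)` commutes with `X_c`, `X_d`
  have h1 : M.X a t * (M.X d 1)⁻¹ = (M.X d 1)⁻¹ * M.X a t := by
    have := Cfsg.Agent.Lib.Helper46.St3.h46_X_comm_of_comPair M a d ha had t (1 : K)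
    calc M.X a t * (M.X d 1)⁻¹ = (M.X d 1)⁻¹ * (M.X d 1 * M.X a t) * (M.X d 1)⁻¹ := by group
      _ = (M.X d 1)⁻¹ * (M.X a t * M.X d 1) * (M.X d 1)⁻¹ := by rw [this]
      _ = (M.X d 1)⁻¹ * M.X a t := by group
  have h3 : M.X a t * (M.X c t')⁻¹ = (M.X c t')⁻¹ * M.X a t := by
    have := Cfsg.Agent.Lib.Helper46.St3.h46_X_comm_of_comPair M a c ha hac t t'
    calc M.X a t * (M.X c t')⁻¹ = (M.X c t')⁻¹ * (M.X c t' * M.X a t) * (M.X c t')⁻¹ := by group
      _ = (M.X c t')⁻¹ * (M.X a t * M.X c t') * (M.X c t')⁻¹ := by rw [this]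
      _ = (M.X c t')⁻¹ * M.X a t := by group
  have key := liftsCommute_cm ψ hc hψ h1 h3
  have hcm : cm (M.X d 1)⁻¹ (M.X c t')⁻¹ = M.X b u := by
    rw [← hrel]
    unfold cm
    group
  rw [hcm] at key
  intro x y hx hy
  exact (key x y hx hy).eq

/-- Lifts of powers of one element commute. -/
theorem comm_of_zpow (ψ : E →* Γ) (hc : ψ.ker ≤ Subgroup.center E) (e x y : E) (i j : ℤ)
    (hx : ψ x = ψ e ^ i) (hy : ψ y = ψ e ^ j) : x * y = y * x := by
  have hx' : (e ^ i)⁻¹ * x ∈ Subgroup.center E := by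
    apply hc
    rw [MonoidHom.mem_ker, map_mul, map_inv, map_zpow, hx, inv_mul_cancel]
  have hy' : (e ^ j)⁻¹ * y ∈ Subgroup.center E := by
    apply hc
    rw [MonoidHom.mem_ker, map_mul, map_inv, map_zpow, hy, inv_mul_cancel]
  have ex : x = e ^ i * ((e ^ i)⁻¹ * x) := by group
  have ey : y = e ^ j * ((e ^ j)⁻¹ * y) := by group
  set cx := (e ^ i)⁻¹ * x
  set cy := (e ^ j)⁻¹ * y
  have c1 : ∀ g : E, g * cx = cx * g := fun g => Subgroup.mem_center_iff.1 hx' g
  have c2 : ∀ g : E, g * cy = cy * g := fun g => Subgroup.mem_center_iff.1 hy' g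
  have hij : e ^ i * e ^ j = e ^ j * e ^ i := by rw [← zpow_add, ← zpow_add, add_comm]
  rw [ex, ey]
  calc e ^ i * cx * (e ^ j * cy) = e ^ i * (cx * e ^ j) * cy := by group
    _ = e ^ i * (e ^ j * cx) * cy := by rw [c1]
    _ = (e ^ i * e ^ j) * (cx * cy) := by group
    _ = (e ^ j * e ^ i) * (cx * cy) := by rw [hij]
    _ = e ^ j * (e ^ i * cx) * cy := by group
    _ = e ^ j * (e ^ i * (cx * cy)) := by group
    _ = e ^ j * (e ^ i * (cy * cx)) := by rw [c2 cx]
    _ = e ^ j * ((e ^ i * cy) * cx) := by group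
    _ = e ^ j * ((cy * e ^ i) * cx) := by rw [c2]
    _ = e ^ j * cy * (e ^ i * cx) := by group

/-- Over the field with three elements lifts of elements of one root subgroup commute. -/
theorem selfComm_of_three (M : Model D K Γ) (ψ : E →* Γ) (hψ : Function.Surjective ψ)
    (hc : ψ.ker ≤ Subgroup.center E) (hK : ∀ a : K, a = 0 ∨ a = 1 ∨ a = -1) : SelfComm M ψ := by
  intro s hs a b x y hx hy
  obtain ⟨e, he⟩ := hψ (M.X s 1)
  have h0 : M.X s (0 : K) = 1 := by
    have := M.add s hs 0 0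
    rw [add_zero] at this
    exact mul_eq_left.mp this
  have hneg : M.X s (-1 : K) = (M.X s 1)⁻¹ := by
    have := M.add s hs (-1) 1
    rw [neg_add_cancel, h0] at this
    exact eq_inv_of_mul_eq_one_left this
  have hpow : ∀ a : K, ∃ i : ℤ, M.X s a = ψ e ^ i := by
    intro a
    rcases hK a with rfl | rfl | rfl
    · exact ⟨0, by rw [h0, zpow_zero]⟩
    · exact ⟨1, by rw [he, zpow_one]⟩
    · exact ⟨-1, by rw [hneg, he, zpow_neg, zpow_one]⟩
  obtain ⟨i, hi⟩ := hpow a
  obtain ⟨j, hj⟩ := hpow b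
  exact comm_of_zpow ψ hc e x y i j (hx.trans hi) (hy.trans hj)

/-- `PairComm` from the table facts mod `n` (with tops where the separation fails). -/
theorem pairComm_of_comSepTop (M : Model D K Γ) (hH : M.HAct) (ψ : E →* Γ) (hψ : Function.Surjective ψ)
    (hc : ψ.ker ≤ Subgroup.center E) {v : K} {n : ℤ} (hv : OrdN v n) (h2 : (2 : K) ≠ 0) (hcs : ComSepTop D n) :
    PairComm M ψ := by
  intro a b ha hab t u
  have hcomm := Cfsg.Agent.Lib.Helper46.St3.h46_X_comm_of_comPair M a b ha hab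
  have hb := hab.1
  rcases hcs a b ha hab with h | h | h
  · obtain ⟨g, χ, hg, hχa, hχb⟩ := diag_of_sepAt M hH hv h
    exact liftsComm_of_diag M ψ hψ hc a b ha hb hcomm g χ hg hχa hχb t u
  · obtain ⟨g, χ, hg, hχb, hχa⟩ := diag_of_sepAt M hH hv h
    exact liftsComm_symm (liftsComm_of_diag M ψ hψ hc b a hb ha (fun t' u' => (hcomm u' t').symm) g χ hg hχb hχa u t)
  · exact liftsComm_of_topC M ψ hψ hc h2 a b ha h t u

/-- `PairComm` from the separation of all commuting pairs mod `n`. -/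
theorem pairComm_of_comSep (M : Model D K Γ) (hH : M.HAct) (ψ : E →* Γ) (hψ : Function.Surjective ψ)
    (hc : ψ.ker ≤ Subgroup.center E) {v : K} {n : ℤ} (hv : OrdN v n) (hcs : ComSep D n) :
    PairComm M ψ := by
  intro a b ha hab t u
  have hcomm := Cfsg.Agent.Lib.Helper46.St3.h46_X_comm_of_comPair M a b ha hab
  have hb := hab.1
  rcases hcs a b ha hab with h | h
  · obtain ⟨g, χ, hg, hχa, hχb⟩ := diag_of_sepAt M hH hv h
    exact liftsComm_of_diag M ψ hψ hc a b ha hb hcomm g χ hg hχa hχb t u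
  · obtain ⟨g, χ, hg, hχb, hχa⟩ := diag_of_sepAt M hH hv h
    exact liftsComm_symm (liftsComm_of_diag M ψ hψ hc b a hb ha (fun t' u' => (hcomm u' t').symm) g χ hg hχb hχa u t)

/-- Self-commutation from tops. -/
theorem selfComm_of_allTop (M : Model D K Γ) (ψ : E →* Γ) (hψ : Function.Surjective ψ)
    (hc : ψ.ker ≤ Subgroup.center E) (hpc : PairComm M ψ) (htop : AllTop D) : SelfComm M ψ :=
  fun s hs a b => Cfsg.Agent.Lib.Helper50.St3.selfComm_of_topCert M ψ hψ hc hpc s hs (htop s hs) a b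

end Cfsg.Agent.Lib.Helper35.Small
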