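/-
helper35: project SMALL (S2103).  The fields with three and four elements: a unit of order `2` resp. `3`.
-/
import Cfsg.Agent.Lib.Helper35.SmallPair

set_option autoImplicit false

namespace Cfsg.Agent.Lib.Helper35.Small

universe u

variable {K : Type u} [Field K]

/-- A unit `v ≠ 1` with `v ^ p = 1`, `p` prime, has `v ^ j = 1` exactly for `p ∣ j`. -/
theorem ordN_of_prime (v : K) (hv0 : v ≠ 0) (hv1 : v ≠ 1) (p : ℕ) (hp : p.Prime) (hvp : v ^ p = 1) :
    OrdN v (p : ℤ) := by
  refine ⟨hv0, fun j => ?_⟩
  set w : Kˣ := Units.mk0 v hv0 with hw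
  have hwp : w ^ p = 1 := by
    apply Units.ext
    rw [Units.val_pow_eq_pow_val, Units.val_one]
    exact hvp
  have hord : orderOf w = p := by
    have hd : orderOf w ∣ p := orderOf_dvd_of_pow_eq_one hwp
    rcases (Nat.dvd_prime hp).1 hd with h | h
    · exfalso
      rw [orderOf_eq_one_iff] at h
      apply hv1
      have := congrArg Units.val h
      simpa [hw] using this
    · exact h
  have hval : v ^ j = ((w ^ j : Kˣ) : K) := by
    rw [Units.val_zpow_eq_zpow_val, hw, Units.val_mk0]
  rw [hval, ← hord, orderOf_dvd_iff_zpow_eq_one]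
  constructor
  · intro h
    exact Units.ext (by rw [h, Units.val_one])
  · intro h
    rw [h, Units.val_one]

variable [Fintype K]

/-- The field with three elements. -/
theorem three_facts (hK : Fintype.card K = 3) :
    (2 : K) ≠ 0 ∧ (∀ a : K, a = 0 ∨ a = 1 ∨ a = -1) ∧ OrdN (-1 : K) 2 := by
  classical
  have h3 : (3 : K) = 0 := by
    have := card_nsmul_eq_zero (G := K) (x := (1 : K))
    rw [hK] at this
    simpa using this
  have h2 : (2 : K) ≠ 0 := by
    intro h
    have : (3 : K) = 2 + 1 := by norm_num
    rw [this, h, zero_add] at h3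
    exact one_ne_zero h3
  have hm1 : (-1 : K) ≠ 1 := by
    intro h
    apply h2
    have : (2 : K) = 1 - (-1) := by norm_num
    rw [this, h, sub_self]
  refine ⟨h2, ?_, ?_⟩
  · have hs : ({0, 1, -1} : Finset K) = Finset.univ := by
      apply Finset.eq_univ_of_card
      rw [hK, Finset.card_insert_of_notMem, Finset.card_insert_of_notMem, Finset.card_singleton]
      · simpa using hm1.symm
      · simp
    intro a
    have := Finset.mem_univ a
    rw [← hs] at this
    simpa using this
  · have := ordN_of_prime (-1 : K) (by simp) hm1 2 Nat.prime_two (by norm_num)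
    simpa using this

/-- The field with four elements. -/
theorem four_facts (hK : Fintype.card K = 4) : ∃ v : K, OrdN v 3 := by
  classical
  have hex : ∃ v : K, v ≠ 0 ∧ v ≠ 1 := by
    by_contra hne
    have hall : ∀ x : K, x = 0 ∨ x = 1 := by
      intro x
      by_contra hx
      exact hne ⟨x, fun h => hx (Or.inl h), fun h => hx (Or.inr h)⟩
    have hsub : (Finset.univ : Finset K) ⊆ {0, 1} := by
      intro x _
      rcases hall x with rfl | rfl <;> simp
    have := Finset.card_le_card hsub
    rw [Finset.card_univ, hK] at this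
    have h2 : ({0, 1} : Finset K).card ≤ 2 := Finset.card_le_two
    omega
  obtain ⟨v, hv0, hv1⟩ := hex
  have hv3 : v ^ 3 = 1 := by
    have := FiniteField.pow_card_sub_one_eq_one v hv0
    rwa [hK] at this
  have := ordN_of_prime v hv0 hv1 3 Nat.prime_three hv3
  exact ⟨v, by simpa using this⟩

end Cfsg.Agent.Lib.Helper35.Small
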