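/-
helper35: project SMALL (S2400).  Steinberg's Theorem 10 for the datum `B₂` over the field with three elements
(`Sp₄(3)`).  The torus `{± 1}²` acts trivially on the long root subgroups; the canonical lifts of the long root elements are
commutators of lifts of short root elements.
-/
import Cfsg.Agent.Lib.Helper35.B2Defs
import Cfsg.Agent.Lib.Helper35.B2Inj
import Cfsg.Agent.Lib.Helper35.SmallPair
import Cfsg.Agent.Lib.Helper35.SmallField
import Cfsg.Agent.Lib.Helper19.SmallSecAt
import Cfsg.Agent.Lib.Helper19.SmallLong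
import Cfsg.Agent.Lib.Helper51.B2Corr
import Cfsg.Agent.Lib.Helper60.St3Split
import Cfsg.Prelude.Def_ChevB2

set_option autoImplicit false
set_option linter.unusedSectionVars false

namespace Cfsg.Agent.Lib.Helper35.Small

open Cfsg.Lie Cfsg.Agent.Lib.Helper35.St Cfsg.Agent.Lib.Helper60.St3 Cfsg.Agent.Lib.Helper53.CLift
  Cfsg.Agent.Lib.Helper84.St3 Cfsg.Agent.Lib.Helper19.Small Cfsg.Agent.Lib.Helper51.Small

universe u v w

variable {K : Type u} [Field K] {Γ : Type v} [Group Γ] {E : Type w} [Group E]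

/-! ### Table facts -/

/-- The long roots of `B₂`. -/
abbrev B2Long (s : ℕ) : Prop := s = 0 ∨ s = 3 ∨ s = 4 ∨ s = 7

/-- The short roots of `B₂`. -/
abbrev B2Short (s : ℕ) : Prop := s = 1 ∨ s = 2 ∨ s = 5 ∨ s = 6

/-- The coweight (the coroot of the long fundamental root) separating short from long roots mod 2. -/
def b2m : ℕ → ℤ := fun i => if i = 1 then 1 else 0

theorem b2_nroots : chevB2.nroots = 8 := by decide

theorem b2_rank : chevB2.rank = 2 := by decide

theorem b2_cases : ∀ s < 8, B2Long s ∨ B2Short s := by decide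

theorem b2_not_long : ∀ s < 8, B2Short s → ¬ B2Long s := by decide

theorem b2_pair_long : ∀ s < 8, B2Long s → (2 : ℤ) ∣ pair chevB2 b2m s := by decide

theorem b2_pair_short : ∀ s < 8, B2Short s → ¬ (2 : ℤ) ∣ pair chevB2 b2m s := by decide

theorem b2_pos : ∀ a < 8, chevB2.IsPosRoot a → a = 4 ∨ a = 5 ∨ a = 6 ∨ a = 7 := by decide

set_option synthInstance.maxSize 2000 in
set_option synthInstance.maxHeartbeats 200000 in
theorem b2_comPair_cases : ∀ a < 8, ∀ b < 8, (b ≠ a ∧ b ≠ chevB2.neg a ∧ chevB2.commTerms a b = []) →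
    (B2Long a ∧ B2Short b) ∨ (B2Long b ∧ B2Short a) ∨
    (a = 0 ∧ b = 3) ∨ (a = 0 ∧ b = 4) ∨ (a = 3 ∧ b = 0) ∨ (a = 3 ∧ b = 7) ∨ (a = 4 ∧ b = 0) ∨ (a = 4 ∧ b = 7) ∨
    (a = 7 ∧ b = 3) ∨ (a = 7 ∧ b = 4) := by decide

set_option synthInstance.maxSize 2000 in
set_option synthInstance.maxHeartbeats 200000 in
theorem b2_comPair_symm : ∀ a < 8, ∀ b < 8, (b ≠ a ∧ b ≠ chevB2.neg a ∧ chevB2.commTerms a b = []) →
    (a ≠ b ∧ a ≠ chevB2.neg b ∧ chevB2.commTerms b a = []) := by decide

theorem comPair_b2_symm {a b : ℕ} (ha : a < chevB2.nroots) (h : ComPair chevB2 a b) : ComPair chevB2 b a := by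
  obtain ⟨hb, h1, h2, h3⟩ := h
  obtain ⟨h4, h5, h6⟩ := b2_comPair_symm a ha b hb ⟨h1, h2, h3⟩
  exact ⟨ha, h4, h5, h6⟩

/-- `ComPair` for concrete roots of `B₂`. -/
theorem comPair_b2 {a b : ℕ} (hb : b < 8) (h1 : b ≠ a) (h2 : b ≠ chevB2.neg a) (h3 : chevB2.commTerms a b = []) :
    ComPair chevB2 a b := ⟨hb, h1, h2, h3⟩

/-! ### The diagonal element and the commutation of lifts -/

/-- The diagonal element `h_{β^∨}(-1)`: trivial on the long root subgroups, inverting the short root subgroups. -/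
def B2Diag (M : Model chevB2 K Γ) : Prop :=
  ∃ (g : Γ) (χ : ℕ → K), IsDiag M g χ ∧ (∀ s < 8, B2Long s → χ s = 1) ∧ (∀ s < 8, B2Short s → χ s ≠ 1)

theorem b2_diag (M : Model chevB2 K Γ) (hH : M.HAct) {v : K} (hv : OrdN v 2) : B2Diag M := by
  obtain ⟨g, hg⟩ := Cfsg.Agent.Lib.Helper44.St3.exists_diag M hH b2m v hv.1
  exact ⟨g, _, hg, fun s hs hl => (hv.2 _).2 (b2_pair_long s hs hl),
    fun s hs hsh h1 => b2_pair_short s hs hsh ((hv.2 _).1 h1)⟩

/-- The coefficient `± 2` is invertible in `K`. -/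
theorem b2_two (h2 : (2 : K) ≠ 0) : (((2 : ℤ) : K) ≠ 0) ∧ (((-2 : ℤ) : K) ≠ 0) := by
  constructor
  · push_cast; exact h2
  · push_cast; simpa using h2

section comm

variable (M : Model chevB2 K Γ) (ψ : E →* Γ) (hψ : Function.Surjective ψ) (hc : ψ.ker ≤ Subgroup.center E)
  (hdiag : B2Diag M)

include hψ hc hdiag

/-- Lifts of a long and a short root element commute when the root elements do. -/
theorem b2_ls {a b : ℕ} (ha : a < 8) (hla : B2Long a) (hsb : B2Short b) (hab : ComPair chevB2 a b) (t u : K) :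
    LiftsComm ψ (M.X a t) (M.X b u) := by
  obtain ⟨g, χ, hg, hχl, hχs⟩ := hdiag
  exact liftsComm_of_diag M ψ hψ hc a b ha hab.1
    (Cfsg.Agent.Lib.Helper46.St3.h46_X_comm_of_comPair M a b ha hab) g χ hg (hχl a ha hla) (hχs b hab.1 hsb) t u

theorem b2_sl {a b : ℕ} (ha : a < 8) (hla : B2Long a) (hsb : B2Short b) (hab : ComPair chevB2 a b) (t u : K) :
    LiftsComm ψ (M.X b u) (M.X a t) :=
  liftsComm_symm (b2_ls M ψ hψ hc hdiag ha hla hsb hab t u)


variable (h2 : (2 : K) ≠ 0) (hK3 : ∀ a : K, a = 0 ∨ a = 1 ∨ a = -1)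

include h2 hK3

/-- The orthogonal long roots `-(2α+β)`, `-β`. -/
theorem b2_ll_03 (t u : K) : LiftsComm ψ (M.X 0 t) (M.X 3 u) := by
  have hsc := selfComm_of_three M ψ hψ hc hK3
  have hct : chevB2.commTerms 0 5 = [(1, 1, 1, 1), (3, -1, 1, 2)] := by decide
  refine liftsComm_of_corr M ψ hψ hc 0 3 5 1 2 (by decide) (by decide) (by decide) (by decide) (by decide)
    (by decide) (b2_two h2).1 (by decide) (by decide) ?_ ?_ ?_ t u
  · rw [hct]; decide
  · exact fun t u => b2_ls M ψ hψ hc hdiag (by decide) (by decide) (by decide)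
      (comPair_b2 (by decide) (by decide) (by decide) (by decide)) t u
  · rw [hct]
    intro e he t u
    simp only [List.mem_cons, List.not_mem_nil, or_false] at he
    rcases he with rfl | rfl
    · exact hsc 1 (by decide) t u
    · exact b2_ls M ψ hψ hc hdiag (by decide) (by decide) (by decide)
        (comPair_b2 (by decide) (by decide) (by decide) (by decide)) t u

/-- The orthogonal long roots `-(2α+β)`, `β`. -/
theorem b2_ll_04 (t u : K) : LiftsComm ψ (M.X 0 t) (M.X 4 u) := by
  have hsc := selfComm_of_three M ψ hψ hc hK3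
  have hct : chevB2.commTerms 0 6 = [(2, -1, 1, 1), (4, 1, 1, 2)] := by decide
  refine liftsComm_of_corr M ψ hψ hc 0 4 6 2 2 (by decide) (by decide) (by decide) (by decide) (by decide)
    (by decide) (b2_two h2).1 (by decide) (by decide) ?_ ?_ ?_ t u
  · rw [hct]; decide
  · exact fun t u => b2_ls M ψ hψ hc hdiag (by decide) (by decide) (by decide)
      (comPair_b2 (by decide) (by decide) (by decide) (by decide)) t u
  · rw [hct]
    intro e he t u
    simp only [List.mem_cons, List.not_mem_nil, or_false] at he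
    rcases he with rfl | rfl
    · exact hsc 2 (by decide) t u
    · exact b2_ls M ψ hψ hc hdiag (by decide) (by decide) (by decide)
        (comPair_b2 (by decide) (by decide) (by decide) (by decide)) t u

/-- The orthogonal long roots `-β`, `2α+β`. -/
theorem b2_ll_37 (t u : K) : LiftsComm ψ (M.X 3 t) (M.X 7 u) := by
  have hsc := selfComm_of_three M ψ hψ hc hK3
  have hct : chevB2.commTerms 3 6 = [(5, 1, 1, 1), (7, 1, 1, 2)] := by decide
  refine liftsComm_of_corr M ψ hψ hc 3 7 6 5 (-2) (by decide) (by decide) (by decide) (by decide) (by decide)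
    (by decide) (b2_two h2).2 (by decide) (by decide) ?_ ?_ ?_ t u
  · rw [hct]; decide
  · exact fun t u => b2_ls M ψ hψ hc hdiag (by decide) (by decide) (by decide)
      (comPair_b2 (by decide) (by decide) (by decide) (by decide)) t u
  · rw [hct]
    intro e he t u
    simp only [List.mem_cons, List.not_mem_nil, or_false] at he
    rcases he with rfl | rfl
    · exact hsc 5 (by decide) t u
    · exact b2_ls M ψ hψ hc hdiag (by decide) (by decide) (by decide)
        (comPair_b2 (by decide) (by decide) (by decide) (by decide)) t u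

/-- The orthogonal long roots `β`, `2α+β`. -/
theorem b2_ll_47 (t u : K) : LiftsComm ψ (M.X 4 t) (M.X 7 u) := by
  have hsc := selfComm_of_three M ψ hψ hc hK3
  have hct : chevB2.commTerms 4 5 = [(6, 1, 1, 1), (7, -1, 1, 2)] := by decide
  refine liftsComm_of_corr M ψ hψ hc 4 7 5 6 2 (by decide) (by decide) (by decide) (by decide) (by decide)
    (by decide) (b2_two h2).1 (by decide) (by decide) ?_ ?_ ?_ t u
  · rw [hct]; decide
  · exact fun t u => b2_ls M ψ hψ hc hdiag (by decide) (by decide) (by decide)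
      (comPair_b2 (by decide) (by decide) (by decide) (by decide)) t u
  · rw [hct]
    intro e he t u
    simp only [List.mem_cons, List.not_mem_nil, or_false] at he
    rcases he with rfl | rfl
    · exact hsc 6 (by decide) t u
    · exact b2_ls M ψ hψ hc hdiag (by decide) (by decide) (by decide)
        (comPair_b2 (by decide) (by decide) (by decide) (by decide)) t u

/-- Lifts of commuting root elements of `B₂` over the field with three elements commute. -/
theorem b2_pairComm : PairComm M ψ := by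
  intro a b ha hab t u
  have hab' := hab
  obtain ⟨hb, h1, h2', h3⟩ := hab'
  rcases b2_comPair_cases a ha b hb ⟨h1, h2', h3⟩ with ⟨hla, hsb⟩ | ⟨hlb, hsa⟩ | ⟨rfl, rfl⟩ | ⟨rfl, rfl⟩ |
    ⟨rfl, rfl⟩ | ⟨rfl, rfl⟩ | ⟨rfl, rfl⟩ | ⟨rfl, rfl⟩ | ⟨rfl, rfl⟩ | ⟨rfl, rfl⟩
  · exact b2_ls M ψ hψ hc hdiag ha hla hsb hab t u
  · exact b2_sl M ψ hψ hc hdiag hb hlb hsa (comPair_b2_symm ha hab) u t
  · exact b2_ll_03 M ψ hψ hc hdiag h2 hK3 t u
  · exact b2_ll_04 M ψ hψ hc hdiag h2 hK3 t u
  · exact liftsComm_symm (b2_ll_03 M ψ hψ hc hdiag h2 hK3 u t)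
  · exact b2_ll_37 M ψ hψ hc hdiag h2 hK3 t u
  · exact liftsComm_symm (b2_ll_04 M ψ hψ hc hdiag h2 hK3 u t)
  · exact b2_ll_47 M ψ hψ hc hdiag h2 hK3 t u
  · exact liftsComm_symm (b2_ll_37 M ψ hψ hc hdiag h2 hK3 u t)
  · exact liftsComm_symm (b2_ll_47 M ψ hψ hc hdiag h2 hK3 u t)

end comm

/-! ### The canonical lifts -/

/-- The decomposition `s = c + d` of a long root into short roots: `(c, d)`. -/
def b2dec (s : ℕ) : ℕ × ℕ :=
  if s = 7 then (5, 6) else if s = 4 then (2, 6) else if s = 3 then (1, 5) else (1, 2)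

/-- The property of the canonical lifts at a long root: commutators of lifts at the two short roots are canonical. -/
def B2Top (M : Model chevB2 K Γ) (ψ : E →* Γ) (zs : K → E) (s : ℕ) : Prop :=
  ∀ (p q : K) (a b : E), ψ a = M.X (b2dec s).2 q → ψ b = M.X (b2dec s).1 p →
    (∃ w : K, cm a b = zs w) ∧ (∃ w : K, cm b a = zs w)

section sec

variable (M : Model chevB2 K Γ) (ψ : E →* Γ) (hψ : Function.Surjective ψ) (hc : ψ.ker ≤ Subgroup.center E)
  (hdiag : B2Diag M) (h2 : (2 : K) ≠ 0) (hK3 : ∀ a : K, a = 0 ∨ a = 1 ∨ a = -1)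
  (hinj : ∀ s < 8, ∀ t u : K, M.X s t = M.X s u → t = u)

include hψ hc hdiag h2 hK3 hinj

theorem b2_sec_long (s : ℕ) (hs : s < 8) (hl : B2Long s) :
    ∃ zs : K → E, IsSecAt M ψ zs s ∧ B2Top M ψ zs s := by
  have hLS := fun {a b : ℕ} (ha : a < 8) (hla : B2Long a) (hsb : B2Short b) (hab : ComPair chevB2 a b) (t u : K) =>
    b2_sl M ψ hψ hc hdiag ha hla hsb hab u t
  rcases hl with rfl | rfl | rfl | rfl
  · exact exists_secAt_top M ψ hψ hc hK3 0 1 2 2 (by decide) (by decide) (by decide) (by decide) (by decide)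
      (by decide) (b2_two h2).1 (hinj 0 (by decide))
      (fun t u => hLS (by decide) (by decide) (by decide)
        (comPair_b2 (by decide) (by decide) (by decide) (by decide)) t u)
      (fun t u => hLS (by decide) (by decide) (by decide)
        (comPair_b2 (by decide) (by decide) (by decide) (by decide)) t u)
  · exact exists_secAt_top M ψ hψ hc hK3 3 1 5 (-2) (by decide) (by decide) (by decide) (by decide) (by decide)
      (by decide) (b2_two h2).2 (hinj 3 (by decide))
      (fun t u => hLS (by decide) (by decide) (by decide)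
        (comPair_b2 (by decide) (by decide) (by decide) (by decide)) t u)
      (fun t u => hLS (by decide) (by decide) (by decide)
        (comPair_b2 (by decide) (by decide) (by decide) (by decide)) t u)
  · exact exists_secAt_top M ψ hψ hc hK3 4 2 6 (-2) (by decide) (by decide) (by decide) (by decide) (by decide)
      (by decide) (b2_two h2).2 (hinj 4 (by decide))
      (fun t u => hLS (by decide) (by decide) (by decide)
        (comPair_b2 (by decide) (by decide) (by decide) (by decide)) t u)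
      (fun t u => hLS (by decide) (by decide) (by decide)
        (comPair_b2 (by decide) (by decide) (by decide) (by decide)) t u)
  · exact exists_secAt_top M ψ hψ hc hK3 7 5 6 2 (by decide) (by decide) (by decide) (by decide) (by decide)
      (by decide) (b2_two h2).1 (hinj 7 (by decide))
      (fun t u => hLS (by decide) (by decide) (by decide)
        (comPair_b2 (by decide) (by decide) (by decide) (by decide)) t u)
      (fun t u => hLS (by decide) (by decide) (by decide)
        (comPair_b2 (by decide) (by decide) (by decide) (by decide)) t u)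

variable (hgen : M.Gen) (hcent : ∀ e : E, ψ e ∈ Subgroup.center Γ → e ∈ Subgroup.center E)

include hgen hcent

theorem b2_sec_short (s : ℕ) (hs : s < 8) (hsh : B2Short s) : ∃ zs : K → E, IsSecAt M ψ zs s := by
  obtain ⟨g, χ, hg, -, hχs⟩ := hdiag
  exact exists_secAt M ψ hψ hc hgen hcent s hs (selfComm_of_three M ψ hψ hc hK3 s hs) ⟨g, χ, hg, hχs s hs hsh⟩

/-- The canonical lifts for `B₂` over the field with three elements. -/
theorem b2_exists_section :
    ∃ z : ℕ → K → E, IsSection M ψ z ∧ ∀ s < 8, B2Long s → B2Top M ψ (z s) s := by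
  have hex : ∀ s, ∃ zs : K → E, s < 8 → IsSecAt M ψ zs s ∧ (B2Long s → B2Top M ψ zs s) := by
    intro s
    by_cases hs : s < 8
    · rcases b2_cases s hs with hl | hsh
      · obtain ⟨zs, h1, h2'⟩ := b2_sec_long M ψ hψ hc hdiag h2 hK3 hinj s hs hl
        exact ⟨zs, fun _ => ⟨h1, fun _ => h2'⟩⟩
      · obtain ⟨zs, h1⟩ := b2_sec_short M ψ hψ hc hdiag h2 hK3 hinj hgen hcent s hs hsh
        refine ⟨zs, fun _ => ⟨h1, fun hl => ?_⟩⟩
        exact absurd hl (b2_not_long s hs hsh)
    · exact ⟨fun _ => 1, fun h => absurd h hs⟩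
  choose z hz using hex
  exact ⟨z, isSection_of_secAt M ψ z (fun s hs => (hz s hs).1), fun s hs hl => (hz s hs).2 hl⟩

end sec

/-! ### Injectivity on the positive part -/

section inj

variable (M : Model chevB2 K Γ) (ψ : E →* Γ) (hψ : Function.Surjective ψ) (hc : ψ.ker ≤ Subgroup.center E)
  (hdiag : B2Diag M) (tf : TF chevB2) (hidx : IdxLvl chevB2) (z : ℕ → K → E) (hz : IsSection M ψ z)
  (htop : ∀ s < 8, B2Long s → B2Top M ψ (z s) s) (hpc : PairComm M ψ)

theorem b2_mem_of_comm {a k : ℕ} (hk : chevB2.IsPosRoot k) (hak : a < k) {t u : K}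
    (hcomm : z a t * z k u = z k u * z a t) : (z a t)⁻¹ * z k u * z a t ∈ Et chevB2 z (a + 1) := by
  have h1 : (z a t)⁻¹ * z k u * z a t = z k u := by
    rw [mul_assoc, ← hcomm, ← mul_assoc, inv_mul_cancel, one_mul]
  rw [h1]
  exact mem_Et_gen hk hak u

include hψ hc hdiag tf hidx hz htop hpc

theorem b2_memU : MemU chevB2 ψ z := by
  intro a ha hP t k hk hak u
  have ha8 : a < 8 := ha.1
  have hk8 : k < 8 := hk.1
  have hcm : ∀ {a k : ℕ}, a < 8 → ComPair chevB2 a k → ∀ t u : K, z a t * z k u = z k u * z a t :=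
    fun {a k} ha hab t u => hpc a k ha hab t u (z a t) (z k u) (hz.lift a ha t) (hz.lift k hab.1 u)
  obtain ⟨g, χ, hg, hχl, hχs⟩ := hdiag
  rcases b2_pos a ha8 ha with rfl | rfl | rfl | rfl <;> rcases b2_pos k hk8 hk with rfl | rfl | rfl | rfl <;>
    try omega
  · exact conj_gen_mem_diag M tf ψ hψ hc z hz hidx ha hP t hk hak
      ⟨g, χ, hg, hχl 4 (by decide) (by decide), hχs 5 (by decide) (by decide)⟩ u
  · exact conj_gen_mem_diag M tf ψ hψ hc z hz hidx ha hP t hk hak
      ⟨g, χ, hg, hχl 4 (by decide) (by decide), hχs 6 (by decide) (by decide)⟩ u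
  · exact b2_mem_of_comm z hk hak
      (hcm (by decide) (comPair_b2 (by decide) (by decide) (by decide) (by decide)) t u)
  · -- the pair `(α, α + β)`: the commutator is a canonical lift at `2α + β`
    have h6 : ψ (z 6 u)⁻¹ = M.X 6 (-u) := by
      rw [map_inv, hz.lift 6 (by decide), Cfsg.Agent.Lib.Helper44.St.X_inv M (by decide)]
    have h5 : ψ (z 5 t)⁻¹ = M.X 5 (-t) := by
      rw [map_inv, hz.lift 5 (by decide), Cfsg.Agent.Lib.Helper44.St.X_inv M (by decide)]
    obtain ⟨⟨w, hw⟩, -⟩ := htop 7 (by decide) (by decide) (-t) (-u) (z 6 u)⁻¹ (z 5 t)⁻¹ h6 h5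
    have e1 : (z 5 t)⁻¹ * z 6 u * z 5 t = z 6 u * cm (z 6 u)⁻¹ (z 5 t)⁻¹ := by unfold cm; group
    rw [e1, hw]
    exact mul_mem (mem_Et_gen hk (le_refl _) u)
      (mem_Et_gen (show chevB2.IsPosRoot 7 by decide) (by decide) w)
  · exact b2_mem_of_comm z hk hak
      (hcm (by decide) (comPair_b2 (by decide) (by decide) (by decide) (by decide)) t u)
  · exact b2_mem_of_comm z hk hak
      (hcm (by decide) (comPair_b2 (by decide) (by decide) (by decide) (by decide)) t u)

end inj

/-! ### Conjugation by lifts of the Weyl elements -/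

section weqtop

variable {D : ChevalleyDatum}

/-- The commutator of two root elements with a single-term formula. -/
theorem cm_X_single (M : Model D K Γ) (s c d : ℕ) (C : ℤ) (hc' : c < D.nroots) (hd : d < D.nroots)
    (hdc : d ≠ c) (hdn : d ≠ D.neg c) (hct : D.commTerms c d = [(s, C, 1, 1)]) (p q : K) :
    cm (M.X d q) (M.X c p) = M.X s (-(C : K) * p * q) := by
  have hrel := M.comm c d hc' hd hdc hdn (-p) (-q)
  have hw : D.commWord K c d (-p) (-q) = [(s, -(C : K) * p * q)] := by
    unfold ChevalleyDatum.commWord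
    rw [hct]
    simp only [List.map_cons, List.map_nil, pow_one, neg_neg]
    congr 2
    ring
  rw [hw, List.map_cons, List.map_nil, List.prod_cons, List.prod_nil, mul_one,
    ← Cfsg.Agent.Lib.Helper44.St.X_inv M hd, ← Cfsg.Agent.Lib.Helper44.St.X_inv M hc', inv_inv, inv_inv] at hrel
  rw [← hrel]
  unfold cm
  group

/-- Conjugation of the canonical lifts at a root `s = c + d` by a lift of a monomial element. -/
theorem weq_top (M : Model D K Γ) (ψ : E →* Γ) (hψ : Function.Surjective ψ)
    (s c d : ℕ) (C : ℤ) (hs : s < D.nroots) (hc' : c < D.nroots) (hd : d < D.nroots) (hdc : d ≠ c)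
    (hdn : d ≠ D.neg c) (hct : D.commTerms c d = [(s, C, 1, 1)]) (hC0 : (C : K) ≠ 0)
    (zs : K → E) (hlift : ∀ t, ψ (zs t) = M.X s t) (hinj : ∀ t u : K, M.X s t = M.X s u → t = u)
    (hmem : ∀ (p q : K) (a b : E), ψ a = M.X d q → ψ b = M.X c p → ∃ w : K, cm a b = zs w)
    (g : Γ) (ρ ρ' : ℕ → ℕ) (hg : IsMonoW M g ρ ρ') (e : E) (he : ψ e = g)
    (zs' : K → E) (hlift' : ∀ t, ψ (zs' t) = M.X (ρ s) t)
    (hinj' : ∀ t u : K, M.X (ρ s) t = M.X (ρ s) u → t = u)
    (hmem' : ∀ (p q : K) (a b : E), ψ a = M.X (ρ d) q → ψ b = M.X (ρ c) p → ∃ w : K, cm a b = zs' w) :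
    ∃ k : K, k ≠ 0 ∧ ∀ t : K, e * zs t * e⁻¹ = zs' (k * t) := by
  obtain ⟨k, hk, hx⟩ := hg.2.1 s hs
  obtain ⟨kc, -, hxc⟩ := hg.2.1 c hc'
  obtain ⟨kd, -, hxd⟩ := hg.2.1 d hd
  refine ⟨k, hk, fun t => ?_⟩
  obtain ⟨a, ha⟩ := hψ (M.X d 1)
  obtain ⟨b, hb⟩ := hψ (M.X c (-t / (C : K)))
  have h1 : cm a b = zs t := by
    obtain ⟨w, hw⟩ := hmem _ _ a b ha hb
    rw [hw]
    congr 1
    apply hinj
    rw [← hlift w, ← hw, map_cm, ha, hb, cm_X_single M s c d C hc' hd hdc hdn hct]
    congr 1
    field_simp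
  rw [← h1, conj_cm]
  have ha' : ψ (e * a * e⁻¹) = M.X (ρ d) (kd * 1) := by
    rw [map_mul, map_mul, map_inv, he, ha, hxd]
  have hb' : ψ (e * b * e⁻¹) = M.X (ρ c) (kc * (-t / (C : K))) := by
    rw [map_mul, map_mul, map_inv, he, hb, hxc]
  obtain ⟨w', hw'⟩ := hmem' _ _ _ _ ha' hb'
  rw [hw']
  congr 1
  apply hinj'
  rw [← hlift' w', ← hw', ← conj_cm, h1, map_mul, map_mul, map_inv, he, hlift, hx]

end weqtop

section weq

variable (M : Model chevB2 K Γ) (ψ : E →* Γ) (hψ : Function.Surjective ψ) (hc : ψ.ker ≤ Subgroup.center E)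
  (hdiag : B2Diag M) (h2 : (2 : K) ≠ 0) (tf : TF chevB2) (hA : M.Act) (z : ℕ → K → E) (hz : IsSection M ψ z)
  (htop : ∀ s < 8, B2Long s → B2Top M ψ (z s) s)
  (hinj : ∀ s < 8, ∀ t u : K, M.X s t = M.X s u → t = u)

include hψ hdiag h2 tf hA hz htop hinj

/-- Conjugation of the canonical lifts by a lift of `σ_i`. -/
theorem b2_weq1 (i : ℕ) (hi : i < 2) (e : E) (he : ψ e = M.sigma i) (s : ℕ) (hs : s < 8) :
    ∃ c : K, c ≠ 0 ∧ ∀ t : K, e * z s t * e⁻¹ = z (chevB2.reflectRoot i s) (c * t) := by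
  have hm : IsMonoW M (M.sigma i) (chevB2.reflectRoot i) (chevB2.reflectRoot i) := by
    have h := Cfsg.Agent.Lib.Helper44.St3.isMonoW_wordElt M tf hA [i]
      (by intro j hj; rw [List.mem_singleton] at hj; subst hj; rw [b2_rank]; exact hi)
    have hw : wordElt M [i] = M.sigma i := by simp [wordElt]
    rw [hw] at h
    exact h
  rcases b2_cases s hs with hl | hsh
  swap
  · obtain ⟨g, χ, hg, -, hχs⟩ := hdiag
    exact conj_secAt M ψ hψ s hs (z s) (IsSection.secAt hz s hs) ⟨g, χ, hg, hχs s hs hsh⟩ (M.sigma i) _ _ hm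
      (z (chevB2.reflectRoot i s)) (IsSection.secAt hz _ (hm.1 s hs).1) e he
  have hi' : i = 0 ∨ i = 1 := by omega
  rcases hi' with rfl | rfl
  · rcases hl with rfl | rfl | rfl | rfl
    · have hrs : chevB2.reflectRoot 0 0 = 3 := by decide
      have hrc : chevB2.reflectRoot 0 1 = 1 := by decide
      have hrd : chevB2.reflectRoot 0 2 = 5 := by decide
      refine weq_top M ψ hψ 0 1 2 2 (by decide) (by decide) (by decide) (by decide) (by decide) (by decide)
        (b2_two h2).1 (z 0) (hz.lift 0 (by decide)) (hinj 0 (by decide))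
        (fun p q a b ha hb => ((htop 0 (by decide) (by decide)) p q a b ha hb).1)
        (M.sigma 0) _ _ hm e he (z (chevB2.reflectRoot 0 0)) ?_ ?_ ?_
      · rw [hrs]; exact hz.lift 3 (by decide)
      · rw [hrs]; exact hinj 3 (by decide)
      · intro p q a b ha hb
        rw [hrd] at ha
        rw [hrc] at hb
        rw [hrs]
        exact ((htop 3 (by decide) (by decide)) p q a b ha hb).1
    · have hrs : chevB2.reflectRoot 0 3 = 0 := by decide
      have hrc : chevB2.reflectRoot 0 1 = 1 := by decide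
      have hrd : chevB2.reflectRoot 0 5 = 2 := by decide
      refine weq_top M ψ hψ 3 1 5 (-2) (by decide) (by decide) (by decide) (by decide) (by decide) (by decide)
        (b2_two h2).2 (z 3) (hz.lift 3 (by decide)) (hinj 3 (by decide))
        (fun p q a b ha hb => ((htop 3 (by decide) (by decide)) p q a b ha hb).1)
        (M.sigma 0) _ _ hm e he (z (chevB2.reflectRoot 0 3)) ?_ ?_ ?_
      · rw [hrs]; exact hz.lift 0 (by decide)
      · rw [hrs]; exact hinj 0 (by decide)
      · intro p q a b ha hb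
        rw [hrd] at ha
        rw [hrc] at hb
        rw [hrs]
        exact ((htop 0 (by decide) (by decide)) p q a b ha hb).1
    · have hrs : chevB2.reflectRoot 0 4 = 7 := by decide
      have hrc : chevB2.reflectRoot 0 2 = 5 := by decide
      have hrd : chevB2.reflectRoot 0 6 = 6 := by decide
      refine weq_top M ψ hψ 4 2 6 (-2) (by decide) (by decide) (by decide) (by decide) (by decide) (by decide)
        (b2_two h2).2 (z 4) (hz.lift 4 (by decide)) (hinj 4 (by decide))
        (fun p q a b ha hb => ((htop 4 (by decide) (by decide)) p q a b ha hb).1)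
        (M.sigma 0) _ _ hm e he (z (chevB2.reflectRoot 0 4)) ?_ ?_ ?_
      · rw [hrs]; exact hz.lift 7 (by decide)
      · rw [hrs]; exact hinj 7 (by decide)
      · intro p q a b ha hb
        rw [hrd] at ha
        rw [hrc] at hb
        rw [hrs]
        exact ((htop 7 (by decide) (by decide)) p q a b ha hb).1
    · have hrs : chevB2.reflectRoot 0 7 = 4 := by decide
      have hrc : chevB2.reflectRoot 0 5 = 2 := by decide
      have hrd : chevB2.reflectRoot 0 6 = 6 := by decide
      refine weq_top M ψ hψ 7 5 6 2 (by decide) (by decide) (by decide) (by decide) (by decide) (by decide)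
        (b2_two h2).1 (z 7) (hz.lift 7 (by decide)) (hinj 7 (by decide))
        (fun p q a b ha hb => ((htop 7 (by decide) (by decide)) p q a b ha hb).1)
        (M.sigma 0) _ _ hm e he (z (chevB2.reflectRoot 0 7)) ?_ ?_ ?_
      · rw [hrs]; exact hz.lift 4 (by decide)
      · rw [hrs]; exact hinj 4 (by decide)
      · intro p q a b ha hb
        rw [hrd] at ha
        rw [hrc] at hb
        rw [hrs]
        exact ((htop 4 (by decide) (by decide)) p q a b ha hb).1
  · rcases hl with rfl | rfl | rfl | rfl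
    · have hrs : chevB2.reflectRoot 1 0 = 0 := by decide
      have hrc : chevB2.reflectRoot 1 1 = 2 := by decide
      have hrd : chevB2.reflectRoot 1 2 = 1 := by decide
      refine weq_top M ψ hψ 0 1 2 2 (by decide) (by decide) (by decide) (by decide) (by decide) (by decide)
        (b2_two h2).1 (z 0) (hz.lift 0 (by decide)) (hinj 0 (by decide))
        (fun p q a b ha hb => ((htop 0 (by decide) (by decide)) p q a b ha hb).1)
        (M.sigma 1) _ _ hm e he (z (chevB2.reflectRoot 1 0)) ?_ ?_ ?_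
      · rw [hrs]; exact hz.lift 0 (by decide)
      · rw [hrs]; exact hinj 0 (by decide)
      · intro p q a b ha hb
        rw [hrd] at ha
        rw [hrc] at hb
        rw [hrs]
        exact ((htop 0 (by decide) (by decide)) q p b a hb ha).2
    · have hrs : chevB2.reflectRoot 1 3 = 4 := by decide
      have hrc : chevB2.reflectRoot 1 1 = 2 := by decide
      have hrd : chevB2.reflectRoot 1 5 = 6 := by decide
      refine weq_top M ψ hψ 3 1 5 (-2) (by decide) (by decide) (by decide) (by decide) (by decide) (by decide)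
        (b2_two h2).2 (z 3) (hz.lift 3 (by decide)) (hinj 3 (by decide))
        (fun p q a b ha hb => ((htop 3 (by decide) (by decide)) p q a b ha hb).1)
        (M.sigma 1) _ _ hm e he (z (chevB2.reflectRoot 1 3)) ?_ ?_ ?_
      · rw [hrs]; exact hz.lift 4 (by decide)
      · rw [hrs]; exact hinj 4 (by decide)
      · intro p q a b ha hb
        rw [hrd] at ha
        rw [hrc] at hb
        rw [hrs]
        exact ((htop 4 (by decide) (by decide)) p q a b ha hb).1
    · have hrs : chevB2.reflectRoot 1 4 = 3 := by decide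
      have hrc : chevB2.reflectRoot 1 2 = 1 := by decide
      have hrd : chevB2.reflectRoot 1 6 = 5 := by decide
      refine weq_top M ψ hψ 4 2 6 (-2) (by decide) (by decide) (by decide) (by decide) (by decide) (by decide)
        (b2_two h2).2 (z 4) (hz.lift 4 (by decide)) (hinj 4 (by decide))
        (fun p q a b ha hb => ((htop 4 (by decide) (by decide)) p q a b ha hb).1)
        (M.sigma 1) _ _ hm e he (z (chevB2.reflectRoot 1 4)) ?_ ?_ ?_
      · rw [hrs]; exact hz.lift 3 (by decide)
      · rw [hrs]; exact hinj 3 (by decide)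
      · intro p q a b ha hb
        rw [hrd] at ha
        rw [hrc] at hb
        rw [hrs]
        exact ((htop 3 (by decide) (by decide)) p q a b ha hb).1
    · have hrs : chevB2.reflectRoot 1 7 = 7 := by decide
      have hrc : chevB2.reflectRoot 1 5 = 6 := by decide
      have hrd : chevB2.reflectRoot 1 6 = 5 := by decide
      refine weq_top M ψ hψ 7 5 6 2 (by decide) (by decide) (by decide) (by decide) (by decide) (by decide)
        (b2_two h2).1 (z 7) (hz.lift 7 (by decide)) (hinj 7 (by decide))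
        (fun p q a b ha hb => ((htop 7 (by decide) (by decide)) p q a b ha hb).1)
        (M.sigma 1) _ _ hm e he (z (chevB2.reflectRoot 1 7)) ?_ ?_ ?_
      · rw [hrs]; exact hz.lift 7 (by decide)
      · rw [hrs]; exact hinj 7 (by decide)
      · intro p q a b ha hb
        rw [hrd] at ha
        rw [hrc] at hb
        rw [hrs]
        exact ((htop 7 (by decide) (by decide)) q p b a hb ha).2

include hc in
/-- Conjugation of the canonical lifts by lifts of the Weyl words. -/
theorem b2_weq : WEq M ψ z := by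
  intro ws
  induction ws with
  | nil =>
    intro _ e he s hs
    refine ⟨1, one_ne_zero, fun t => ?_⟩
    have hcen : e ∈ Subgroup.center E := hc (by rw [MonoidHom.mem_ker, he]; rfl)
    rw [Subgroup.mem_center_iff.1 hcen (z s t) |>.symm, mul_inv_cancel_right, one_mul]
    rfl
  | cons i ws ih =>
    intro hws e he s hs
    have hi : i < 2 := hws i List.mem_cons_self
    have hws' : ∀ j ∈ ws, j < chevB2.rank := fun j hj => hws j (List.mem_cons_of_mem _ hj)
    obtain ⟨e₁, he₁⟩ := hψ (M.sigma i)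
    have he₂ : ψ (e₁⁻¹ * e) = wordElt M ws := by
      rw [map_mul, map_inv, he₁, he, Cfsg.Agent.Lib.Helper44.St3.wordElt_cons, inv_mul_cancel_left]
    obtain ⟨c₂, hc₂, h₂⟩ := ih hws' (e₁⁻¹ * e) he₂ s hs
    have hlt : wRoot chevB2 ws s < 8 :=
      ((Cfsg.Agent.Lib.Helper44.St3.isMonoW_wordElt M tf hA ws hws').1 s hs).1
    obtain ⟨c₁, hc₁, h₁⟩ := b2_weq1 M ψ hψ hdiag h2 tf hA z hz htop hinj i hi e₁ he₁ (wRoot chevB2 ws s) hlt
    refine ⟨c₁ * c₂, mul_ne_zero hc₁ hc₂, fun t => ?_⟩
    calc e * z s t * e⁻¹ = e₁ * ((e₁⁻¹ * e) * z s t * (e₁⁻¹ * e)⁻¹) * e₁⁻¹ := by group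
      _ = z (wRoot chevB2 (i :: ws) s) (c₁ * c₂ * t) := by
        rw [h₂, h₁, Cfsg.Agent.Lib.Helper44.St3.wRoot_cons', mul_assoc]

end weq

/-! ### The splitting -/

/-- The splitting theorem for a model of `B₂` over a field with three elements. -/
theorem exists_splitting_B2_three (M : Model chevB2 K Γ) (tf : TF chevB2) (hgen : M.Gen) (hA : M.Act)
    (hH : M.HAct) (hperf : commutator Γ = ⊤) (hidx : IdxLvl chevB2) (hlt : TermLt chevB2) (hwsym : WSym chevB2)
    (hlong : Longest chevB2) (htail : TailInj M)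
    (hinj : ∀ s < 8, ∀ t u : K, M.X s t = M.X s u → t = u)
    (h2 : (2 : K) ≠ 0) (hK3 : ∀ a : K, a = 0 ∨ a = 1 ∨ a = -1) (hv : OrdN (-1 : K) 2)
    (ψ : E →* Γ) (hψ : Function.Surjective ψ) (hc : ψ.ker ≤ Subgroup.center E) :
    ∃ z : ℕ → K → E, (∀ s, s < chevB2.nroots → ∀ t : K, ψ (z s t) = M.X s t) ∧
      (∀ s, s < chevB2.nroots → ∀ t u : K, z s t * z s u = z s (t + u)) ∧ R2E chevB2 K z := by
  have hcent := fun e he => Cfsg.Agent.Lib.Helper46.St3.lift_mem_center ψ hψ hc hperf e he
  have hdiag := b2_diag M hH hv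
  obtain ⟨z, hz, htop⟩ := b2_exists_section M ψ hψ hc hdiag h2 hK3 hinj hgen hcent
  have hpc := b2_pairComm M ψ hψ hc hdiag h2 hK3
  have hmem := b2_memU M ψ hψ hc hdiag tf hidx z hz htop hpc
  have hinjU : InjU chevB2 ψ z := injU_of_mem M tf ψ hψ hc z hz hmem htail
  have hweq : WEq M ψ z := b2_weq M ψ hψ hc hdiag h2 tf hA z hz htop hinj
  refine ⟨z, hz.lift, hz.add, ?_⟩
  exact Cfsg.Agent.Lib.Helper50.St3.r2_all M tf ψ hψ z hz hidx hinjU hweq
    (fun r s hr hs hsr hsn => Cfsg.Agent.Lib.Helper50.St3.exists_word_pos tf hlong r s hr hs hsr hsn)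
    (fun ws hws r s hr hs hsr hsn => Cfsg.Agent.Lib.Helper50.St3.wSym_word tf hwsym ws hws r s hr hs hsr hsn)
    hlt

end Cfsg.Agent.Lib.Helper35.Small
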