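/-
helper35: project STEINBERG. For a Steinberg model generated by its root elements, the projection `π` corestricts to a
surjective homomorphism onto the Chevalley group `D.group K`.
-/
import Cfsg.Agent.Lib.Helper35.StDefs

set_option autoImplicit false

namespace Cfsg.Agent.Lib.Helper35.St

open Cfsg.Lie

universe u v

variable {D : ChevalleyDatum} {K : Type u} [Field K] {Γ : Type v} [Group Γ]

theorem x_eq_xMat (r : ℕ) (hr : r < D.nroots) (t : K) : D.x K r t = D.xMat K ⟨r, hr⟩ t := by
  unfold ChevalleyDatum.x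
  rw [dif_pos hr]

theorem π_mem_group (M : Model D K Γ) (hgen : M.Gen) (g : Γ) : M.π g ∈ D.group K := by
  have hg : g ∈ Subgroup.closure {g : Γ | ∃ (r : ℕ) (t : K), r < D.nroots ∧ g = M.X r t} := by
    rw [hgen]
    trivial
  induction hg using Subgroup.closure_induction with
  | mem g hg =>
    obtain ⟨r, t, hr, rfl⟩ := hg
    apply Subgroup.subset_closure
    exact ⟨⟨r, hr⟩, t, by rw [M.hπ r hr t, x_eq_xMat r hr t]⟩
  | one => rw [map_one]; exact one_mem _
  | mul a b _ _ ha hb => rw [map_mul]; exact mul_mem ha hb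
  | inv a _ ha => rw [map_inv]; exact inv_mem ha

/-- The corestriction of `π` to the Chevalley group. -/
def theta (M : Model D K Γ) (hgen : M.Gen) : Γ →* ↥(D.group K) :=
  M.π.codRestrict (D.group K) (π_mem_group M hgen)

theorem theta_coe (M : Model D K Γ) (hgen : M.Gen) (g : Γ) : ((theta M hgen g : ↥(D.group K)) : GL D.Idx K) = M.π g :=
  rfl

theorem theta_ker (M : Model D K Γ) (hgen : M.Gen) : (theta M hgen).ker = M.π.ker := by
  ext g
  rw [MonoidHom.mem_ker, MonoidHom.mem_ker, Subtype.ext_iff, theta_coe]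
  rfl

theorem theta_surjective (M : Model D K Γ) (hgen : M.Gen) : Function.Surjective (theta M hgen) := by
  rintro ⟨y, hy⟩
  have key : ∀ y ∈ D.group K, ∃ g : Γ, M.π g = y := by
    intro y hy
    unfold ChevalleyDatum.group at hy
    induction hy using Subgroup.closure_induction with
    | mem y hy =>
      obtain ⟨r, t, hy⟩ := hy
      refine ⟨M.X r.val t, ?_⟩
      apply Units.ext
      rw [M.hπ r.val r.isLt t, x_eq_xMat r.val r.isLt t, hy]
    | one => exact ⟨1, map_one _⟩
    | mul a b _ _ ha hb =>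
      obtain ⟨ga, rfl⟩ := ha
      obtain ⟨gb, rfl⟩ := hb
      exact ⟨ga * gb, map_mul _ _ _⟩
    | inv a _ ha =>
      obtain ⟨ga, rfl⟩ := ha
      exact ⟨ga⁻¹, map_inv _ _⟩
  obtain ⟨g, hg⟩ := key y hy
  exact ⟨g, Subtype.ext hg⟩

theorem theta_X (M : Model D K Γ) (hgen : M.Gen) (r : ℕ) (hr : r < D.nroots) (t : K) :
    (((theta M hgen (M.X r t) : ↥(D.group K)) : GL D.Idx K) : Matrix D.Idx D.Idx K) = D.x K r t := by
  rw [theta_coe]
  exact M.hπ r hr t

end Cfsg.Agent.Lib.Helper35.St
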