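/-
helper35: project STEINBERG, assembly of phase 2: for a Steinberg model `M` generated by its root elements the kernel of
the projection lies in `H̄ = ⟨h̄_p(t) : p fundamental⟩`; the image of the centre is trivial.
Modules by helper18 (GACT2, CARTNEG, ZCENTER), helper31 (MONO2, HACT, DIHEDRAL, BRAID), helper44 (SIGMA, HNORM, COX).
-/
import Cfsg.Agent.Lib.Helper35.StMain
import Cfsg.Agent.Lib.Helper35.StDefs3
import Cfsg.Agent.Lib.Helper35.StFinal
import Cfsg.Agent.Lib.Helper18.St.CartNeg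
import Cfsg.Agent.Lib.Helper18.St.GAct2
import Cfsg.Agent.Lib.Helper18.St.ZCenter
import Cfsg.Agent.Lib.Helper31.StMono2
import Cfsg.Agent.Lib.Helper31.StHActCore
import Cfsg.Agent.Lib.Helper31.StDihedral
import Cfsg.Agent.Lib.Helper31.StBraidCore
import Cfsg.Agent.Lib.Helper44.StSigma
import Cfsg.Agent.Lib.Helper44.StHNorm
import Cfsg.Agent.Lib.Helper44.StCoxOf
import Cfsg.Agent.S1032
import Cfsg.Agent.S1039

set_option autoImplicit false

namespace Cfsg.Agent.Lib.Helper35.St

open Cfsg.Lie Cfsg.Agent.Lib.Helper18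

universe u v

variable {D : ChevalleyDatum} {K : Type u} [Field K] {Γ : Type v} [Group Γ]

theorem exists_coxList (hD : D ∈ [chevG2, chevB2, chevD4, chevF4, chevE6, chevE7, chevE8]) :
    ∃ p ∈ coxList, p.1 = D := by
  simp only [List.mem_cons, List.not_mem_nil, or_false] at hD
  rcases hD with rfl | rfl | rfl | rfl | rfl | rfl | rfl
  · exact ⟨_, List.mem_cons_self, rfl⟩
  · exact ⟨_, List.mem_cons_of_mem _ List.mem_cons_self, rfl⟩
  · exact ⟨_, List.mem_cons_of_mem _ (List.mem_cons_of_mem _ List.mem_cons_self), rfl⟩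
  · exact ⟨_, List.mem_cons_of_mem _ (List.mem_cons_of_mem _ (List.mem_cons_of_mem _ List.mem_cons_self)), rfl⟩
  · exact ⟨_, List.mem_cons_of_mem _ (List.mem_cons_of_mem _ (List.mem_cons_of_mem _
      (List.mem_cons_of_mem _ List.mem_cons_self))), rfl⟩
  · exact ⟨_, List.mem_cons_of_mem _ (List.mem_cons_of_mem _ (List.mem_cons_of_mem _
      (List.mem_cons_of_mem _ (List.mem_cons_of_mem _ List.mem_cons_self)))), rfl⟩
  · exact ⟨_, List.mem_cons_of_mem _ (List.mem_cons_of_mem _ (List.mem_cons_of_mem _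
      (List.mem_cons_of_mem _ (List.mem_cons_of_mem _ (List.mem_cons_of_mem _ List.mem_cons_self))))), rfl⟩

variable (M : Model D K Γ)

theorem x_root_inj' (hD : D ∈ [chevG2, chevB2, chevD4, chevF4, chevE6, chevE7, chevE8]) (a b : ℕ)
    (ha : a < D.nroots) (hb : b < D.nroots) (t t' : K) (ht : t ≠ 0) (h : D.x K a t = D.x K b t') : b = a :=
  xG_inj_root hD a b ha hb t t' ht (Units.ext h)

theorem hAct_main (hD : D ∈ [chevG2, chevB2, chevD4, chevF4, chevE6, chevE7, chevE8]) : M.HAct :=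
  Cfsg.Agent.Lib.Helper31.St.hAct_core M (fun r hr a b h => x_inj hD r hr a b h)
    (fun i hi s hs c hc t => Cfsg.Agent.S1032.result D hD i s hi hs c hc t)
    (fun a b ha hb t t' ht h => x_root_inj' hD a b ha hb t t' ht h) (tf_main hD) (mono_main M hD)

theorem coxList_rank (p : ChevalleyDatum × (Σ n : ℕ, CoxeterMatrix (Fin n))) (hp : p ∈ coxList) :
    p.2.1 = p.1.rank := by
  unfold coxList at hp
  simp only [List.mem_cons, List.not_mem_nil, or_false] at hp
  rcases hp with rfl | rfl | rfl | rfl | rfl | rfl | rfl <;> rfl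

theorem hNorm_main (hD : D ∈ [chevG2, chevB2, chevD4, chevF4, chevE6, chevE7, chevE8]) : M.HNorm :=
  Cfsg.Agent.Lib.Helper44.St.hNorm M (tf_main hD) (hAct_main M hD)
    (fun j hj s hs => Cfsg.Agent.Lib.Helper18.St.cartan_neg hD j hj s hs)

/-- The kernel of `π` lies in `H̄`. -/
theorem ker_le_Hbar_main (hD : D ∈ [chevG2, chevB2, chevD4, chevF4, chevE6, chevE7, chevE8]) (hgen : M.Gen) :
    M.π.ker ≤ M.Hbar := by
  obtain ⟨p, hp, rfl⟩ := exists_coxList hD
  have tf := tf_main hD
  have hA := act_main M hD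
  have hmono2 := Cfsg.Agent.Lib.Helper31.St.isMono2_of_mem_Mbar M hD tf hA
    (Cfsg.Agent.Lib.Helper18.St.gAct2_of_mem hD)
  have hHN := hNorm_main M hD
  have hrk := coxList_rank p hp
  have hdi := Cfsg.Agent.Lib.Helper31.St.dihedral_of_mem p hp
  have hsq : ∀ i, i < p.1.rank → M.sigma i * M.sigma i ∈ M.Hbar :=
    fun i hi => Cfsg.Agent.Lib.Helper44.St.sigma_sq_mem M tf i hi
  have hG := Cfsg.Agent.Lib.Helper18.St.gAct_of_mem (K := K) hD
  have hbraid : ∀ i j : Fin p.2.1, (M.sigma i.val * M.sigma j.val) ^ (p.2.2.M i j) ∈ M.Hbar := by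
    intro i j
    have hi : i.val < p.1.rank := by have := i.2; omega
    have hj : j.val < p.1.rank := by have := j.2; omega
    by_cases hij : i = j
    · subst hij
      rw [p.2.2.diagonal i, pow_one]
      exact hsq _ hi
    · by_cases h0 : p.2.2.M i j = 0
      · rw [h0, pow_zero]
        exact one_mem _
      · have e : p.2.2.M i j = (p.2.2.M i j - 1) + 1 := by omega
        rw [e]
        exact Cfsg.Agent.Lib.Helper31.St.braid_core M
          (fun a b ha hb t t' ht h => x_root_inj' hD a b ha hb t t' ht h)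
          (fun i hi s hs => hG i hi s hs 1 one_ne_zero) tf hmono2 hHN hsq
          (fun ν j k hj hk c hc h1 h2 => Cfsg.Agent.Lib.Helper44.St.conj_sigma M tf ν j k hj hk c hc h1 h2)
          i.val j.val hi hj (p.2.2.M i j - 1) (hdi.2 i j hij)
  intro k hk
  obtain ⟨hkM, -⟩ := ker_mem_main M hD hgen k hk
  obtain ⟨φ, -, hker, hsimple⟩ := Cfsg.Agent.S1039.result (F := K) p hp
  apply Cfsg.Agent.Lib.Helper44.St.mem_Hbar_of_π_mem_of M p.2.2 hrk tf hHN (Cfsg.Agent.Lib.Helper44.St.Mbar_le M tf)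
    hbraid φ hker hsimple k hkM
  rw [MonoidHom.mem_ker.mp hk]
  exact one_mem _

/-- The kernel of `π` is the centre. -/
theorem ker_eq_center_main (hD : D ∈ [chevG2, chevB2, chevD4, chevF4, chevE6, chevE7, chevE8]) (hgen : M.Gen) :
    M.π.ker = Subgroup.center Γ := by
  apply le_antisymm (ker_le_center_main M hD hgen)
  intro z hz
  rw [← theta_ker M hgen, MonoidHom.mem_ker]
  have hc : theta M hgen z ∈ Subgroup.center ↥(D.group K) := by
    rw [Subgroup.mem_center_iff]
    intro y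
    obtain ⟨g, rfl⟩ := theta_surjective M hgen y
    rw [← map_mul, ← map_mul, Subgroup.mem_center_iff.mp hz g]
  rw [Cfsg.Agent.Lib.Helper18.St.center_group_eq_bot hD, Subgroup.mem_bot] at hc
  exact hc

end Cfsg.Agent.Lib.Helper35.St
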