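/-
helper35: project STEINBERG, assembly of phase 2b: in a Steinberg model satisfying (R3), generated by its root elements,
of type G2, F4 or E8, the centre is trivial.  Modules by helper92 (HPROD), helper13 (TORUS).
-/
import Cfsg.Agent.Lib.Helper35.StMain2
import Cfsg.Agent.Lib.Helper92.StHProd
import Cfsg.Agent.Lib.Helper13.StTorus

set_option autoImplicit false

namespace Cfsg.Agent.Lib.Helper35.St

open Cfsg.Lie Cfsg.Agent.Lib.Helper18

universe u v

variable {D : ChevalleyDatum} {K : Type u} [Field K] {Γ : Type v} [Group Γ] (M : Model D K Γ)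

theorem wordMat_append'' (D : ChevalleyDatum) (w₁ w₂ : List (ℕ × K)) :
    D.wordMat K (w₁ ++ w₂) = D.wordMat K w₁ * D.wordMat K w₂ := by
  unfold ChevalleyDatum.wordMat
  rw [List.map_append, List.prod_append]

theorem wordMat_flatMap (D : ChevalleyDatum) (l : List ℕ) (f : ℕ → List (ℕ × K)) :
    D.wordMat K (l.flatMap f) = (l.map fun i => D.wordMat K (f i)).prod := by
  induction l with
  | nil => simp [ChevalleyDatum.wordMat]
  | cons a l ih => rw [List.flatMap_cons, wordMat_append'', ih, List.map_cons, List.prod_cons]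

theorem π_hbar (tf : TF D) (i : ℕ) (hi : i < D.rank) (t : K) :
    ((M.π (M.hbar (D.simple i) t) : GL D.Idx K) : Matrix D.Idx D.Idx K) = D.wordMat K (D.hWord (D.simple i) t) := by
  have hplt : D.simple i < D.nroots := tf.pos_lt _ (tf.simple_pos i hi)
  have hnplt : D.neg (D.simple i) < D.nroots := tf.neg_lt _ hplt
  unfold Model.hbar Model.nbar ChevalleyDatum.hWord ChevalleyDatum.nWord ChevalleyDatum.wordMat
  simp only [map_mul, Units.val_mul, M.hπ _ hplt, M.hπ _ hnplt, List.cons_append, List.nil_append, List.map_cons,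
    List.map_nil, List.prod_cons, List.prod_nil, mul_one, mul_assoc]

theorem π_hprod (tf : TF D) (t : ℕ → K) :
    ((M.π (M.hprod t) : GL D.Idx K) : Matrix D.Idx D.Idx K)
      = D.wordMat K ((List.range D.rank).flatMap fun i => D.hWord (D.simple i) (t i)) := by
  rw [wordMat_flatMap]
  unfold Model.hprod
  have key : ∀ l : List ℕ, (∀ i ∈ l, i < D.rank) →
      ((M.π ((l.map fun i => M.hbar (D.simple i) (t i)).prod) : GL D.Idx K) : Matrix D.Idx D.Idx K)
        = (l.map fun i => D.wordMat K (D.hWord (D.simple i) (t i))).prod := by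
    intro l hl
    induction l with
    | nil => simp
    | cons a l ih =>
      rw [List.map_cons, List.prod_cons, map_mul, Units.val_mul, List.map_cons, List.prod_cons,
        π_hbar M tf a (hl a List.mem_cons_self), ih fun i hi => hl i (List.mem_cons_of_mem _ hi)]
  exact key _ fun i hi => List.mem_range.mp hi

theorem hbar_one (tf : TF D) (i : ℕ) (hi : i < D.rank) : M.hbar (D.simple i) (1 : K) = 1 := by
  have hplt : D.simple i < D.nroots := tf.pos_lt _ (tf.simple_pos i hi)
  have hnplt : D.neg (D.simple i) < D.nroots := tf.neg_lt _ hplt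
  unfold Model.hbar Model.nbar
  have e1 : -(1 : K)⁻¹ = -1 := by rw [inv_one]
  have e2 : -(-1 : K)⁻¹ = 1 := by rw [inv_neg, inv_one, neg_neg]
  rw [e1, e2]
  have h0 : ∀ r, r < D.nroots → M.X r (0 : K) = 1 := by
    intro r hr
    have := M.add r hr 0 0
    rw [add_zero] at this
    exact mul_eq_left.mp this
  calc M.X (D.simple i) 1 * M.X (D.neg (D.simple i)) (-1) * M.X (D.simple i) 1 *
        (M.X (D.simple i) (-1) * M.X (D.neg (D.simple i)) 1 * M.X (D.simple i) (-1))
      = M.X (D.simple i) 1 * M.X (D.neg (D.simple i)) (-1) * (M.X (D.simple i) 1 * M.X (D.simple i) (-1)) *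
          M.X (D.neg (D.simple i)) 1 * M.X (D.simple i) (-1) := by group
    _ = M.X (D.simple i) 1 * (M.X (D.neg (D.simple i)) (-1) * M.X (D.neg (D.simple i)) 1) *
          M.X (D.simple i) (-1) := by
        rw [M.add _ hplt, add_neg_cancel, h0 _ hplt]; group
    _ = 1 := by
        rw [M.add _ hnplt, neg_add_cancel, h0 _ hnplt, mul_one, M.add _ hplt, add_neg_cancel, h0 _ hplt]

theorem hprod_eq_one (tf : TF D) (t : ℕ → K) (ht : ∀ i, i < D.rank → t i = 1) : M.hprod t = 1 := by
  unfold Model.hprod
  apply List.prod_eq_one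
  intro x hx
  rw [List.mem_map] at hx
  obtain ⟨i, hi, rfl⟩ := hx
  rw [ht i (List.mem_range.mp hi)]
  exact hbar_one M tf i (List.mem_range.mp hi)

/-- The centre of a model with (R3) of type G2, F4, E8 is trivial. -/
theorem center_eq_bot_main (hD' : D ∈ [chevG2, chevF4, chevE8]) (hgen : M.Gen) (h3 : M.R3) :
    Subgroup.center Γ = ⊥ := by
  have hD : D ∈ [chevG2, chevB2, chevD4, chevF4, chevE6, chevE7, chevE8] := by
    simp only [List.mem_cons, List.not_mem_nil, or_false] at hD' ⊢
    rcases hD' with rfl | rfl | rfl <;> simp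
  have tf := tf_main hD
  rw [eq_bot_iff]
  intro z hz
  rw [← ker_eq_center_main M hD hgen] at hz
  have hzH := ker_le_Hbar_main M hD hgen hz
  obtain ⟨t, ht, rfl⟩ := Cfsg.Agent.Lib.Helper92.St.exists_hprod M tf (hAct_main M hD)
    (fun j hj s hs => Cfsg.Agent.Lib.Helper18.St.cartan_neg hD j hj s hs) h3 z hzH
  have h1 : D.wordMat K ((List.range D.rank).flatMap fun i => D.hWord (D.simple i) (t i)) = 1 := by
    rw [← π_hprod M tf t, MonoidHom.mem_ker.mp hz, Units.val_one]
  have ht1 := Cfsg.Agent.Lib.Helper13.St.torus_trivial hD' t ht h1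
  rw [Subgroup.mem_bot]
  exact hprod_eq_one M tf t ht1

end Cfsg.Agent.Lib.Helper35.St
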