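/-
helper35: project E67, module E67-[CENTER]: the centre of the Steinberg group consists of the products
`h̄_1(c_1) ⋯ h̄_l(c_l)` with `c` in the kernel of the adjoint torus.
-/
import Cfsg.Agent.Lib.Helper35.StMain3
import Cfsg.Agent.Lib.Helper35.StCover
import Cfsg.Agent.Lib.Helper18.TorusHom

set_option autoImplicit false

namespace Cfsg.Agent.Lib.Helper35.E67

open Cfsg Cfsg.Lie Cfsg.Agent.Lib.Helper35.St Cfsg.Agent.Lib.Helper18

universe u

variable {K : Type u} [Field K] {D₀ : ChevalleyDatum}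

/-- The matrix of `π (hprod (extC c))` is the matrix of `torusHom c`. -/
theorem π_hprod_extC (hD₀ : D₀ ∈ [chevG2, chevB2, chevD4, chevF4, chevE6, chevE7, chevE8])
    (c : Fin D₀.rank → Kˣ) :
    (stModel (K := K) hD₀).π ((stModel (K := K) hD₀).hprod (extC D₀.rank c)) = torusHom D₀ K c := by
  apply Units.ext
  rw [π_hprod _ (tf_main hD₀), coe_torusHom,
    ← wordMat_torusWord D₀ (fun i hi c hc => Cfsg.Agent.S1033.result D₀ hD₀ i hi c hc) (extC D₀.rank c)
      (fun i _ => extC_ne_zero _ c i)]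
  rfl

/-- E67-[CENTER] -/
theorem mem_center_iff (hD₀ : D₀ ∈ [chevG2, chevB2, chevD4, chevF4, chevE6, chevE7, chevE8])
    (z : D₀.SteinbergGroup K) :
    z ∈ Subgroup.center (D₀.SteinbergGroup K) ↔ ∃ c : Fin D₀.rank → Kˣ, c ∈ (torusHom D₀ K).ker ∧
      z = (stModel (K := K) hD₀).hprod (extC D₀.rank c) := by
  have tf := tf_main hD₀
  set M := stModel (K := K) hD₀ with hM
  have hgen : M.Gen := stModel_gen hD₀
  have h3 : M.R3 := by
    intro i hi t₁ t₂ h₁ h₂
    exact stModel_hbar_mul hD₀ _ (tf.pos_lt _ (tf.simple_pos i hi)) t₁ t₂ h₁ h₂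
  rw [← ker_eq_center_main M hD₀ hgen]
  constructor
  · intro hz
    have hzH := ker_le_Hbar_main M hD₀ hgen hz
    obtain ⟨t, ht, rfl⟩ := Cfsg.Agent.Lib.Helper92.St.exists_hprod M tf (hAct_main M hD₀)
      (fun j hj s hs => Cfsg.Agent.Lib.Helper18.St.cartan_neg hD₀ j hj s hs) h3 z hzH
    set c : Fin D₀.rank → Kˣ := fun i => Units.mk0 (t i.1) (ht i.1 i.2) with hc_def
    have hext : ∀ i < D₀.rank, extC D₀.rank c i = t i := by
      intro i hi
      rw [extC_of_lt D₀.rank c i hi]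
      rfl
    have heq : M.hprod (extC D₀.rank c) = M.hprod t := by
      unfold Model.hprod
      congr 1
      apply List.map_congr_left
      intro i hi
      rw [hext i (List.mem_range.mp hi)]
    refine ⟨c, ?_, heq.symm⟩
    rw [MonoidHom.mem_ker, ← π_hprod_extC hD₀ c, ← hM, heq]
    exact MonoidHom.mem_ker.mp hz
  · rintro ⟨c, hc, rfl⟩
    rw [MonoidHom.mem_ker, hM, π_hprod_extC hD₀ c]
    exact MonoidHom.mem_ker.mp hc

end Cfsg.Agent.Lib.Helper35.E67
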