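/-
helper35: project STEIN / E67 (S1079, S2105, S2106): the sub-root-systems `E₆ ⊂ E₇ ⊂ E₈` spanned by the first six / seven
fundamental roots.  `jE6 r` / `jE7 r` = index in `chevE8` of the root of `chevE6` / `chevE7` with index `r` (same
coordinates on the fundamental roots, padded by zeros).  The structure constants agree (checked by the table module).
Also the abstract notion of an embedding of data.
-/
import Cfsg.Prelude.Def_ChevStructure

set_option autoImplicit false

namespace Cfsg.Agent.Lib.Helper35.E67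

open Cfsg.Lie

def jE6L : List ℕ :=
  [35, 45, 51, 54, 55, 61, 64, 65, 68, 69, 70, 73, 74, 75, 76, 77, 83, 86, 87, 90, 91, 92, 95, 96, 97, 98,
  101, 102, 103, 104, 107, 108, 109, 112, 113, 116, 123, 126, 127, 130, 131, 132, 135, 136, 137, 138, 141,
  142, 143, 144, 147, 148, 149, 152, 153, 156, 162, 163, 164, 165, 166, 169, 170, 171, 174, 175, 178, 184,
  185, 188, 194, 204]

def jE7L : List ℕ :=
  [13, 20, 25, 29, 32, 34, 35, 39, 42, 44, 45, 48, 50, 51, 53, 54, 55, 58, 60, 61, 63, 64, 65, 67, 68, 69,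
  70, 72, 73, 74, 75, 76, 77, 80, 82, 83, 85, 86, 87, 89, 90, 91, 92, 94, 95, 96, 97, 98, 100, 101, 102, 103,
  104, 106, 107, 108, 109, 111, 112, 113, 115, 116, 118, 121, 123, 124, 126, 127, 128, 130, 131, 132, 133,
  135, 136, 137, 138, 139, 141, 142, 143, 144, 145, 147, 148, 149, 150, 152, 153, 154, 156, 157, 159, 162,
  163, 164, 165, 166, 167, 169, 170, 171, 172, 174, 175, 176, 178, 179, 181, 184, 185, 186, 188, 189, 191,
  194, 195, 197, 200, 204, 205, 207, 210, 214, 219, 226]

/-- The index in `chevE8` of the root of `chevE6` with index `r`. -/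
def jE6 (r : ℕ) : ℕ := jE6L.getD r 0

/-- The index in `chevE8` of the root of `chevE7` with index `r`. -/
def jE7 (r : ℕ) : ℕ := jE7L.getD r 0

/-- An embedding `j` of the roots of `D₀` into the roots of `D₁`, mapping fundamental roots to fundamental roots and
compatible with negation and with the commutator formulas (same structure constants). -/
structure Emb (D₀ D₁ : ChevalleyDatum) (j : ℕ → ℕ) : Prop where
  rank_le : D₀.rank ≤ D₁.rank
  lt : ∀ r, r < D₀.nroots → j r < D₁.nroots
  neg : ∀ r, r < D₀.nroots → j (D₀.neg r) = D₁.neg (j r)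
  simple : ∀ i, i < D₀.rank → j (D₀.simple i) = D₁.simple i
  ne : ∀ r s, r < D₀.nroots → s < D₀.nroots → s ≠ r → s ≠ D₀.neg r → j s ≠ j r ∧ j s ≠ D₁.neg (j r)
  comm : ∀ r s, r < D₀.nroots → s < D₀.nroots → s ≠ r → s ≠ D₀.neg r →
    D₁.commTerms (j r) (j s) = (D₀.commTerms r s).map fun c => (j c.1, c.2)

end Cfsg.Agent.Lib.Helper35.E67
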