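/-
helper35: project E67, module E67-[HOM]: an embedding of data `Emb D₀ D₁ j` gives a homomorphism from the Steinberg
group of `D₀` to the matrix group of `D₁`, `x̄_r(t) ↦ x_{j r}(t)`.
-/
import Cfsg.Agent.Lib.Helper35.E67Defs
import Cfsg.Agent.Lib.Helper35.StCover

set_option autoImplicit false

namespace Cfsg.Agent.Lib.Helper35.E67

open Cfsg Cfsg.Lie Cfsg.Agent.Lib.Helper35.St Cfsg.Agent.Lib.Helper18

universe u

variable {K : Type u} [Field K] {D₀ D₁ : ChevalleyDatum} {j : ℕ → ℕ}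

/-- The assignment of the free generators of `D₀` to the root elements of the matrix group of `D₁`. -/
noncomputable def genJ (hD₁ : D₁ ∈ [chevG2, chevB2, chevD4, chevF4, chevE6, chevE7, chevE8]) (j : ℕ → ℕ) :
    Fin D₀.nroots × K → GL D₁.Idx K := fun p => xG hD₁ (j p.1.val) p.2

/-- The word with the roots renamed by `j`. -/
def mapW (j : ℕ → ℕ) (w : List (ℕ × K)) : List (ℕ × K) := w.map fun p => (j p.1, p.2)

theorem liftJ_stX (hD₁ : D₁ ∈ [chevG2, chevB2, chevD4, chevF4, chevE6, chevE7, chevE8]) {r : ℕ}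
    (hr : r < D₀.nroots) (t : K) :
    FreeGroup.lift (genJ (D₀ := D₀) hD₁ j) (D₀.stX r t) = xG hD₁ (j r) t := by
  unfold ChevalleyDatum.stX
  rw [dif_pos hr, FreeGroup.lift_apply_of]
  rfl

theorem liftJ_stWord (hD₁ : D₁ ∈ [chevG2, chevB2, chevD4, chevF4, chevE6, chevE7, chevE8]) (w : List (ℕ × K))
    (hw : ∀ p ∈ w, p.1 < D₀.nroots) :
    FreeGroup.lift (genJ (D₀ := D₀) hD₁ j) (D₀.stWord w) = wordGL hD₁ (mapW j w) := by
  unfold ChevalleyDatum.stWord wordGL mapW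
  rw [map_list_prod, List.map_map, List.map_map]
  congr 1
  apply List.map_congr_left
  intro a ha
  exact liftJ_stX hD₁ (hw a ha) a.2

theorem mapW_commWord (h : Emb D₀ D₁ j) {r s : ℕ} (hr : r < D₀.nroots) (hs : s < D₀.nroots) (hsr : s ≠ r)
    (hsn : s ≠ D₀.neg r) (t u : K) :
    mapW j (D₀.commWord K r s t u) = D₁.commWord K (j r) (j s) t u := by
  unfold mapW ChevalleyDatum.commWord
  rw [h.comm r s hr hs hsr hsn, List.map_map, List.map_map]
  rfl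

theorem mapW_nWord (h : Emb D₀ D₁ j) {r : ℕ} (hr : r < D₀.nroots) (t : K) :
    mapW j (D₀.nWord r t) = D₁.nWord (j r) t := by
  unfold mapW ChevalleyDatum.nWord
  simp only [List.map_cons, List.map_nil, h.neg r hr]

theorem mapW_hWord (h : Emb D₀ D₁ j) {r : ℕ} (hr : r < D₀.nroots) (t : K) :
    mapW j (D₀.hWord r t) = D₁.hWord (j r) t := by
  unfold ChevalleyDatum.hWord
  rw [← mapW_nWord h hr t, ← mapW_nWord h hr (-1)]
  unfold mapW
  rw [List.map_append]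

theorem liftJ_stH (hD₁ : D₁ ∈ [chevG2, chevB2, chevD4, chevF4, chevE6, chevE7, chevE8]) (h : Emb D₀ D₁ j)
    (hneg : ∀ r, r < D₀.nroots → D₀.neg r < D₀.nroots) {r : ℕ} (hr : r < D₀.nroots) (t : K) :
    ((FreeGroup.lift (genJ (D₀ := D₀) hD₁ j) (D₀.stH r t) : GL D₁.Idx K) : Matrix D₁.Idx D₁.Idx K)
      = D₁.hMat K (j r) t := by
  have hw : ∀ p ∈ D₀.hWord r t, p.1 < D₀.nroots := by
    intro p hp
    unfold ChevalleyDatum.hWord ChevalleyDatum.nWord at hp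
    simp only [List.cons_append, List.nil_append, List.mem_cons, List.not_mem_nil, or_false] at hp
    rcases hp with rfl | rfl | rfl | rfl | rfl | rfl
    all_goals first | exact hr | exact hneg r hr
  unfold ChevalleyDatum.stH ChevalleyDatum.hMat
  rw [liftJ_stWord hD₁ _ hw, coe_wordGL, mapW_hWord h hr]

theorem liftJ_rels (hD₁ : D₁ ∈ [chevG2, chevB2, chevD4, chevF4, chevE6, chevE7, chevE8]) (h : Emb D₀ D₁ j)
    (hneg : ∀ r, r < D₀.nroots → D₀.neg r < D₀.nroots)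
    (hlt : ∀ r s, r < D₀.nroots → s < D₀.nroots → s ≠ r → s ≠ D₀.neg r → ∀ c ∈ D₀.commTerms r s, c.1 < D₀.nroots) :
    ∀ g ∈ D₀.steinbergRels K, FreeGroup.lift (genJ (D₀ := D₀) (K := K) hD₁ j) g = 1 := by
  rintro g ((⟨r, t₁, t₂, hr, rfl⟩ | ⟨r, s, t, u, hr, hs, hsr, hsn, rfl⟩) | ⟨r, t₁, t₂, hr, h₁, h₂, rfl⟩)
  · rw [map_mul, map_mul, map_inv, liftJ_stX hD₁ hr, liftJ_stX hD₁ hr, liftJ_stX hD₁ hr, xG_mul, mul_inv_cancel]
  · have hw : ∀ p ∈ D₀.commWord K r s t u, p.1 < D₀.nroots := by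
      intro p hp
      unfold ChevalleyDatum.commWord at hp
      rw [List.mem_map] at hp
      obtain ⟨c, hc, rfl⟩ := hp
      exact hlt r s hr hs hsr hsn c hc
    rw [map_mul, map_mul, map_mul, map_mul, map_inv, map_inv, map_inv, liftJ_stX hD₁ hr, liftJ_stX hD₁ hs,
      liftJ_stWord hD₁ _ hw, mapW_commWord h hr hs hsr hsn]
    obtain ⟨hne1, hne2⟩ := h.ne r s hr hs hsr hsn
    have hh : xG hD₁ (j s) u * xG hD₁ (j r) t
        = xG hD₁ (j r) t * xG hD₁ (j s) u * wordGL hD₁ (D₁.commWord K (j r) (j s) t u) := by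
      apply Units.ext
      rw [Units.val_mul, Units.val_mul, Units.val_mul, coe_xG, coe_xG, coe_wordGL]
      exact Cfsg.Agent.S1025.result D₁ hD₁ (j r) (j s) (h.lt r hr) (h.lt s hs) hne1 hne2 t u
    rw [mul_assoc ((xG hD₁ (j s) u)⁻¹ * (xG hD₁ (j r) t)⁻¹), hh]
    group
  · rw [map_mul, map_mul, map_inv, mul_inv_eq_one]
    apply Units.ext
    rw [Units.val_mul, liftJ_stH hD₁ h hneg hr, liftJ_stH hD₁ h hneg hr, liftJ_stH hD₁ h hneg hr]
    exact Cfsg.Agent.S1076.result D₁ hD₁ (j r) (h.lt r hr) t₁ t₂ h₁ h₂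

/-- E67-[HOM] (with the two range facts about `D₀` as hypotheses). -/
theorem exists_hom_of_emb' (hD₁ : D₁ ∈ [chevG2, chevB2, chevD4, chevF4, chevE6, chevE7, chevE8]) (h : Emb D₀ D₁ j)
    (hneg : ∀ r, r < D₀.nroots → D₀.neg r < D₀.nroots)
    (hlt : ∀ r s, r < D₀.nroots → s < D₀.nroots → s ≠ r → s ≠ D₀.neg r → ∀ c ∈ D₀.commTerms r s, c.1 < D₀.nroots) :
    ∃ ι : D₀.SteinbergGroup K →* GL D₁.Idx K, ∀ r, r < D₀.nroots → ∀ t : K,
      ((ι (D₀.stGen K r t) : GL D₁.Idx K) : Matrix D₁.Idx D₁.Idx K) = D₁.x K (j r) t := by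
  refine ⟨PresentedGroup.toGroup (liftJ_rels hD₁ h hneg hlt), ?_⟩
  intro r hr t
  have e : PresentedGroup.toGroup (liftJ_rels (K := K) hD₁ h hneg hlt) (D₀.stGen K r t) = xG hD₁ (j r) t := by
    unfold ChevalleyDatum.stGen
    exact liftJ_stX hD₁ hr t
  rw [e, coe_xG]

end Cfsg.Agent.Lib.Helper35.E67
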