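/-
helper35: project E67, assembly: the centre of the Steinberg group of `E₆` / `E₇` over a finite field is in bijection
with the kernel of the adjoint torus (order `gcd(3, q-1)` / `gcd(2, q-1)`).
Modules: E67-[EMBTAB], E67-[HPINJ] (helper9), E67-[COUNT] (helper11), E67-[HOM], E67-[CENTER] (helper35).
-/
import Cfsg.Agent.Lib.Helper35.E67Hom
import Cfsg.Agent.Lib.Helper35.E67Center
import Cfsg.Agent.Lib.Helper9.E67EmbTab
import Cfsg.Agent.Lib.Helper9.E67HpInj
import Cfsg.Agent.Lib.Helper11.E67CountMain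
import Cfsg.Agent.Lib.Helper89.St3Idx

set_option autoImplicit false

namespace Cfsg.Agent.Lib.Helper35.E67

open Cfsg Cfsg.Lie Cfsg.Agent.Lib.Helper35.St Cfsg.Agent.Lib.Helper18

universe u

variable {K : Type u} [Field K] {D₀ D₁ : ChevalleyDatum} {j : ℕ → ℕ}

/-- The centre of the Steinberg group of a sub-datum of `E₈` (or `G₂`, `F₄`) is in bijection with the kernel of the
adjoint torus. -/
theorem card_center_eq (hD₀ : D₀ ∈ [chevG2, chevB2, chevD4, chevF4, chevE6, chevE7, chevE8])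
    (hD₁' : D₁ ∈ [chevG2, chevF4, chevE8]) (h : Emb D₀ D₁ j) :
    Nat.card (Subgroup.center (D₀.SteinbergGroup K)) = Nat.card (torusHom D₀ K).ker := by
  have hD₁ : D₁ ∈ [chevG2, chevB2, chevD4, chevF4, chevE6, chevE7, chevE8] := by
    simp only [List.mem_cons, List.not_mem_nil, or_false] at hD₁' ⊢
    rcases hD₁' with rfl | rfl | rfl <;> simp
  obtain ⟨ι, hι⟩ := exists_hom_of_emb' (K := K) hD₁ h (tf_main hD₀).neg_lt
    (Cfsg.Agent.Lib.Helper89.St3.termLt_of_mem hD₀)
  symm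
  let f : (torusHom D₀ K).ker → Subgroup.center (D₀.SteinbergGroup K) := fun c =>
    ⟨(stModel (K := K) hD₀).hprod (extC D₀.rank c.1), (mem_center_iff hD₀ _).2 ⟨c.1, c.2, rfl⟩⟩
  apply Nat.card_congr (Equiv.ofBijective f ⟨?_, ?_⟩)
  · intro c c' hcc
    have h1 : (stModel (K := K) hD₀).hprod (extC D₀.rank c.1) = (stModel (K := K) hD₀).hprod (extC D₀.rank c'.1) :=
      congrArg Subtype.val hcc
    have h2 := Cfsg.Agent.Lib.Helper9.E67.hprod_injective hD₀ hD₁' h ι hι _ _ (fun i _ => extC_ne_zero _ c.1 i)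
      (fun i _ => extC_ne_zero _ c'.1 i) h1
    apply Subtype.ext
    funext i
    apply Units.ext
    have := h2 i.1 i.2
    rw [extC_of_lt _ _ _ i.2, extC_of_lt _ _ _ i.2] at this
    exact this
  · intro z
    obtain ⟨c, hc, hz⟩ := (mem_center_iff hD₀ z.1).1 z.2
    exact ⟨⟨c, hc⟩, Subtype.ext hz.symm⟩

theorem card_center_E6 [Fintype K] :
    Nat.card (Subgroup.center (chevE6.SteinbergGroup K)) = Nat.gcd 3 (Fintype.card K - 1) := by
  rw [card_center_eq (by simp) (by simp) Cfsg.Agent.Lib.Helper9.E67.emb_E6,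
    Cfsg.Agent.Lib.Helper11.E67.card_ker_torusHom_E6]

theorem card_center_E7 [Fintype K] :
    Nat.card (Subgroup.center (chevE7.SteinbergGroup K)) = Nat.gcd 2 (Fintype.card K - 1) := by
  rw [card_center_eq (by simp) (by simp) Cfsg.Agent.Lib.Helper9.E67.emb_E7,
    Cfsg.Agent.Lib.Helper11.E67.card_ker_torusHom_E7]

end Cfsg.Agent.Lib.Helper35.E67
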