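-- helper35: S4291 MODULE D (for helper4): the non-solvable case of Zassenhaus' structure theorem
-- for Frobenius complements, from the conclusion of S3359.
import Mathlib
import Cfsg.Agent.Lib.Helper35.SL25ComplC
import Cfsg.Agent.Lib.Helper35.FrobComplNonsolv
import Cfsg.Agent.Lib.Helper5.PSL2Small
import Cfsg.Agent.S3378
import Cfsg.Agent.S0494
import Cfsg.Agent.S2119

set_option autoImplicit false
set_option linter.unusedSectionVars false

namespace Cfsg.Agent.Lib.Helper35.FCD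

open Cfsg.Agent.Lib.Helper35.SL25Compl
open scoped commutatorElement

universe u

section prod

variable {G : Type u} [Group G]

/-- the multiplication map of two commuting subgroups -/
noncomputable def mulHom (S M : Subgroup G) (hcomm : ∀ s ∈ S, ∀ x ∈ M, s * x = x * s) :
    S × M →* G :=
  S.subtype.noncommCoprod M.subtype
    (fun s m => (show Commute (S.subtype s) (M.subtype m) from hcomm s s.2 m m.2))

theorem mulHom_apply (S M : Subgroup G) (hcomm : ∀ s ∈ S, ∀ x ∈ M, s * x = x * s)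
    (a : S × M) : mulHom S M hcomm a = (a.1 : G) * (a.2 : G) := rfl

theorem mulHom_range (S M : Subgroup G) (hcomm : ∀ s ∈ S, ∀ x ∈ M, s * x = x * s) :
    (mulHom S M hcomm).range = S ⊔ M := by
  rw [mulHom, MonoidHom.noncommCoprod_range, Subgroup.range_subtype, Subgroup.range_subtype]

theorem mulHom_injective (S M : Subgroup G) (hcomm : ∀ s ∈ S, ∀ x ∈ M, s * x = x * s)
    (hinf : S ⊓ M = ⊥) : Function.Injective (mulHom S M hcomm) := by
  rw [mulHom, MonoidHom.noncommCoprod_injective]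
  refine ⟨S.subtype_injective, M.subtype_injective, ?_⟩
  rw [Subgroup.range_subtype, Subgroup.range_subtype, disjoint_iff, hinf]

theorem exists_mul_of_mem_sup (S M : Subgroup G) (hcomm : ∀ s ∈ S, ∀ x ∈ M, s * x = x * s)
    {g : G} (hg : g ∈ S ⊔ M) : ∃ s ∈ S, ∃ m ∈ M, g = s * m := by
  rw [← mulHom_range S M hcomm] at hg
  obtain ⟨a, rfl⟩ := hg
  exact ⟨a.1, a.1.2, a.2, a.2.2, rfl⟩

theorem card_sup (S M : Subgroup G) (hcomm : ∀ s ∈ S, ∀ x ∈ M, s * x = x * s)
    (hinf : S ⊓ M = ⊥) : Nat.card ↥(S ⊔ M) = Nat.card S * Nat.card M := by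
  have h1 : Nat.card (mulHom S M hcomm).range = Nat.card (S × M) :=
    Nat.card_range_of_injective (mulHom_injective S M hcomm hinf)
  rw [← mulHom_range S M hcomm, h1, Nat.card_prod]

end prod

section perfect

variable {G : Type u} [Group G]

theorem commutator_SL25 : commutator (Matrix.SpecialLinearGroup (Fin 2) (ZMod 5)) = ⊤ := by
  have : Fact (Nat.Prime 5) := ⟨by norm_num⟩
  exact Matrix.SL2.commutator_eq_top (F := ZMod 5) (a := 2) (by decide +revert) (by decide +revert)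

/-- perfectness is transported along an isomorphism, in subgroup form -/
theorem perfect_of_equiv (S : Subgroup G) {T : Type*} [Group T] (e : S ≃* T)
    (hT : commutator T = ⊤) : ⁅S, S⁆ = S := by
  have h1 : commutator S = ⊤ := by
    have h := Subgroup.map_commutator (⊤ : Subgroup T) ⊤ e.symm.toMonoidHom
    rw [Subgroup.map_top_of_surjective _ e.symm.surjective, ← commutator_def, ← commutator_def,
      hT, Subgroup.map_top_of_surjective _ e.symm.surjective] at h
    exact h.symm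
  have h2 := Subgroup.map_commutator (⊤ : Subgroup S) ⊤ S.subtype
  rw [← commutator_def, h1, ← MonoidHom.range_eq_map, Subgroup.range_subtype] at h2
  exact h2.symm

/-- central factors do not change commutators -/
theorem commutatorElement_mul_central (g₁ g₂ ζ₁ ζ₂ : G) (h1 : ∀ x : G, x * ζ₁ = ζ₁ * x)
    (h2 : ∀ x : G, x * ζ₂ = ζ₂ * x) : ⁅g₁ * ζ₁, g₂ * ζ₂⁆ = ⁅g₁, g₂⁆ := by
  rw [commutatorElement_def, commutatorElement_def]
  have e1 : (g₁ * ζ₁)⁻¹ = ζ₁⁻¹ * g₁⁻¹ := mul_inv_rev _ _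
  have e2 : (g₂ * ζ₂)⁻¹ = ζ₂⁻¹ * g₂⁻¹ := mul_inv_rev _ _
  rw [e1, e2]
  calc g₁ * ζ₁ * (g₂ * ζ₂) * (ζ₁⁻¹ * g₁⁻¹) * (ζ₂⁻¹ * g₂⁻¹)
      = g₁ * (ζ₁ * g₂) * (ζ₂ * ζ₁⁻¹) * g₁⁻¹ * (ζ₂⁻¹ * g₂⁻¹) := by group
    _ = g₁ * (g₂ * ζ₁) * (ζ₁⁻¹ * ζ₂) * g₁⁻¹ * (ζ₂⁻¹ * g₂⁻¹) := by
        rw [h1 g₂, ← h2 ζ₁⁻¹]
    _ = g₁ * g₂ * (ζ₂ * g₁⁻¹) * (ζ₂⁻¹ * g₂⁻¹) := by group
    _ = g₁ * g₂ * (g₁⁻¹ * ζ₂) * (ζ₂⁻¹ * g₂⁻¹) := by rw [h2 g₁⁻¹]
    _ = g₁ * g₂ * g₁⁻¹ * g₂⁻¹ := by group

end perfect

/-- the hypotheses of MODULE D -/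
structure Hyp (G : Type u) [Group G] (G₀ S M : Subgroup G) : Prop where
  hinv : UniqueInvol G
  hU : UniqueOrderP G
  hG₀ : G₀.Normal
  hidx : G₀.index = 1 ∨ G₀.index = 2
  hSM : S ⊔ M = G₀
  hinf : S ⊓ M = ⊥
  hcomm : ∀ s ∈ S, ∀ x ∈ M, s * x = x * s
  hS : Nonempty (S ≃* Matrix.SpecialLinearGroup (Fin 2) (ZMod 5))
  hM : (Nat.card M).Coprime 30

namespace Hyp

variable {G : Type u} [Group G] [Finite G] {G₀ S M : Subgroup G} (h : Hyp G G₀ S M)
include h

theorem card_S : Nat.card S = 120 := by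
  obtain ⟨e⟩ := h.hS
  exact (Nat.card_congr e.toEquiv).trans Cfsg.Agent.S3378.card_SL25

theorem perfect : ⁅S, S⁆ = S := by
  obtain ⟨e⟩ := h.hS
  exact perfect_of_equiv S e commutator_SL25

theorem not_solvable : ¬ Group.IsSolvable S := by
  intro hs
  have hnt : Nontrivial S := by
    have : Finite S := Nat.finite_of_card_ne_zero (by rw [h.card_S]; norm_num)
    rw [← Finite.one_lt_card_iff_nontrivial, h.card_S]; norm_num
  exact (Group.IsSolvable.commutator_lt_top_of_nontrivial S).ne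
    (commutator_eq_top_of_perfect S h.perfect)

theorem S_le : S ≤ G₀ := h.hSM ▸ le_sup_left

theorem M_le : M ≤ G₀ := h.hSM ▸ le_sup_right

theorem coprime120 : (Nat.card M).Coprime 120 := by
  have c2 : (Nat.card M).Coprime 2 := Nat.Coprime.coprime_dvd_right (by norm_num) h.hM
  have e : (120 : ℕ) = 2 * 2 * 30 := by norm_num
  rw [e]
  exact (c2.mul_right c2).mul_right h.hM

theorem pow_S {s : G} (hs : s ∈ S) : s ^ 120 = 1 := by
  have h1 := pow_card_eq_one' (G := S) (x := ⟨s, hs⟩)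
  rw [h.card_S] at h1
  have h2 := congrArg (fun t : S => (t : G)) h1
  simpa only [Subgroup.coe_pow, Subgroup.coe_one] using h2

theorem pow_M {m : G} (hm : m ∈ M) : m ^ Nat.card M = 1 := by
  have h1 := pow_card_eq_one' (G := M) (x := ⟨m, hm⟩)
  have h2 := congrArg (fun t : M => (t : G)) h1
  simpa only [Subgroup.coe_pow, Subgroup.coe_one] using h2

theorem mem_S_of_pow {g : G} (hg : g ∈ G₀) (hp : g ^ 120 = 1) : g ∈ S := by
  rw [← h.hSM] at hg
  obtain ⟨s, hs, m, hm, rfl⟩ := exists_mul_of_mem_sup S M h.hcomm hg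
  have hc : Commute s m := h.hcomm s hs m hm
  rw [hc.mul_pow, h.pow_S hs, one_mul] at hp
  have h1 : orderOf m ∣ 120 := orderOf_dvd_of_pow_eq_one hp
  have h2 : orderOf m ∣ Nat.card M := Subgroup.orderOf_dvd_natCard M hm
  have h3 : orderOf m ∣ 1 := by
    have := Nat.dvd_gcd h2 h1
    rwa [Nat.Coprime.gcd_eq_one h.coprime120] at this
  have h4 : m = 1 := orderOf_eq_one_iff.mp (Nat.dvd_one.mp h3)
  rw [h4, mul_one]; exact hs

theorem mem_M_of_pow {g : G} (hg : g ∈ G₀) (hp : g ^ Nat.card M = 1) : g ∈ M := by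
  rw [← h.hSM] at hg
  obtain ⟨s, hs, m, hm, rfl⟩ := exists_mul_of_mem_sup S M h.hcomm hg
  have hc : Commute s m := h.hcomm s hs m hm
  rw [hc.mul_pow, h.pow_M hm, mul_one] at hp
  have h1 : orderOf s ∣ Nat.card M := orderOf_dvd_of_pow_eq_one hp
  have h2 : orderOf s ∣ 120 := orderOf_dvd_of_pow_eq_one (h.pow_S hs)
  have h3 : orderOf s ∣ 1 := by
    have := Nat.dvd_gcd h1 h2
    rwa [Nat.Coprime.gcd_eq_one h.coprime120] at this
  have h4 : s = 1 := orderOf_eq_one_iff.mp (Nat.dvd_one.mp h3)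
  rw [h4, one_mul]; exact hm

theorem normal_S : S.Normal := by
  have := h.hG₀
  constructor
  intro s hs g
  apply h.mem_S_of_pow
  · exact this.conj_mem s (h.S_le hs) g
  · rw [conj_pow, h.pow_S hs, mul_one, mul_inv_cancel]

theorem normal_M : M.Normal := by
  have := h.hG₀
  constructor
  intro m hm g
  apply h.mem_M_of_pow
  · exact this.conj_mem m (h.M_le hm) g
  · rw [conj_pow, h.pow_M hm, mul_one, mul_inv_cancel]

theorem card_G₀ : Nat.card G₀ = 120 * Nat.card M := by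
  have := card_sup S M h.hcomm h.hinf
  rw [h.card_S, h.hSM] at this
  exact this

section withZ

variable {z : G} (hzS : z ∈ S) (hz : orderOf z = 2)
include hzS

theorem zpowers_le_S : Subgroup.zpowers z ≤ S := Subgroup.zpowers_le.mpr hzS

theorem zpowers_comm : ∀ s ∈ Subgroup.zpowers z, ∀ x ∈ M, s * x = x * s :=
  fun s hs x hx => h.hcomm s (h.zpowers_le_S hzS hs) x hx

theorem zpowers_inf : Subgroup.zpowers z ⊓ M = ⊥ := by
  apply le_bot_iff.mp
  calc Subgroup.zpowers z ⊓ M ≤ S ⊓ M := inf_le_inf_right _ (h.zpowers_le_S hzS)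
    _ = ⊥ := h.hinf

theorem N_inf_S : (Subgroup.zpowers z ⊔ M) ⊓ S ≤ Subgroup.zpowers z := by
  rintro x ⟨hxN, hxS⟩
  obtain ⟨ζ, hζ, m, hm, rfl⟩ := exists_mul_of_mem_sup _ _ (h.zpowers_comm hzS) hxN
  have hζS : ζ ∈ S := h.zpowers_le_S hzS hζ
  have hmS : m ∈ S := by
    have : m = ζ⁻¹ * (ζ * m) := by group
    rw [this]; exact S.mul_mem (S.inv_mem hζS) hxS
  have : m ∈ S ⊓ M := ⟨hmS, hm⟩
  rw [h.hinf, Subgroup.mem_bot] at this
  rw [this, mul_one]; exact hζ

include hz

theorem card_N : Nat.card ↥(Subgroup.zpowers z ⊔ M) = 2 * Nat.card M := by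
  rw [card_sup _ _ (h.zpowers_comm hzS) (h.zpowers_inf hzS), Nat.card_zpowers, hz]

theorem central {ζ : G} (hζ : ζ ∈ Subgroup.zpowers z) (x : G) : x * ζ = ζ * x := by
  obtain ⟨k, rfl⟩ := Subgroup.mem_zpowers_iff.mp hζ
  have hc : Commute x z := central_of_uniqueInvol h.hinv hz x
  exact (hc.zpow_right k).eq

theorem normal_zpowers : (Subgroup.zpowers z).Normal := by
  constructor
  intro n hn g
  rw [h.central hzS hz hn g, mul_inv_cancel_right]
  exact hn

theorem normal_N : (Subgroup.zpowers z ⊔ M).Normal := by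
  have h1 := h.normal_zpowers hzS hz
  have h2 := h.normal_M
  infer_instance

theorem odd_card_M : ¬ 2 ∣ Nat.card M := by
  intro h2
  have c2 : (Nat.card M).Coprime 2 := Nat.Coprime.coprime_dvd_right (by norm_num) h.hM
  have := Nat.dvd_gcd h2 (dvd_refl 2)
  rw [Nat.Coprime.gcd_eq_one c2] at this
  omega

end withZ

end Hyp

section sylow

variable {G : Type u} [Group G] [Finite G]

/-- Sylow subgroups in a group satisfying `UniqueOrderP` are cyclic or `p = 2` -/
theorem isCyclic_or_two (hU : UniqueOrderP G) (N : Subgroup G) (p : ℕ) [hp : Fact p.Prime]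
    (P : Sylow p N) : IsCyclic P ∨ p = 2 := by
  have huniq : ∀ H K : Subgroup ↥(P : Subgroup N), Nat.card H = p → Nat.card K = p → H = K := by
    intro H K hH hK
    set Q : Subgroup G := (P : Subgroup N).map N.subtype with hQ
    have hQp : IsPGroup p Q := P.2.map N.subtype
    let e : ↥(P : Subgroup N) ≃* ↥Q :=
      (P : Subgroup N).equivMapOfInjective N.subtype N.subtype_injective
    have h1 : Nat.card (H.map e.toMonoidHom) = p := by
      rw [Subgroup.card_map_of_injective e.injective]; exact hH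
    have h2 : Nat.card (K.map e.toMonoidHom) = p := by
      rw [Subgroup.card_map_of_injective e.injective]; exact hK
    have := hU p Q hQp _ _ h1 h2
    exact Subgroup.map_injective e.injective this
  rcases Cfsg.Agent.S0016.result (G := ↥(P : Subgroup N)) p P.2 huniq with h | ⟨h2, -⟩
  · exact Or.inl h
  · exact Or.inr h2

/-- if moreover `|N| = 2 * odd` then all Sylow subgroups of `N` are cyclic -/
theorem isCyclic_sylow_of_card (hU : UniqueOrderP G) (N : Subgroup G) {n : ℕ}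
    (hN : Nat.card N = 2 * n) (hn : ¬ 2 ∣ n) (p : ℕ) [hp : Fact p.Prime] (P : Sylow p N) :
    IsCyclic P := by
  rcases isCyclic_or_two hU N p P with h | h2
  · exact h
  · subst h2
    have hn0 : n ≠ 0 := fun h0 => hn (h0 ▸ dvd_zero 2)
    have hc : Nat.card (P : Subgroup N) = 2 := by
      rw [Sylow.card_eq_multiplicity, hN, Nat.factorization_mul (by norm_num) hn0,
        Finsupp.add_apply, Nat.Prime.factorization_self Nat.prime_two,
        Nat.factorization_eq_zero_of_not_dvd hn]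
      norm_num
    have : Fact (Nat.Prime 2) := ⟨Nat.prime_two⟩
    exact isCyclic_of_prime_card (p := 2) hc

end sylow

namespace Hyp

open scoped Nat

variable {G : Type u} [Group G] [Finite G] {G₀ S M : Subgroup G} (h : Hyp G G₀ S M)
include h

theorem mem_G₀_of_odd {x : G} (hodd : ¬ 2 ∣ orderOf x) : x ∈ G₀ := by
  rcases h.hidx with h1 | h2
  · rw [Subgroup.index_eq_one.mp h1]; exact Subgroup.mem_top x
  · have e : x = (x ^ ((orderOf x + 1) / 2)) ^ 2 := by
      rw [← pow_mul]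
      have : (orderOf x + 1) / 2 * 2 = orderOf x + 1 := by omega
      rw [this, pow_succ, pow_orderOf_eq_one, one_mul]
    rw [e]
    exact Subgroup.sq_mem_of_index_two h2 _

theorem centralizer_le {z : G} (hz : orderOf z = 2) :
    Subgroup.centralizer (S : Set G) ≤ Subgroup.zpowers z ⊔ M := by
  have hSn := h.normal_S
  obtain ⟨M', hM'C, hM'odd, hCM'⟩ := exists_odd_complement S h.hinv h.card_S h.not_solvable
  intro c hc
  have hM'G₀ : M' ≤ G₀ := by
    intro x hx
    apply h.mem_G₀_of_odd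
    intro h2
    exact hM'odd (dvd_trans h2 (Subgroup.orderOf_dvd_natCard M' hx))
  have hcG₀ : c ∈ G₀ := (sup_le h.S_le hM'G₀) (hCM' hc)
  rw [← h.hSM] at hcG₀
  obtain ⟨s, hs, m, hm, rfl⟩ := exists_mul_of_mem_sup S M h.hcomm hcG₀
  have hsC : s ∈ Subgroup.centralizer (S : Set G) := by
    have hmC : m ∈ Subgroup.centralizer (S : Set G) := by
      rw [Subgroup.mem_centralizer_iff]
      intro t ht
      exact h.hcomm t ht m hm
    have : s = (s * m) * m⁻¹ := by group
    rw [this]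
    exact Subgroup.mul_mem _ hc (Subgroup.inv_mem _ hmC)
  have hss : s * s = 1 := sq_eq_one_of_mem_inf S h.card_S h.not_solvable hs hsC
  have hsz : s ∈ Subgroup.zpowers z := by
    by_cases hs1 : s = 1
    · rw [hs1]; exact Subgroup.one_mem _
    · have := h.hinv _ _ (orderOf_eq_two_of_sq hss hs1) hz
      rw [this]; exact Subgroup.mem_zpowers z
  exact Subgroup.mul_mem _ (Subgroup.mem_sup_left hsz) (Subgroup.mem_sup_right hm)

theorem main : ∃ N : Subgroup G, N.Normal ∧
    (∀ (p : ℕ) [Fact p.Prime] (P : Sylow p N), IsCyclic P) ∧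
    ((∃ f : G →* alternatingGroup (Fin 5), Function.Surjective f ∧ f.ker = N) ∨
     (∃ f : G →* Equiv.Perm (Fin 5), Function.Surjective f ∧ f.ker = N)) := by
  obtain ⟨z, hzS, hz⟩ := exists_invol S h.card_S
  set N : Subgroup G := Subgroup.zpowers z ⊔ M with hN
  have hNn : N.Normal := h.normal_N hzS hz
  have hSn : S.Normal := h.normal_S
  refine ⟨N, hNn, fun p _ P =>
    isCyclic_sylow_of_card h.hU N (h.card_N hzS hz) (h.odd_card_M hzS hz) p P, ?_⟩
  let f₀ : G →* G ⧸ N := QuotientGroup.mk' N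
  have hf₀s : Function.Surjective f₀ := QuotientGroup.mk'_surjective N
  have hf₀k : ∀ x : G, f₀ x = 1 ↔ x ∈ N := fun x => QuotientGroup.eq_one_iff x
  set A : Subgroup (G ⧸ N) := S.map f₀ with hA
  have hAn : A.Normal := hSn.map f₀ hf₀s
  have hAperf : ⁅A, A⁆ = A := by rw [hA, ← Subgroup.map_commutator, h.perfect]
  have hAcard : Nat.card A = 60 := by
    let ψ : S →* G ⧸ N := f₀.comp S.subtype
    have hr : ψ.range = A := by
      rw [MonoidHom.range_comp, Subgroup.range_subtype]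
    have hk : ψ.ker = (Subgroup.zpowers z).subgroupOf S := by
      ext x
      rw [MonoidHom.mem_ker, Subgroup.mem_subgroupOf]
      show f₀ (x : G) = 1 ↔ _
      rw [hf₀k]
      constructor
      · intro hx; exact h.N_inf_S hzS ⟨hx, x.2⟩
      · intro hx; exact Subgroup.mem_sup_left hx
    have hkc : Nat.card ψ.ker = 2 := by
      rw [hk, Nat.card_congr (Subgroup.subgroupOfEquivOfLe (h.zpowers_le_S hzS)).toEquiv,
        Nat.card_zpowers, hz]
    have h1 := Subgroup.card_mul_index ψ.ker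
    rw [Subgroup.index_ker, hr, hkc, h.card_S] at h1
    omega
  have hAns : ¬ Group.IsSolvable A := by
    intro hs
    have hnt : Nontrivial A := by
      rw [← Finite.one_lt_card_iff_nontrivial, hAcard]; norm_num
    exact (Group.IsSolvable.commutator_lt_top_of_nontrivial A).ne
      (commutator_eq_top_of_perfect A hAperf)
  have hAsimple : IsSimpleGroup A := Cfsg.Agent.S3378.simple_of_card_sixty A hAcard hAns
  obtain ⟨e⟩ := Cfsg.Agent.S0494.result (G := A) hAcard
  let θ : G ⧸ N →* MulAut A := MulAut.conjNormal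
  have hθ : Function.Injective θ := by
    rw [injective_iff_map_eq_one]
    intro x hx
    obtain ⟨c, rfl⟩ := hf₀s x
    rw [hf₀k]
    apply h.centralizer_le hz
    have hstep : ∀ s ∈ S, c * s * c⁻¹ * s⁻¹ ∈ Subgroup.zpowers z := by
      intro s hs
      apply h.N_inf_S hzS
      refine ⟨?_, S.mul_mem (hSn.conj_mem s hs c) (S.inv_mem hs)⟩
      apply (hf₀k _).mp
      have ha : f₀ s ∈ A := Subgroup.mem_map_of_mem f₀ hs
      have h1 : ((θ (f₀ c) ⟨f₀ s, ha⟩ : A) : G ⧸ N) = f₀ c * f₀ s * (f₀ c)⁻¹ :=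
        MulAut.conjNormal_apply _ _
      rw [hx] at h1
      simp only [MulAut.one_apply] at h1
      rw [map_mul, map_mul, map_mul, map_inv, map_inv, ← h1, mul_inv_cancel]
    have hcent : ⁅S, S⁆ ≤ Subgroup.centralizer {c} := by
      rw [Subgroup.commutator_le]
      intro g₁ hg₁ g₂ hg₂
      rw [Subgroup.mem_centralizer_iff]
      intro y hy
      rw [Set.mem_singleton_iff] at hy
      subst hy
      have key : y * ⁅g₁, g₂⁆ * y⁻¹ = ⁅g₁, g₂⁆ := by
        have e1 : y * g₁ * y⁻¹ = g₁ * (y * g₁ * y⁻¹ * g₁⁻¹) := by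
          rw [h.central hzS hz (hstep g₁ hg₁) g₁]; group
        have e2 : y * g₂ * y⁻¹ = g₂ * (y * g₂ * y⁻¹ * g₂⁻¹) := by
          rw [h.central hzS hz (hstep g₂ hg₂) g₂]; group
        have e3 : y * ⁅g₁, g₂⁆ * y⁻¹ = ⁅y * g₁ * y⁻¹, y * g₂ * y⁻¹⁆ := by
          rw [commutatorElement_def, commutatorElement_def]; group
        rw [e3, e1, e2]
        exact commutatorElement_mul_central g₁ g₂ _ _ (h.central hzS hz (hstep g₁ hg₁))
          (h.central hzS hz (hstep g₂ hg₂))
      calc y * ⁅g₁, g₂⁆ = (y * ⁅g₁, g₂⁆ * y⁻¹) * y := by group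
        _ = ⁅g₁, g₂⁆ * y := by rw [key]
    rw [h.perfect] at hcent
    rw [Subgroup.mem_centralizer_iff]
    intro s hs
    exact ((Subgroup.mem_centralizer_iff.mp (hcent hs)) c (Set.mem_singleton c)).symm
  have hbij := Cfsg.Agent.S2119.result 5 (by norm_num) (by norm_num)
  let σ : Equiv.Perm (Fin 5) ≃* MulAut ↥(alternatingGroup (Fin 5)) :=
    MulEquiv.ofBijective _ hbij
  let f₁ : G ⧸ N →* Equiv.Perm (Fin 5) :=
    σ.symm.toMonoidHom.comp ((MulAut.congr e).toMonoidHom.comp θ)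
  have hf₁ : Function.Injective f₁ :=
    σ.symm.injective.comp ((MulAut.congr e).injective.comp hθ)
  have hcardG : Nat.card G = Nat.card (G ⧸ N) * Nat.card N :=
    Subgroup.card_eq_card_quotient_mul_card_subgroup N
  have hcardG₀ := Subgroup.card_mul_index G₀
  rw [h.card_G₀] at hcardG₀
  rw [h.card_N hzS hz] at hcardG
  have hMpos : 0 < Nat.card M := Nat.card_pos
  have hker : ∀ {T : Type} [Group T] (ε : (G ⧸ N) ≃* T), (ε.toMonoidHom.comp f₀).ker = N := by
    intro T _ ε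
    ext x
    rw [MonoidHom.mem_ker, MonoidHom.comp_apply]
    show ε (f₀ x) = 1 ↔ _
    rw [← hf₀k, EmbeddingLike.map_eq_one_iff]
  rcases h.hidx with h1 | h2
  · left
    have hX : Nat.card (G ⧸ N) = 60 := by
      rw [h1] at hcardG₀
      have h3 : Nat.card (G ⧸ N) * 2 * Nat.card M = 60 * 2 * Nat.card M := by linarith
      exact Nat.eq_of_mul_eq_mul_right (by norm_num) (Nat.eq_of_mul_eq_mul_right hMpos h3)
    obtain ⟨ε⟩ := Cfsg.Agent.Lib.Helper5.nonempty_mulEquiv_alternatingGroup_of_injective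
      (by norm_num) f₁ hf₁ (by rw [hX]; rfl)
    exact ⟨ε.toMonoidHom.comp f₀, ε.surjective.comp hf₀s, hker ε⟩
  · right
    have hX : Nat.card (G ⧸ N) = 120 := by
      rw [h2] at hcardG₀
      have h3 : Nat.card (G ⧸ N) * 2 * Nat.card M = 120 * 2 * Nat.card M := by linarith
      exact Nat.eq_of_mul_eq_mul_right (by norm_num) (Nat.eq_of_mul_eq_mul_right hMpos h3)
    obtain ⟨ε⟩ := Cfsg.Agent.Lib.Helper5.nonempty_mulEquiv_perm_of_injective
      f₁ hf₁ (by rw [hX]; rfl)
    exact ⟨ε.toMonoidHom.comp f₀, ε.surjective.comp hf₀s, hker ε⟩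

end Hyp

/-- S4291 MODULE D: the non-solvable case. -/
theorem good_of_nonsolvable {G : Type*} [Group G] [Finite G]
    (hinv : Cfsg.Agent.Lib.Helper35.SL25Compl.UniqueInvol G)
    (hU : Cfsg.Agent.Lib.Helper35.SL25Compl.UniqueOrderP G) (G₀ : Subgroup G) (hG₀ : G₀.Normal)
    (hidx : G₀.index = 1 ∨ G₀.index = 2) (S M : Subgroup G) (hSM : S ⊔ M = G₀)
    (hinf : S ⊓ M = ⊥) (hcomm : ∀ s ∈ S, ∀ x ∈ M, s * x = x * s)
    (hS : Nonempty (S ≃* Matrix.SpecialLinearGroup (Fin 2) (ZMod 5)))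
    (hM : (Nat.card M).Coprime 30) :
    ∃ N : Subgroup G, N.Normal ∧ (∀ (p : ℕ) [Fact p.Prime] (P : Sylow p N), IsCyclic P) ∧
      ((∃ f : G →* alternatingGroup (Fin 5), Function.Surjective f ∧ f.ker = N) ∨
       (∃ f : G →* Equiv.Perm (Fin 5), Function.Surjective f ∧ f.ker = N)) :=
  Hyp.main ⟨hinv, hU, hG₀, hidx, hSM, hinf, hcomm, hS, hM⟩

end Cfsg.Agent.Lib.Helper35.FCD
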