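-- helper35: metacyclic presentations.  A finite group generated by x, y with
-- x^n = y^m = 1, x⁻¹ y x = y^r and of order n*m is the presented group on these relations.
import Mathlib

set_option autoImplicit false
set_option linter.unusedSectionVars false

namespace Cfsg.Agent.Lib.Helper35.ZPres

/-- the metacyclic relators -/
abbrev rels (n m r : ℕ) : Set (FreeGroup (Fin 2)) :=
  {FreeGroup.of (0 : Fin 2) ^ n, FreeGroup.of (1 : Fin 2) ^ m,
    (FreeGroup.of (0 : Fin 2))⁻¹ * FreeGroup.of 1 * FreeGroup.of 0 *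
      (FreeGroup.of (1 : Fin 2) ^ r)⁻¹}

section presented

variable (n m r : ℕ)

/-- the first generator -/
def pX : PresentedGroup (rels n m r) := PresentedGroup.of 0
/-- the second generator -/
def pY : PresentedGroup (rels n m r) := PresentedGroup.of 1

theorem pX_pow : pX n m r ^ n = 1 := by
  have h : PresentedGroup.mk (rels n m r) (FreeGroup.of (0 : Fin 2) ^ n) = 1 :=
    PresentedGroup.one_of_mem (Set.mem_insert _ _)
  rwa [map_pow] at h

theorem pY_pow : pY n m r ^ m = 1 := by
  have h : PresentedGroup.mk (rels n m r) (FreeGroup.of (1 : Fin 2) ^ m) = 1 :=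
    PresentedGroup.one_of_mem (Set.mem_insert_of_mem _ (Set.mem_insert _ _))
  rwa [map_pow] at h

theorem pXY : (pX n m r)⁻¹ * pY n m r * pX n m r = pY n m r ^ r := by
  have h := PresentedGroup.one_of_mem (rels := rels n m r)
    (x := (FreeGroup.of (0 : Fin 2))⁻¹ * FreeGroup.of 1 * FreeGroup.of 0 *
      (FreeGroup.of (1 : Fin 2) ^ r)⁻¹)
    (Set.mem_insert_of_mem _ (Set.mem_insert_of_mem _ (Set.mem_singleton _)))
  rw [map_mul, map_mul, map_mul, map_inv, map_inv, map_pow] at h
  exact mul_inv_eq_one.mp h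

theorem p_gen : Subgroup.closure ({pX n m r, pY n m r} : Set (PresentedGroup (rels n m r))) = ⊤ := by
  have h := PresentedGroup.closure_range_of (rels n m r)
  have h2 : Set.range (PresentedGroup.of : Fin 2 → PresentedGroup (rels n m r)) =
      {pX n m r, pY n m r} := by
    ext x
    constructor
    · rintro ⟨i, rfl⟩
      fin_cases i
      · exact Or.inl rfl
      · exact Or.inr rfl
    · rintro (rfl | rfl)
      exacts [⟨0, rfl⟩, ⟨1, rfl⟩]
  rw [h2] at h
  exact h

end presented

section normalform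

variable {P : Type*} [Group P] {X Y : P} {n m r : ℕ}

/-- moving a power of `X` across a power of `Y` -/
theorem pow_mul_pow_X (hXY : X⁻¹ * Y * X = Y ^ r) (b k : ℕ) :
    Y ^ b * X ^ k = X ^ k * Y ^ (r ^ k * b) := by
  induction k generalizing b with
  | zero => simp
  | succ k ih =>
    have h1 : Y ^ b * X = X * Y ^ (r * b) := by
      have : X⁻¹ * Y ^ b * X = (X⁻¹ * Y * X) ^ b := by
        have := conj_pow (a := X⁻¹) (b := Y) (i := b)
        rw [inv_inv] at this
        exact this.symm
      rw [hXY, ← pow_mul] at this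
      calc Y ^ b * X = X * (X⁻¹ * Y ^ b * X) := by group
        _ = X * Y ^ (r * b) := by rw [this]
    calc Y ^ b * X ^ (k + 1) = (Y ^ b * X) * X ^ k := by rw [pow_succ']; group
      _ = X * (Y ^ (r * b) * X ^ k) := by rw [h1]; group
      _ = X * (X ^ k * Y ^ (r ^ k * (r * b))) := by rw [ih]
      _ = X ^ (k + 1) * Y ^ (r ^ (k + 1) * b) := by
          rw [pow_succ' X k, pow_succ r k]
          have : r ^ k * (r * b) = r ^ k * r * b := by ring
          rw [this]; group

/-- the set of normal forms is everything -/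
theorem exists_normal_form (hn : 0 < n) (hm : 0 < m) (hX : X ^ n = 1) (hY : Y ^ m = 1)
    (hXY : X⁻¹ * Y * X = Y ^ r) (hgen : Subgroup.closure ({X, Y} : Set P) = ⊤) (g : P) :
    ∃ a b : ℕ, g = X ^ a * Y ^ b := by
  have hg : g ∈ Subgroup.closure ({X, Y} : Set P) := by rw [hgen]; exact Subgroup.mem_top g
  have hXinv : X⁻¹ = X ^ (n - 1) := by
    apply inv_eq_of_mul_eq_one_right
    rw [← pow_succ', Nat.sub_add_cancel hn, hX]
  have hYinv : Y⁻¹ = Y ^ (m - 1) := by
    apply inv_eq_of_mul_eq_one_right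
    rw [← pow_succ', Nat.sub_add_cancel hm, hY]
  have stepX : ∀ (a b k : ℕ), ∃ a' b' : ℕ, X ^ a * Y ^ b * X ^ k = X ^ a' * Y ^ b' := by
    intro a b k
    refine ⟨a + k, r ^ k * b, ?_⟩
    rw [mul_assoc, pow_mul_pow_X hXY, ← mul_assoc, ← pow_add]
  have stepY : ∀ (a b k : ℕ), ∃ a' b' : ℕ, X ^ a * Y ^ b * Y ^ k = X ^ a' * Y ^ b' := by
    intro a b k
    exact ⟨a, b + k, by rw [mul_assoc, ← pow_add]⟩
  induction hg using Subgroup.closure_induction_right with
  | one => exact ⟨0, 0, by simp⟩
  | mul_right x hx y hy ih =>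
    obtain ⟨a, b, rfl⟩ := ih
    rcases hy with rfl | rfl
    · simpa using stepX a b 1
    · simpa using stepY a b 1
  | mul_inv_cancel x hx y hy ih =>
    obtain ⟨a, b, rfl⟩ := ih
    rcases hy with rfl | rfl
    · rw [hXinv]; exact stepX a b (n - 1)
    · rw [hYinv]; exact stepY a b (m - 1)

/-- a group generated by `X`, `Y` with the metacyclic relations has at most `n * m` elements -/
theorem card_le (hn : 0 < n) (hm : 0 < m) (hX : X ^ n = 1) (hY : Y ^ m = 1)
    (hXY : X⁻¹ * Y * X = Y ^ r) (hgen : Subgroup.closure ({X, Y} : Set P) = ⊤) :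
    Finite P ∧ Nat.card P ≤ n * m := by
  let φ : Fin n × Fin m → P := fun ab => X ^ (ab.1 : ℕ) * Y ^ (ab.2 : ℕ)
  have hφ : Function.Surjective φ := by
    intro g
    obtain ⟨a, b, rfl⟩ := exists_normal_form hn hm hX hY hXY hgen g
    refine ⟨(⟨a % n, Nat.mod_lt _ hn⟩, ⟨b % m, Nat.mod_lt _ hm⟩), ?_⟩
    show X ^ (a % n) * Y ^ (b % m) = _
    rw [← pow_eq_pow_mod a hX, ← pow_eq_pow_mod b hY]
  have hfin : Finite P := Finite.of_surjective φ hφ
  refine ⟨hfin, ?_⟩
  have := Nat.card_le_card_of_surjective φ hφ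
  simpa using this

end normalform

/-- A finite group of order `n * m` generated by `x`, `y` with `x^n = y^m = 1`,
`x⁻¹ y x = y^r` is isomorphic to the presented group. -/
theorem nonempty_equiv_presented {H : Type*} [Group H] [Finite H] {n m r : ℕ} (hn : 0 < n)
    (hm : 0 < m) (x y : H) (hx : x ^ n = 1) (hy : y ^ m = 1) (hxy : x⁻¹ * y * x = y ^ r)
    (hgen : Subgroup.closure ({x, y} : Set H) = ⊤) (hcard : Nat.card H = n * m) :
    Nonempty (H ≃* PresentedGroup (rels n m r)) := by
  have hrel : ∀ w ∈ rels n m r, FreeGroup.lift ![x, y] w = 1 := by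
    intro w hw
    rcases hw with rfl | rfl | rfl
    · simp [hx]
    · simp [hy]
    · simp only [map_mul, map_inv, map_pow, FreeGroup.lift_apply_of]
      simp only [Matrix.cons_val_zero, Matrix.cons_val_one]
      rw [hxy, mul_inv_cancel]
  let φ : PresentedGroup (rels n m r) →* H := PresentedGroup.toGroup hrel
  have hφX : φ (pX n m r) = x := by simp [φ, pX]
  have hφY : φ (pY n m r) = y := by simp [φ, pY]
  have hφs : Function.Surjective φ := by
    rw [← MonoidHom.range_eq_top, eq_top_iff, ← hgen, Subgroup.closure_le]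
    rintro g (rfl | rfl)
    · exact ⟨pX n m r, hφX⟩
    · exact ⟨pY n m r, hφY⟩
  obtain ⟨hfin, hle⟩ := card_le hn hm (pX_pow n m r) (pY_pow n m r) (pXY n m r) (p_gen n m r)
  have hb : Function.Bijective φ := hφs.bijective_of_nat_card_le (by rw [hcard]; exact hle)
  exact ⟨(MulEquiv.ofBijective φ hb).symm⟩

end Cfsg.Agent.Lib.Helper35.ZPres
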