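-- helper35: Z-groups with the pq-condition have the Zassenhaus metacyclic presentation.
import Mathlib
import Cfsg.Agent.Lib.Helper35.ZGroupPres

set_option autoImplicit false
set_option linter.unusedSectionVars false

namespace Cfsg.Agent.Lib.Helper35.ZPres

/-- the pq-condition: an element of prime order normalizing a subgroup of prime order
centralizes it -/
def PQ (N : Type*) [Group N] : Prop :=
  ∀ a b : N, (orderOf a).Prime → (orderOf b).Prime → a * b * a⁻¹ ∈ Subgroup.zpowers b →
    a * b = b * a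

section commute

variable {N : Type*} [Group N] [Finite N]

/-- conjugation by `z` is the `t`-th power map on `zpowers y` -/
theorem conj_eq_pow_of_mem_zpowers {z y : N} {t : ℕ} (h : z * y * z⁻¹ = y ^ t) {c : N}
    (hc : c ∈ Subgroup.zpowers y) : z * c * z⁻¹ = c ^ t := by
  obtain ⟨k, rfl⟩ := Subgroup.mem_zpowers_iff.mp hc
  have h1 : z * y ^ k * z⁻¹ = (z * y * z⁻¹) ^ k := by
    have := map_zpow (MulAut.conj z) y k
    simpa only [MulAut.conj_apply] using this
  rw [h1, h, ← zpow_natCast, ← zpow_natCast, ← zpow_mul, ← zpow_mul, mul_comm]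

/-- an element of prime order `p ∤ |y|` normalizing `⟨y⟩` centralizes `y` -/
theorem commute_of_prime_order (hpq : PQ N) {z y : N} {p : ℕ} (hp : p.Prime)
    (hz : orderOf z = p) (hpy : ¬ p ∣ orderOf y) {t : ℕ} (hzy : z * y * z⁻¹ = y ^ t) :
    z * y = y * z := by
  have key : ∀ k : ℕ, ∀ c ∈ Subgroup.zpowers y, orderOf c = k → z * c = c * z := by
    intro k
    induction k using Nat.strong_induction_on with
    | _ k ih =>
      intro c hc hk
      by_cases hc1 : c = 1
      · rw [hc1, mul_one, one_mul]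
      have hk1 : orderOf c ≠ 1 := fun h => hc1 (orderOf_eq_one_iff.mp h)
      have hk0 : 0 < orderOf c := orderOf_pos c
      set q := (orderOf c).minFac with hq
      have hqp : q.Prime := Nat.minFac_prime hk1
      have hqd : q ∣ orderOf c := Nat.minFac_dvd _
      have hcq : c ^ q ∈ Subgroup.zpowers y := Subgroup.pow_mem _ hc q
      have hoq : orderOf (c ^ q) = orderOf c / q := orderOf_pow_of_dvd hqp.ne_zero hqd
      have hlt : orderOf c / q < k := by
        rw [← hk]; exact Nat.div_lt_self hk0 hqp.one_lt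
      have hcomm_q : z * c ^ q = c ^ q * z := ih _ hlt _ hcq hoq
      have hconj : z * c * z⁻¹ = c ^ t := conj_eq_pow_of_mem_zpowers hzy hc
      set d := c⁻¹ * c ^ t with hd
      have hcd : z * c * z⁻¹ = c * d := by rw [hconj, hd]; group
      have hdq : d ^ q = 1 := by
        have h1 : (z * c * z⁻¹) ^ q = c ^ q := by
          rw [conj_pow, hcomm_q, mul_inv_cancel_right]
        have hcm : Commute c⁻¹ (c ^ t) := (Commute.refl c).inv_left.pow_right t
        rw [hd, hcm.mul_pow, ← hconj, h1, inv_pow, inv_mul_cancel]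
      by_cases hd1 : d = 1
      · rw [hd1, mul_one] at hcd
        calc z * c = (z * c * z⁻¹) * z := by group
          _ = c * z := by rw [hcd]
      exfalso
      have : Fact q.Prime := ⟨hqp⟩
      have hdo : orderOf d = q := orderOf_eq_prime hdq hd1
      have hdy : d ∈ Subgroup.zpowers y :=
        Subgroup.mul_mem _ (Subgroup.inv_mem _ hc) (Subgroup.pow_mem _ hc t)
      have hzd : z * d = d * z := by
        apply hpq z d (hz ▸ hp) (hdo ▸ hqp)
        rw [conj_eq_pow_of_mem_zpowers hzy hdy]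
        exact Subgroup.pow_mem _ (Subgroup.mem_zpowers d) t
      have hcdc : c * d = d * c := by
        rw [hd]
        have hcm : Commute c (c⁻¹ * c ^ t) :=
          ((Commute.refl c).inv_right).mul_right ((Commute.refl c).pow_right t)
        exact hcm.eq
      have hiter : ∀ j : ℕ, z ^ j * c * (z ^ j)⁻¹ = c * d ^ j := by
        intro j
        induction j with
        | zero => simp
        | succ j ihj =>
          have hzdj : z * d ^ j * z⁻¹ = d ^ j := by
            have : Commute z (d ^ j) := (show Commute z d from hzd).pow_right j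
            rw [this.eq, mul_inv_cancel_right]
          calc z ^ (j + 1) * c * (z ^ (j + 1))⁻¹
              = z * (z ^ j * c * (z ^ j)⁻¹) * z⁻¹ := by rw [pow_succ']; group
            _ = z * (c * d ^ j) * z⁻¹ := by rw [ihj]
            _ = (z * c * z⁻¹) * (z * d ^ j * z⁻¹) := by group
            _ = c * d * d ^ j := by rw [hcd, hzdj]
            _ = c * d ^ (j + 1) := by rw [pow_succ', mul_assoc]
      have hp1 := hiter p
      rw [← hz, pow_orderOf_eq_one, one_mul, inv_one, mul_one] at hp1
      have hdp : d ^ orderOf z = 1 := by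
        have : c * d ^ orderOf z = c * 1 := by rw [← hp1, mul_one]
        exact mul_left_cancel this
      have hqp' : q ∣ p := by rw [← hdo, ← hz]; exact orderOf_dvd_of_pow_eq_one hdp
      have hqeq : q = p := (Nat.prime_dvd_prime_iff_eq hqp hp).mp hqp'
      apply hpy
      rw [← hqeq]
      exact dvd_trans hqd (orderOf_dvd_of_mem_zpowers hc)
  exact key _ y (Subgroup.mem_zpowers y) rfl

/-- powers of an element normalizing `⟨y⟩` by a power map -/
theorem pow_conj_eq_pow {w y : N} {t : ℕ} (h : w * y * w⁻¹ = y ^ t) (j : ℕ) :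
    w ^ j * y * (w ^ j)⁻¹ = y ^ (t ^ j) := by
  induction j with
  | zero => simp
  | succ j ih =>
    calc w ^ (j + 1) * y * (w ^ (j + 1))⁻¹ = w * (w ^ j * y * (w ^ j)⁻¹) * w⁻¹ := by
          rw [pow_succ']; group
      _ = w * y ^ (t ^ j) * w⁻¹ := by rw [ih]
      _ = (w * y * w⁻¹) ^ (t ^ j) := by rw [conj_pow]
      _ = y ^ (t ^ (j + 1)) := by rw [h, ← pow_mul, pow_succ']

/-- an element of squarefree order coprime to `|y|` normalizing `⟨y⟩` centralizes `y` -/
theorem commute_of_squarefree_order (hpq : PQ N) {y : N} :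
    ∀ (k : ℕ) (w : N), orderOf w = k → Squarefree k → k.Coprime (orderOf y) →
      (∃ t : ℕ, w * y * w⁻¹ = y ^ t) → w * y = y * w := by
  intro k
  induction k using Nat.strong_induction_on with
  | _ k ih =>
    intro w hw hsq hcop ⟨t, ht⟩
    by_cases hk1 : k = 1
    · rw [hk1] at hw
      rw [orderOf_eq_one_iff.mp hw, one_mul, mul_one]
    have hk0 : 0 < k := hw ▸ orderOf_pos w
    set p := k.minFac with hp
    have hpp : p.Prime := Nat.minFac_prime hk1
    have hpd : p ∣ k := Nat.minFac_dvd k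
    obtain ⟨k', hk'⟩ := hpd
    have hk'0 : k' ≠ 0 := by
      rintro rfl; rw [mul_zero] at hk'; omega
    rw [hk'] at hsq
    obtain ⟨hcpk, -, hsqk'⟩ := Nat.squarefree_mul_iff.mp hsq
    have hk'lt : k' < k := by
      rw [hk']
      have := hpp.two_le
      nlinarith [Nat.pos_of_ne_zero hk'0]
    -- w₁ = w ^ k' of order p, w₂ = w ^ p of order k'
    have ho1 : orderOf (w ^ k') = p := by
      rw [orderOf_pow_of_dvd hk'0 (by rw [hw, hk']; exact dvd_mul_left _ _), hw, hk',
        Nat.mul_div_cancel _ (Nat.pos_of_ne_zero hk'0)]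
    have ho2 : orderOf (w ^ p) = k' := by
      rw [orderOf_pow_of_dvd hpp.ne_zero (by rw [hw, hk']; exact dvd_mul_right _ _), hw, hk',
        Nat.mul_div_cancel_left _ hpp.pos]
    have hpy : ¬ p ∣ orderOf y := by
      intro hdvd
      have h1 : p ∣ Nat.gcd k (orderOf y) := Nat.dvd_gcd (hk' ▸ dvd_mul_right _ _) hdvd
      rw [Nat.Coprime.gcd_eq_one hcop] at h1
      exact hpp.one_lt.ne' (Nat.dvd_one.mp h1)
    have hc1 : w ^ k' * y = y * w ^ k' :=
      commute_of_prime_order hpq hpp ho1 hpy (pow_conj_eq_pow ht k')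
    have hc2 : w ^ p * y = y * w ^ p := by
      apply ih k' hk'lt (w ^ p) ho2 hsqk'
      · exact Nat.Coprime.coprime_dvd_left (hk' ▸ dvd_mul_left _ _) hcop
      · exact ⟨t ^ p, pow_conj_eq_pow ht p⟩
    -- Bezout
    have hbez := Nat.gcd_eq_gcd_ab p k'
    rw [Nat.Coprime.gcd_eq_one hcpk] at hbez
    have hw1 : w = (w ^ p) ^ (Nat.gcdA p k') * (w ^ k') ^ (Nat.gcdB p k') := by
      rw [← zpow_natCast w p, ← zpow_natCast w k', ← zpow_mul, ← zpow_mul, ← zpow_add, ← hbez]
      simp
    have hC1 : Commute (w ^ k') y := hc1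
    have hC2 : Commute (w ^ p) y := hc2
    have : Commute w y := by
      rw [hw1]
      exact (hC2.zpow_left _).mul_left (hC1.zpow_left _)
    exact this.eq

end commute

section main

variable {N : Type*} [Group N] [Finite N]

theorem squarefree_rad (n : ℕ) : Squarefree (∏ p ∈ n.primeFactors, p) := by
  apply Finset.squarefree_prod_of_pairwise_isCoprime
  · intro p hp q hq hpq
    have hp' : p.Prime := Nat.prime_of_mem_primeFactors hp
    have hq' : q.Prime := Nat.prime_of_mem_primeFactors hq
    show IsRelPrime p q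
    rw [← Nat.coprime_iff_isRelPrime]
    exact (Nat.coprime_primes hp' hq').mpr hpq
  · intro p hp
    exact (Nat.prime_of_mem_primeFactors hp).squarefree

/-- abelian quotients of a metacyclic group: `gcd (r - 1) m = 1` when the commutator subgroup
has order `m` -/
theorem coprime_of_commutator {n m r : ℕ} (hn : 0 < n) (hm : 0 < m) (hr : 1 ≤ r)
    (hcard : Nat.card N = n * m) (hcomm : Nat.card (commutator N) = m)
    (e : N ≃* PresentedGroup (rels n m r)) : Nat.Coprime (r - 1) m := by
  set d := Nat.gcd (r - 1) m with hd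
  have hd0 : 0 < d := Nat.gcd_pos_of_pos_right _ hm
  have hdm : d ∣ m := Nat.gcd_dvd_right _ _
  have hdr : d ∣ r - 1 := Nat.gcd_dvd_left _ _
  have : NeZero n := ⟨hn.ne'⟩
  have : NeZero d := ⟨hd0.ne'⟩
  let A := Multiplicative (ZMod n × ZMod d)
  let gx : A := Multiplicative.ofAdd ((1 : ZMod n), (0 : ZMod d))
  let gy : A := Multiplicative.ofAdd ((0 : ZMod n), (1 : ZMod d))
  have hgx : gx ^ n = 1 := by
    show Multiplicative.ofAdd (n • ((1 : ZMod n), (0 : ZMod d))) = 1
    simp
  have hgy : gy ^ m = 1 := by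
    show Multiplicative.ofAdd (m • ((0 : ZMod n), (1 : ZMod d))) = 1
    have : (m : ZMod d) = 0 := (ZMod.natCast_eq_zero_iff m d).mpr hdm
    simp [this]
  have hgr : gy ^ r = gy := by
    show Multiplicative.ofAdd (r • ((0 : ZMod n), (1 : ZMod d))) = Multiplicative.ofAdd _
    have h1 : ((r - 1 : ℕ) : ZMod d) = 0 := (ZMod.natCast_eq_zero_iff _ d).mpr hdr
    have h2 : (r : ZMod d) = 1 := by
      have : r = (r - 1) + 1 := by omega
      rw [this, Nat.cast_add, h1, zero_add, Nat.cast_one]
    simp [h2]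
  have hrel : ∀ w ∈ rels n m r, FreeGroup.lift ![gx, gy] w = 1 := by
    intro w hw
    rcases hw with rfl | rfl | rfl
    · simp [hgx]
    · simp [hgy]
    · simp only [map_mul, map_inv, map_pow, FreeGroup.lift_apply_of]
      simp only [Matrix.cons_val_zero, Matrix.cons_val_one]
      rw [hgr, mul_comm gx⁻¹ gy, mul_assoc gy, inv_mul_cancel, mul_one, mul_inv_cancel]
  let φ : PresentedGroup (rels n m r) →* A := PresentedGroup.toGroup hrel
  let f : N →* A := φ.comp e.toMonoidHom
  have hφx : φ (pX n m r) = gx := by simp [φ, pX]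
  have hφy : φ (pY n m r) = gy := by simp [φ, pY]
  have hfs : Function.Surjective f := by
    intro a
    obtain ⟨⟨u, v⟩, rfl⟩ : ∃ uv : ZMod n × ZMod d, Multiplicative.ofAdd uv = a := ⟨a.toAdd, rfl⟩
    refine ⟨e.symm (pX n m r ^ (u.val) * pY n m r ^ (v.val)), ?_⟩
    show φ (e (e.symm _)) = _
    rw [MulEquiv.apply_symm_apply, map_mul, map_pow, map_pow, hφx, hφy]
    show Multiplicative.ofAdd (u.val • ((1 : ZMod n), (0 : ZMod d)) +
      v.val • ((0 : ZMod n), (1 : ZMod d))) = _
    congr 1
    simp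
  have hker : commutator N ≤ f.ker := Abelianization.commutator_subset_ker f
  have h1 := Subgroup.card_mul_index f.ker
  rw [Subgroup.index_ker, MonoidHom.range_eq_top.mpr hfs, Subgroup.card_top, hcard] at h1
  have hA : Nat.card A = n * d := by
    show Nat.card (ZMod n × ZMod d) = n * d
    rw [Nat.card_prod, Nat.card_zmod, Nat.card_zmod]
  rw [hA] at h1
  have h2 : m ∣ Nat.card f.ker := hcomm ▸ Subgroup.card_dvd_of_le hker
  obtain ⟨k, hk⟩ := h2
  rw [hk] at h1
  have h3 : k * d = 1 := by
    have : (m * n) * (k * d) = (m * n) * 1 := by nlinarith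
    exact Nat.eq_of_mul_eq_mul_left (by positivity) this
  exact (Nat.eq_one_of_mul_eq_one_left h3)

/-- A finite Z-group with the pq-condition has the Zassenhaus metacyclic presentation. -/
theorem exists_presentation [IsZGroup N] (hpq : PQ N) :
    ∃ n m r : ℕ, 0 < n ∧ 0 < m ∧ Nat.Coprime (r - 1) m ∧ Nat.Coprime n m ∧ 1 ≤ r ∧
      r ^ (n / ∏ p ∈ n.primeFactors, p) % m = 1 % m ∧
      Nonempty (N ≃* PresentedGroup (rels n m r)) := by
  have hcop := IsZGroup.coprime_commutator_index N
  obtain ⟨H, hH⟩ := Subgroup.exists_right_complement'_of_coprime hcop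
  have hCcyc : IsCyclic (commutator N) := IsZGroup.isCyclic_commutator N
  have hHcyc : IsCyclic H := by
    have h1 : Abelianization N ≃* H := hH.symm.QuotientMulEquiv
    exact isCyclic_of_surjective _ h1.surjective
  obtain ⟨y₀, hy₀⟩ := hCcyc.exists_generator
  obtain ⟨x₀, hx₀⟩ := hHcyc.exists_generator
  set y : N := (y₀ : N) with hy
  set x : N := (x₀ : N) with hx
  set m := Nat.card (commutator N) with hm_def
  set n := Nat.card H with hn_def
  have hm : 0 < m := Nat.card_pos
  have hn : 0 < n := Nat.card_pos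
  have hoy : orderOf y = m := by
    rw [hy, Subgroup.orderOf_coe, orderOf_eq_card_of_forall_mem_zpowers hy₀]
  have hox : orderOf x = n := by
    rw [hx, Subgroup.orderOf_coe, orderOf_eq_card_of_forall_mem_zpowers hx₀]
  have hym : y ^ m = 1 := by rw [← hoy]; exact pow_orderOf_eq_one y
  have hxn : x ^ n = 1 := by rw [← hox]; exact pow_orderOf_eq_one x
  have hcard : Nat.card N = n * m := by rw [mul_comm]; exact hH.card_mul_card.symm
  have hnm : Nat.Coprime n m := by
    have h1 : (commutator N).index = n := hH.symm.index_eq_card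
    rw [h1] at hcop
    exact hcop.symm
  have hCy : ∀ c ∈ commutator N, c ∈ Subgroup.zpowers y := by
    intro c hc
    obtain ⟨k, hk⟩ := Subgroup.mem_zpowers_iff.mp (hy₀ ⟨c, hc⟩)
    refine Subgroup.mem_zpowers_iff.mpr ⟨k, ?_⟩
    have := congrArg Subtype.val hk
    simpa using this
  have hHx : ∀ c ∈ H, c ∈ Subgroup.zpowers x := by
    intro c hc
    obtain ⟨k, hk⟩ := Subgroup.mem_zpowers_iff.mp (hx₀ ⟨c, hc⟩)
    refine Subgroup.mem_zpowers_iff.mpr ⟨k, ?_⟩
    have := congrArg Subtype.val hk
    simpa using this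
  have hgen : Subgroup.closure ({x, y} : Set N) = ⊤ := by
    rw [eq_top_iff, ← hH.sup_eq_top, sup_le_iff]
    constructor
    · intro c hc
      exact (Subgroup.zpowers_le.mpr (Subgroup.subset_closure (by simp))) (hCy c hc)
    · intro c hc
      exact (Subgroup.zpowers_le.mpr (Subgroup.subset_closure (by simp))) (hHx c hc)
  have hCn : (commutator N).Normal := inferInstance
  have hpow_of_mem : ∀ c ∈ commutator N, ∃ t : ℕ, c = y ^ t := by
    intro c hc
    have h1 := (mem_powers_iff_mem_zpowers (x := y) (y := c)).mpr (hCy c hc)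
    obtain ⟨t, ht⟩ := (Submonoid.mem_powers_iff c y).mp h1
    exact ⟨t, ht.symm⟩
  have hyC : y ∈ commutator N := y₀.2
  obtain ⟨t, ht⟩ := hpow_of_mem (x⁻¹ * y * x) (by
    have := hCn.conj_mem y hyC x⁻¹
    rwa [inv_inv] at this)
  set r := t % m + m with hr_def
  have hr : 1 ≤ r := by omega
  have hyr : y ^ r = y ^ t := by
    rw [hr_def, pow_add, hym, mul_one, ← pow_eq_pow_mod t hym]
  have hxy : x⁻¹ * y * x = y ^ r := by rw [hyr]; exact ht
  obtain ⟨e⟩ := nonempty_equiv_presented hn hm x y hxn hym hxy hgen hcard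
  refine ⟨n, m, r, hn, hm, coprime_of_commutator hn hm hr hcard rfl e, hnm, hr, ?_, ⟨e⟩⟩
  -- the congruence
  set ρ := ∏ p ∈ n.primeFactors, p with hρ_def
  have hρ : ρ ∣ n := Nat.prod_primeFactors_dvd n
  have hρ0 : 0 < ρ := Nat.pos_of_dvd_of_pos hρ hn
  set s := n / ρ with hs_def
  have hs : s ∣ n := Nat.div_dvd_of_dvd hρ
  have hs0 : s ≠ 0 := (Nat.div_pos (Nat.le_of_dvd hn hρ) hρ0).ne'
  have how : orderOf (x ^ s) = ρ := by
    rw [orderOf_pow_of_dvd hs0 (hox ▸ hs), hox, hs_def, Nat.div_div_self hρ hn.ne']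
  have hρcop : ρ.Coprime (orderOf y) := by
    rw [hoy]; exact Nat.Coprime.coprime_dvd_left hρ hnm
  obtain ⟨t', ht'⟩ := hpow_of_mem (x ^ s * y * (x ^ s)⁻¹) (hCn.conj_mem y hyC (x ^ s))
  have hwy : x ^ s * y = y * x ^ s :=
    commute_of_squarefree_order hpq ρ (x ^ s) how (squarefree_rad n) hρcop ⟨t', ht'⟩
  have h1 := pow_mul_pow_X hxy 1 s
  rw [pow_one, mul_one, ← hwy] at h1
  have h2 : y ^ 1 = y ^ (r ^ s) := by
    rw [pow_one]; exact mul_left_cancel h1
  have h3 := (pow_eq_pow_iff_modEq (x := y)).mp h2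
  rw [hoy] at h3
  exact h3.symm

end main

end Cfsg.Agent.Lib.Helper35.ZPres
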