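-- helper35: Frobenius complements satisfy the pq-condition (via S0041 on the centre of the kernel)
import Mathlib
import Cfsg.Agent.S0041
import Cfsg.Agent.Lib.Helper35.FrobStructure
import Cfsg.Agent.Lib.Helper35.ZGroupStruct
import Cfsg.Agent.Lib.Helper48.FourGroup

set_option autoImplicit false
set_option linter.unusedSectionVars false

namespace Cfsg.Agent.Lib.Helper35.ZPres

open Cfsg

/-- In a Frobenius group with complement `H`: an element of prime order of `H` normalizing
a subgroup of prime order of `H` centralizes it. -/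
theorem commute_of_frobenius {L : Type*} [Group L] [Finite L] (H : Subgroup L)
    (hH : IsFrobeniusComplement H) {a b : L} (ha : a ∈ H) (hb : b ∈ H)
    (hpa : (orderOf a).Prime) (hpb : (orderOf b).Prime)
    (hn : a * b * a⁻¹ ∈ Subgroup.zpowers b) : a * b = b * a := by
  obtain ⟨N, hNker, -, -⟩ := Cfsg.Agent.S0035.result H hH
  obtain ⟨hNn, -, hNnil, hN1, hfpf, -⟩ :=
    Cfsg.Agent.Lib.Helper35.frobenius_data H N hH hNker.symm
  by_cases hab : a ∈ Subgroup.zpowers b
  · obtain ⟨k, rfl⟩ := Subgroup.mem_zpowers_iff.mp hab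
    exact ((Commute.refl b).zpow_left k).eq
  -- the abelian normal subgroup V = Z(N)
  set V : Subgroup L := N ⊓ Subgroup.centralizer (N : Set L) with hV
  have hVn : V.Normal := inferInstance
  have hVc : IsMulCommutative V :=
    ⟨⟨fun u v => Subtype.ext (by
      rw [Subgroup.coe_mul, Subgroup.coe_mul]
      exact (Subgroup.mem_centralizer_iff.mp v.2.2) u u.2.1)⟩⟩
  have hV1 : V ≠ ⊥ := by
    have hnt : Nontrivial N := (Subgroup.nontrivial_iff_ne_bot N).mpr hN1
    have hc := Group.IsNilpotent.center_ne_bot (G := N)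
    obtain ⟨c', hc'⟩ := (Subgroup.ne_bot_iff_exists_ne_one (H := Subgroup.center N)).mp hc
    obtain ⟨c, hcZ, hc1⟩ : ∃ c : N, c ∈ Subgroup.center N ∧ c ≠ 1 :=
      ⟨(c' : N), c'.2, fun h1 => hc' (Subtype.ext h1)⟩
    intro hbot
    have hmem : ((c : N) : L) ∈ V := by
      refine ⟨c.2, ?_⟩
      show ((c : N) : L) ∈ Subgroup.centralizer (N : Set L)
      rw [Subgroup.mem_centralizer_iff]
      intro g hg
      have := (Subgroup.mem_center_iff.mp hcZ) ⟨g, hg⟩
      exact congrArg Subtype.val this
    rw [hbot, Subgroup.mem_bot] at hmem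
    exact hc1 (Subtype.ext hmem)
  -- the subgroup A = <a> <b>
  set A : Subgroup L := Subgroup.zpowers a ⊔ Subgroup.zpowers b with hA
  have hAH : A ≤ H := sup_le (Subgroup.zpowers_le.mpr ha) (Subgroup.zpowers_le.mpr hb)
  have hnorm : Subgroup.zpowers a ≤ Subgroup.normalizer ((Subgroup.zpowers b : Subgroup L) : Set L) := by
    rw [Subgroup.zpowers_le]
    apply Subgroup.mem_normalizer_fintype
    intro g hg
    obtain ⟨k, rfl⟩ := Subgroup.mem_zpowers_iff.mp hg
    have h1 : a * b ^ k * a⁻¹ = (a * b * a⁻¹) ^ k := by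
      have := map_zpow (MulAut.conj a) b k
      simpa only [MulAut.conj_apply] using this
    show a * b ^ k * a⁻¹ ∈ Subgroup.zpowers b
    rw [h1]
    exact Subgroup.zpow_mem _ hn k
  have hca : Nat.card (Subgroup.zpowers a) = orderOf a := Nat.card_zpowers a
  have hcb : Nat.card (Subgroup.zpowers b) = orderOf b := Nat.card_zpowers b
  have hdisj : Subgroup.zpowers a ⊓ Subgroup.zpowers b = ⊥ := by
    have h1 : Nat.card ↥(Subgroup.zpowers a ⊓ Subgroup.zpowers b) ∣ orderOf a :=
      hca ▸ Subgroup.card_dvd_of_le inf_le_left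
    rcases (Nat.dvd_prime hpa).mp h1 with h2 | h2
    · exact Subgroup.card_eq_one.mp h2
    · exfalso
      apply hab
      have h3 : Subgroup.zpowers a ⊓ Subgroup.zpowers b = Subgroup.zpowers a :=
        Subgroup.eq_of_le_of_card_ge inf_le_left (by rw [h2, hca])
      have : Subgroup.zpowers a ≤ Subgroup.zpowers b := h3 ▸ inf_le_right
      exact this (Subgroup.mem_zpowers a)
  have hAcard : Nat.card A = orderOf a * orderOf b := by
    rw [hA, Cfsg.Agent.Lib.Helper48.card_sup_of_le_normalizer_of_disjoint _ _ hnorm hdisj, hca,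
      hcb]
  have hAcyc : IsCyclic A := by
    apply Cfsg.Agent.S0041.result A V hV1
    · rw [Subgroup.normalizer_eq_top]; exact le_top
    · intro x hx hx1
      rw [eq_bot_iff, ← hfpf x (hAH hx) hx1]
      exact inf_le_inf_right _ inf_le_left
    · exact Or.inr ⟨_, _, hpa, hpb, hAcard⟩
  have hcomm : ∀ u v : A, u * v = v * u := fun u v => by
    have := hAcyc
    exact (IsCyclic.commGroup (α := A)).mul_comm u v
  have := hcomm ⟨a, Subgroup.mem_sup_left (Subgroup.mem_zpowers a)⟩
    ⟨b, Subgroup.mem_sup_right (Subgroup.mem_zpowers b)⟩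
  exact congrArg Subtype.val this

/-- a Frobenius complement satisfies the pq-condition -/
theorem pq_of_frobenius_complement {G : Type*} [Group G] [Finite G]
    (hFC : ∃ (L : Type) (_ : Group L) (_ : Finite L) (H : Subgroup L),
      Cfsg.IsFrobeniusComplement H ∧ Nonempty (G ≃* H)) : PQ G := by
  obtain ⟨L, _, _, H, hH, ⟨e⟩⟩ := hFC
  set ι : G →* L := H.subtype.comp e.toMonoidHom with hι
  have hιinj : Function.Injective ι := H.subtype_injective.comp e.injective
  have hιH : ∀ g, ι g ∈ H := fun g => (e g).2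
  intro a b hpa hpb hn
  apply hιinj
  rw [map_mul, map_mul]
  apply commute_of_frobenius H hH (hιH a) (hιH b)
  · rw [orderOf_injective ι hιinj]; exact hpa
  · rw [orderOf_injective ι hιinj]; exact hpb
  · obtain ⟨k, hk⟩ := Subgroup.mem_zpowers_iff.mp hn
    refine Subgroup.mem_zpowers_iff.mpr ⟨k, ?_⟩
    rw [← map_zpow, hk, map_mul, map_mul, map_inv]

/-- the pq-condition passes to subgroups -/
theorem PQ.subgroup {G : Type*} [Group G] (h : PQ G) (K : Subgroup G) : PQ K := by
  intro a b hpa hpb hn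
  apply Subtype.ext
  rw [Subgroup.coe_mul, Subgroup.coe_mul]
  apply h (a : G) (b : G)
  · rw [Subgroup.orderOf_coe]; exact hpa
  · rw [Subgroup.orderOf_coe]; exact hpb
  · obtain ⟨k, hk⟩ := Subgroup.mem_zpowers_iff.mp hn
    refine Subgroup.mem_zpowers_iff.mpr ⟨k, ?_⟩
    have := congrArg Subtype.val hk
    simpa using this

end Cfsg.Agent.Lib.Helper35.ZPres
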