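import Mathlib

set_option autoImplicit false

namespace Cfsg.Agent.Lib.Helper35

open scoped commutatorElement

/-- Simultaneous eigenvector for a list of commuting involutory endomorphisms acting on an
abelian subgroup of odd order. -/
theorem exists_eigen {Q : Type*} [Group Q] [Finite Q] (A : Subgroup Q)
    (hAc : ∀ a ∈ A, ∀ b ∈ A, a * b = b * a) (hodd : Odd (Nat.card A)) (hA : A ≠ ⊥)
    (T : List (Q →* Q))
    (hTA : ∀ t ∈ T, ∀ a ∈ A, t a ∈ A)
    (hTc : ∀ t ∈ T, ∀ t' ∈ T, ∀ a ∈ A, t (t' a) = t' (t a))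
    (hT2 : ∀ t ∈ T, ∀ a ∈ A, t (t a) = a) :
    ∃ a ∈ A, a ≠ 1 ∧ ∀ t ∈ T, t a = a ∨ t a = a⁻¹ := by
  induction T with
  | nil =>
    obtain ⟨a, ha1⟩ := (Subgroup.ne_bot_iff_exists_ne_one.1 hA)
    exact ⟨a, a.2, fun h => ha1 (Subtype.ext h), by simp⟩
  | cons t0 T' ih =>
    obtain ⟨a, haA, ha1, heig⟩ := ih (fun t ht => hTA t (List.mem_cons_of_mem _ ht))
      (fun t ht t' ht' => hTc t (List.mem_cons_of_mem _ ht) t' (List.mem_cons_of_mem _ ht'))
      (fun t ht => hT2 t (List.mem_cons_of_mem _ ht))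
    have ht0 : t0 ∈ t0 :: T' := List.mem_cons_self
    have hb : t0 a ∈ A := hTA t0 ht0 a haA
    have hcomm : a * t0 a = t0 a * a := hAc a haA _ hb
    have h22 : t0 (t0 a) = a := hT2 t0 ht0 a haA
    -- a² ≠ 1
    have hsq : a * a ≠ 1 := by
      intro h
      have h2 : orderOf a ∣ 2 := orderOf_dvd_of_pow_eq_one (by rw [pow_two]; exact h)
      have h3 : orderOf a ∣ Nat.card A := by
        have := Subgroup.orderOf_dvd_natCard A haA
        exact this
      have h4 : orderOf a ∣ 1 := by
        have hc : Nat.Coprime 2 (Nat.card A) := (Nat.coprime_two_left).2 hodd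
        have := Nat.dvd_gcd h2 h3
        rwa [hc] at this
      exact ha1 (orderOf_eq_one_iff.1 (Nat.dvd_one.1 h4))
    by_cases h1 : a * t0 a = 1
    · -- use a * (t0 a)⁻¹
      refine ⟨a * (t0 a)⁻¹, A.mul_mem haA (A.inv_mem hb), ?_, ?_⟩
      · intro h
        apply hsq
        have e1 : t0 a = a⁻¹ := (eq_inv_of_mul_eq_one_right h1)
        rw [e1, inv_inv] at h
        exact h
      · intro t ht
        rcases List.mem_cons.1 ht with rfl | ht'
        · right
          rw [map_mul, map_inv, h22, mul_inv_rev, inv_inv]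
        · have hc2 : t (t0 a) = t0 (t a) :=
            hTc t ht t0 ht0 a haA
          rcases heig t ht' with h | h
          · left
            rw [map_mul, map_inv, hc2, h]
          · right
            rw [map_mul, map_inv, hc2, h, map_inv, inv_inv, mul_inv_rev, inv_inv]
            exact (hAc _ (A.inv_mem haA) _ hb)
    · refine ⟨a * t0 a, A.mul_mem haA hb, h1, ?_⟩
      intro t ht
      rcases List.mem_cons.1 ht with rfl | ht'
      · left
        rw [map_mul, h22, hcomm]
      · have hc2 : t (t0 a) = t0 (t a) :=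
          hTc t ht t0 ht0 a haA
        rcases heig t ht' with h | h
        · left
          rw [map_mul, hc2, h]
        · right
          rw [map_mul, hc2, h, map_inv, mul_inv_rev]
          exact (hAc _ (A.inv_mem haA) _ (A.inv_mem hb))


/-- In a nilpotent group of odd order with a list of commuting involutory automorphisms there is
an invariant abelian normal subgroup containing its centralizer. -/
theorem exists_selfCentralizing_invariant {N : Type*} [Group N] [Finite N]
    (hnil : Group.IsNilpotent N) (hodd : Odd (Nat.card N)) (T : List (MulAut N))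
    (hTc : ∀ t ∈ T, ∀ t' ∈ T, ∀ x : N, t (t' x) = t' (t x))
    (hT2 : ∀ t ∈ T, ∀ x : N, t (t x) = x) :
    ∃ B : Subgroup N, B.Normal ∧ (∀ a ∈ B, ∀ b ∈ B, a * b = b * a) ∧
      (∀ t ∈ T, ∀ b ∈ B, t b ∈ B) ∧ Subgroup.centralizer (B : Set N) ≤ B := by
  classical
  let 𝓑 : Set (Subgroup N) :=
    {B | B.Normal ∧ (∀ a ∈ B, ∀ b ∈ B, a * b = b * a) ∧ (∀ t ∈ T, ∀ b ∈ B, t b ∈ B)}
  have hne : 𝓑.Nonempty := by
    refine ⟨⊥, inferInstance, ?_, ?_⟩
    · intro a ha b hb
      rw [Subgroup.mem_bot] at ha hb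
      rw [ha, hb]
    · intro t _ b hb
      rw [Subgroup.mem_bot] at hb ⊢
      rw [hb, map_one]
  obtain ⟨B, ⟨hBn, hBc, hBT⟩, hmax⟩ := (Set.toFinite 𝓑).exists_maximal hne
  refine ⟨B, hBn, hBc, hBT, ?_⟩
  by_contra hC
  have hCn : (Subgroup.centralizer (B : Set N)).Normal := Subgroup.normal_centralizer
  have hCT : ∀ t ∈ T, ∀ c ∈ Subgroup.centralizer (B : Set N),
      t c ∈ Subgroup.centralizer (B : Set N) := by
    intro t ht c hc
    rw [Subgroup.mem_centralizer_iff] at hc ⊢
    intro b hb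
    have hb' : t b ∈ B := hBT t ht b hb
    have h1 := hc (t b) hb'
    have h2 := congrArg t h1
    rw [map_mul, map_mul, hT2 t ht b] at h2
    exact h2
  let 𝒴 : Set (Subgroup N) :=
    {Y | Y.Normal ∧ (∀ t ∈ T, ∀ y ∈ Y, t y ∈ Y) ∧ Y ≤ Subgroup.centralizer (B : Set N) ∧ ¬ Y ≤ B}
  have hne2 : 𝒴.Nonempty := ⟨_, hCn, hCT, le_rfl, hC⟩
  obtain ⟨Y, ⟨hYn, hYT, hYC, hYB⟩, hmin⟩ := (Set.toFinite 𝒴).exists_minimal hne2
  have hYcomm : ⁅Y, (⊤ : Subgroup N)⁆ ≤ B := by
    by_contra hcon
    have hle : ⁅Y, (⊤ : Subgroup N)⁆ ≤ Y := Subgroup.commutator_le_left Y ⊤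
    have hmem : ⁅Y, (⊤ : Subgroup N)⁆ ∈ 𝒴 := by
      refine ⟨inferInstance, ?_, hle.trans hYC, hcon⟩
      intro t ht y hy
      have h1 : t y ∈ (⁅Y, (⊤ : Subgroup N)⁆).map t.toMonoidHom := Subgroup.mem_map_of_mem _ hy
      rw [Subgroup.map_commutator] at h1
      refine Subgroup.commutator_mono ?_ le_top h1
      rintro _ ⟨y', hy', rfl⟩
      exact hYT t ht y' hy'
    have heq : Y ≤ ⁅Y, (⊤ : Subgroup N)⁆ := hmin hmem hle
    have hl : ∀ n, Y ≤ (⊤ : Subgroup N).lowerCentralSeries n := by
      intro n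
      induction n with
      | zero => simp
      | succ n ih =>
        calc Y ≤ ⁅Y, (⊤ : Subgroup N)⁆ := heq
          _ ≤ ⁅(⊤ : Subgroup N).lowerCentralSeries n, (⊤ : Subgroup N)⁆ :=
            Subgroup.commutator_mono ih le_rfl
          _ = (⊤ : Subgroup N).lowerCentralSeries (n + 1) := rfl
    obtain ⟨n, hn⟩ := Subgroup.nilpotent_iff_lowerCentralSeries.1 hnil
    exact hYB ((hl n).trans (hn ▸ bot_le))
  -- the quotient
  let π : N →* N ⧸ B := QuotientGroup.mk' B
  have hπcent : ∀ y ∈ Y, ∀ x : N, π y * π x = π x * π y := by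
    intro y hy x
    rw [← map_mul, ← map_mul]
    apply (QuotientGroup.eq).2
    have h1 : ⁅y⁻¹, x⁻¹⁆ ∈ ⁅Y, (⊤ : Subgroup N)⁆ :=
      Subgroup.commutator_mem_commutator (Y.inv_mem hy) (Subgroup.mem_top _)
    have h2 : (y * x)⁻¹ * (x * y) = ⁅y⁻¹, x⁻¹⁆⁻¹ := by
      rw [commutatorElement_def]; group
    rw [h2]
    exact B.inv_mem (hYcomm h1)
  have hπsurj : Function.Surjective π := QuotientGroup.mk'_surjective B
  have hAc : ∀ a ∈ Y.map π, ∀ b ∈ Y.map π, a * b = b * a := by
    rintro _ ⟨y, hy, rfl⟩ _ ⟨y', _, rfl⟩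
    exact hπcent y hy y'
  have hoddA : Odd (Nat.card (Y.map π)) := by
    have h1 : Nat.card (Y.map π) ∣ Nat.card (N ⧸ B) := Subgroup.card_subgroup_dvd_card _
    have h2 : Nat.card (N ⧸ B) ∣ Nat.card N := Subgroup.card_quotient_dvd_card B
    exact Odd.of_dvd_nat hodd (h1.trans h2)
  have hA : Y.map π ≠ ⊥ := by
    intro h
    apply hYB
    intro y hy
    have : π y ∈ Y.map π := Subgroup.mem_map_of_mem _ hy
    rw [h, Subgroup.mem_bot] at this
    exact (QuotientGroup.eq_one_iff y).1 this
  let bar : MulAut N → (N ⧸ B →* N ⧸ B) := fun t =>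
    if h : ∀ b ∈ B, t b ∈ B then QuotientGroup.map B B t.toMonoidHom (fun b hb => h b hb)
    else MonoidHom.id _
  have hbar : ∀ t ∈ T, ∀ x : N, bar t (π x) = π (t x) := by
    intro t ht x
    have h : ∀ b ∈ B, t b ∈ B := hBT t ht
    simp only [bar, dif_pos h]
    rfl
  obtain ⟨a, haA, ha1, heig⟩ := exists_eigen (Y.map π) hAc hoddA hA (T.map bar)
    (by
      intro t' ht' a ha
      obtain ⟨t, ht, rfl⟩ := List.mem_map.1 ht'
      obtain ⟨y, hy, rfl⟩ := ha
      rw [hbar t ht]
      exact Subgroup.mem_map_of_mem _ (hYT t ht y hy))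
    (by
      intro t1 ht1 t2 ht2 a ha
      obtain ⟨t, ht, rfl⟩ := List.mem_map.1 ht1
      obtain ⟨t', ht', rfl⟩ := List.mem_map.1 ht2
      obtain ⟨y, hy, rfl⟩ := ha
      rw [hbar t' ht', hbar t ht, hbar t ht, hbar t' ht', hTc t ht t' ht'])
    (by
      intro t1 ht1 a ha
      obtain ⟨t, ht, rfl⟩ := List.mem_map.1 ht1
      obtain ⟨y, hy, rfl⟩ := ha
      rw [hbar t ht, hbar t ht, hT2 t ht])
  obtain ⟨m, hmY, rfl⟩ := haA
  have hmB : m ∉ B := fun h => ha1 ((QuotientGroup.eq_one_iff m).2 h)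
  have hmC : m ∈ Subgroup.centralizer (B : Set N) := hYC hmY
  -- the bigger subgroup
  have hBM : B ≤ B ⊔ Subgroup.zpowers m := le_sup_left
  have hmM : m ∈ B ⊔ Subgroup.zpowers m :=
    (le_sup_right : Subgroup.zpowers m ≤ _) (Subgroup.mem_zpowers m)
  have hMmem : B ⊔ Subgroup.zpowers m ∈ 𝓑 := by
    refine ⟨?_, ?_, ?_⟩
    · -- normal
      have hZn : (Subgroup.zpowers (π m)).Normal := by
        constructor
        intro z hz g
        obtain ⟨x, rfl⟩ := hπsurj g
        obtain ⟨k, rfl⟩ := Subgroup.mem_zpowers_iff.1 hz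
        have hc : Commute (π x) (π m) := (hπcent m hmY x).symm
        have hc' : Commute (π x) ((π m) ^ k) := hc.zpow_right k
        rw [hc'.eq, mul_inv_cancel_right]
        exact hz
      have hM : B ⊔ Subgroup.zpowers m = (Subgroup.zpowers (π m)).comap π := by
        rw [← MonoidHom.map_zpowers, Subgroup.comap_map_eq, QuotientGroup.ker_mk', sup_comm]
      rw [hM]
      exact hZn.comap π
    · -- abelian
      have hgen : ∀ g : N, (g ∈ B ∨ g = m) →
          B ⊔ Subgroup.zpowers m ≤ Subgroup.centralizer ({g} : Set N) := by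
        intro g hg
        apply sup_le
        · intro b hb
          rw [Subgroup.mem_centralizer_singleton_iff]
          rcases hg with hg | rfl
          · exact hBc b hb g hg
          · exact ((Subgroup.mem_centralizer_iff.1 hmC) b hb)
        · rw [Subgroup.zpowers_le, Subgroup.mem_centralizer_singleton_iff]
          rcases hg with hg | rfl
          · exact ((Subgroup.mem_centralizer_iff.1 hmC) g hg).symm
          · rfl
      intro x hx y hy
      have h1 : B ⊔ Subgroup.zpowers m ≤ Subgroup.centralizer ({y} : Set N) := by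
        apply sup_le
        · intro b hb
          rw [Subgroup.mem_centralizer_singleton_iff]
          have := hgen b (Or.inl hb) hy
          rw [Subgroup.mem_centralizer_singleton_iff] at this
          exact this.symm
        · rw [Subgroup.zpowers_le, Subgroup.mem_centralizer_singleton_iff]
          have := hgen m (Or.inr rfl) hy
          rw [Subgroup.mem_centralizer_singleton_iff] at this
          exact this.symm
      have := h1 hx
      rw [Subgroup.mem_centralizer_singleton_iff] at this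
      exact this
    · -- invariant
      intro t ht x hx
      have h1 : t x ∈ (B ⊔ Subgroup.zpowers m).map t.toMonoidHom := Subgroup.mem_map_of_mem _ hx
      rw [Subgroup.map_sup, MonoidHom.map_zpowers] at h1
      refine (sup_le ?_ ?_ : _ ≤ B ⊔ Subgroup.zpowers m) h1
      · rintro _ ⟨b, hb, rfl⟩
        exact hBM (hBT t ht b hb)
      · rw [Subgroup.zpowers_le]
        have h2 := heig (bar t) (List.mem_map.2 ⟨t, ht, rfl⟩)
        rw [hbar t ht] at h2
        rcases h2 with h2 | h2
        · have h3 : m⁻¹ * t m ∈ B := (QuotientGroup.eq).1 h2.symm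
          have : t m = m * (m⁻¹ * t m) := by group
          rw [MulEquiv.coe_toMonoidHom, this]
          exact Subgroup.mul_mem _ hmM (hBM h3)
        · rw [← map_inv] at h2
          have h3 : (m⁻¹)⁻¹ * t m ∈ B := (QuotientGroup.eq).1 h2.symm
          have : t m = m⁻¹ * ((m⁻¹)⁻¹ * t m) := by group
          rw [MulEquiv.coe_toMonoidHom, this]
          exact Subgroup.mul_mem _ (Subgroup.inv_mem _ hmM) (hBM h3)
  exact hmB (hmax hMmem hBM hmM)


theorem eq_one_of_mul_self_of_odd {G : Type*} [Group G] [Finite G] (hodd : Odd (Nat.card G))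
    {c : G} (h : c * c = 1) : c = 1 := by
  have h2 : orderOf c ∣ 2 := orderOf_dvd_of_pow_eq_one (by rw [pow_two]; exact h)
  have h3 : orderOf c ∣ Nat.card G := orderOf_dvd_natCard c
  have hc : Nat.Coprime 2 (Nat.card G) := (Nat.coprime_two_left).2 hodd
  have h4 := Nat.dvd_gcd h2 h3
  rw [hc] at h4
  exact orderOf_eq_one_iff.1 (Nat.dvd_one.1 h4)

theorem card_sup_of_commute_disjoint {G : Type*} [Group G] [Finite G] (H K : Subgroup G)
    (hc : ∀ h ∈ H, ∀ k ∈ K, h * k = k * h) (hd : H ⊓ K = ⊥) :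
    Nat.card (H ⊔ K : Subgroup G) = Nat.card H * Nat.card K := by
  have hcomm : ∀ (h : ↥H) (k : ↥K), Commute (H.subtype h) (K.subtype k) :=
    fun h k => hc h h.2 k k.2
  have hinj : Function.Injective (H.subtype.noncommCoprod K.subtype hcomm) := by
    rw [MonoidHom.noncommCoprod_injective]
    refine ⟨Subgroup.subtype_injective H, Subgroup.subtype_injective K, ?_⟩
    rw [Subgroup.range_subtype, Subgroup.range_subtype, disjoint_iff, hd]
  have hr : (H.subtype.noncommCoprod K.subtype hcomm).range = H ⊔ K := by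
    rw [MonoidHom.noncommCoprod_range, Subgroup.range_subtype, Subgroup.range_subtype]
  rw [← hr, ← Nat.card_congr (MonoidHom.ofInjective hinj).toEquiv, Nat.card_prod]

theorem card_eq_two_mul_card_fix {J N : Type*} [Group J] [Finite J] [Group N] (κ : J →* MulAut N)
    (K K' : Subgroup J) (w : N) (hw : w ≠ w⁻¹)
    (hK' : ∀ g, g ∈ K' ↔ g ∈ K ∧ κ g w = w)
    (heig : ∀ g ∈ K, κ g w = w ∨ κ g w = w⁻¹)
    (g0 : J) (hg0 : g0 ∈ K) (hinv : κ g0 w = w⁻¹) :
    Nat.card K = 2 * Nat.card K' := by
  have hle : K' ≤ K := fun g hg => ((hK' g).1 hg).1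
  have hidx : (K'.subgroupOf K).index = 2 := by
    rw [Subgroup.index_eq_two_iff]
    refine ⟨⟨g0, hg0⟩, fun b => ?_⟩
    have hb1 : κ ((b : J) * g0) w = (κ (b : J) w)⁻¹ := by
      rw [map_mul, MulAut.mul_apply, hinv, map_inv]
    rw [Subgroup.mem_subgroupOf, Subgroup.mem_subgroupOf, hK', hK']
    rcases heig b b.2 with hb | hb
    · right
      refine ⟨⟨b.2, hb⟩, ?_⟩
      rintro ⟨-, h⟩
      rw [Subgroup.coe_mul, hb1, hb] at h
      exact hw h.symm
    · left
      refine ⟨⟨K.mul_mem b.2 hg0, ?_⟩, ?_⟩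
      · rw [Subgroup.coe_mul, hb1, hb, inv_inv]
      · rintro ⟨-, h⟩
        rw [hb] at h
        exact hw h.symm
  have h1 := Subgroup.card_mul_index (K'.subgroupOf K)
  rw [hidx, Nat.card_congr (Subgroup.subgroupOfEquivOfLe hle).toEquiv] at h1
  rw [← h1, mul_comm]

/-- An elementary abelian 2-group acting faithfully on a nilpotent group of odd order has a
family of commuting, independent eigenvectors of prime order with trivial common stabilizer. -/
theorem exists_eigen_family {N J : Type*} [Group N] [Finite N] [Group J] [Finite J]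
    (hnil : Group.IsNilpotent N) (hodd : Odd (Nat.card N))
    (hJc : ∀ g h : J, g * h = h * g) (hJ2 : ∀ g : J, g * g = 1)
    (κ : J →* MulAut N) (hκ : Function.Injective κ) (n : ℕ) (hn : Nat.card J = 2 ^ n) :
    ∃ a : Fin n → N, (∀ i, (orderOf (a i)).Prime) ∧
      (∀ i, ∀ g : J, κ g (a i) = a i ∨ κ g (a i) = (a i)⁻¹) ∧
      (∀ i j, a i * a j = a j * a i) ∧
      Nat.card (⨆ i, Subgroup.zpowers (a i) : Subgroup N) = ∏ i, orderOf (a i) ∧
      ∀ g : J, (∀ i, κ g (a i) = a i) → g = 1 := by
  classical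
  have : Fintype J := Fintype.ofFinite J
  let T : List (MulAut N) := (Finset.univ : Finset J).toList.map κ
  have hT : ∀ t, t ∈ T ↔ ∃ g : J, κ g = t := by
    intro t
    simp [T]
  have hκκ : ∀ g h : J, ∀ x : N, κ g (κ h x) = κ h (κ g x) := by
    intro g h x
    rw [← MulAut.mul_apply, ← MulAut.mul_apply, ← map_mul, ← map_mul, hJc g h]
  have hκ2 : ∀ g : J, ∀ x : N, κ g (κ g x) = x := by
    intro g x
    rw [← MulAut.mul_apply, ← map_mul, hJ2 g, map_one, MulAut.one_apply]
  obtain ⟨B, hBn, hBc, hBT, hBC⟩ := exists_selfCentralizing_invariant hnil hodd T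
    (by
      intro t ht t' ht' x
      obtain ⟨g, rfl⟩ := (hT t).1 ht
      obtain ⟨h, rfl⟩ := (hT t').1 ht'
      exact hκκ g h x)
    (by
      intro t ht x
      obtain ⟨g, rfl⟩ := (hT t).1 ht
      exact hκ2 g x)
  have hBinv : ∀ g : J, ∀ b ∈ B, κ g b ∈ B := fun g b hb => hBT (κ g) ((hT _).2 ⟨g, rfl⟩) b hb
  -- faithful on B
  have hfix : ∀ g : J, (∀ b ∈ B, κ g b = b) → g = 1 := by
    intro g hg
    apply hκ
    rw [map_one]
    ext x
    rw [MulAut.one_apply]
    have hc : x⁻¹ * κ g x ∈ Subgroup.centralizer (B : Set N) := by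
      rw [Subgroup.mem_centralizer_iff]
      intro b hb
      have h1 : x * b * x⁻¹ ∈ B := hBn.conj_mem b hb x
      have h2 := hg _ h1
      rw [map_mul, map_mul, map_inv, hg b hb] at h2
      have h3 : x⁻¹ * (κ g x * b * (κ g x)⁻¹) * κ g x = x⁻¹ * (x * b * x⁻¹) * κ g x := by rw [h2]
      have h4 : x⁻¹ * (κ g x * b * (κ g x)⁻¹) * κ g x = x⁻¹ * κ g x * b := by group
      have h5 : x⁻¹ * (x * b * x⁻¹) * κ g x = b * (x⁻¹ * κ g x) := by group
      rw [h4, h5] at h3
      exact h3.symm
    have hcB : x⁻¹ * κ g x ∈ B := hBC hc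
    have h6 : κ g (x⁻¹ * κ g x) = x⁻¹ * κ g x := hg _ hcB
    rw [map_mul, map_inv, hκ2] at h6
    -- (κ g x)⁻¹ * x = x⁻¹ * κ g x
    have h7 : (x⁻¹ * κ g x) * (x⁻¹ * κ g x) = 1 := by
      nth_rewrite 1 [← h6]
      group
    have h8 := eq_one_of_mul_self_of_odd hodd h7
    exact (inv_mul_eq_one.1 h8).symm
  -- the induction
  have key : ∀ k, k ≤ n → ∃ a : Fin k → N, (∀ i, a i ∈ B) ∧ (∀ i, (orderOf (a i)).Prime) ∧
      (∀ i, ∀ g : J, κ g (a i) = a i ∨ κ g (a i) = (a i)⁻¹) ∧
      Nat.card (⨆ i, Subgroup.zpowers (a i) : Subgroup N) = ∏ i, orderOf (a i) ∧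
      ∃ K : Subgroup J, (∀ g, g ∈ K ↔ ∀ i, κ g (a i) = a i) ∧ Nat.card K * 2 ^ k = 2 ^ n := by
    intro k
    induction k with
    | zero =>
      intro _
      refine ⟨Fin.elim0, fun i => i.elim0, fun i => i.elim0, fun i => i.elim0, ?_, ⊤, ?_, ?_⟩
      · simp
      · intro g
        simp
      · rw [Subgroup.card_top, pow_zero, mul_one]
        exact hn
    | succ k ih =>
      intro hk
      obtain ⟨a, haB, hap, haeig, hacard, K, hK, hKcard⟩ := ih (Nat.le_of_succ_le hk)
      -- K is nontrivial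
      have hKne : K ≠ ⊥ := by
        intro h
        rw [h, Subgroup.card_bot, one_mul] at hKcard
        have := Nat.pow_right_injective (le_refl 2) hKcard
        omega
      obtain ⟨⟨g0, hg0K⟩, hg01⟩ := (Subgroup.ne_bot_iff_exists_ne_one.1 hKne)
      have hg0ne : g0 ≠ 1 := fun h => hg01 (Subtype.ext h)
      -- g0 moves some element of B
      have hmove : ∃ b ∈ B, κ g0 b ≠ b := by
        by_contra h
        push Not at h
        exact hg0ne (hfix g0 h)
      obtain ⟨b, hbB, hb⟩ := hmove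
      -- the subgroup of B inverted by g0
      let W : Subgroup N :=
        { carrier := {w | w ∈ B ∧ κ g0 w = w⁻¹}
          one_mem' := ⟨B.one_mem, by simp⟩
          mul_mem' := by
            rintro x y ⟨hx, hx'⟩ ⟨hy, hy'⟩
            refine ⟨B.mul_mem hx hy, ?_⟩
            rw [map_mul, hx', hy', mul_inv_rev]
            exact hBc _ (B.inv_mem hx) _ (B.inv_mem hy)
          inv_mem' := by
            rintro x ⟨hx, hx'⟩
            exact ⟨B.inv_mem hx, by rw [map_inv, hx']⟩ }
      have hWmem : ∀ x, x ∈ W ↔ x ∈ B ∧ κ g0 x = x⁻¹ := fun x => Iff.rfl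
      have hWB : W ≤ B := fun w hw => hw.1
      have hWne : W ≠ ⊥ := by
        intro h
        have hw0 : b * (κ g0 b)⁻¹ ∈ W := by
          refine ⟨B.mul_mem hbB (B.inv_mem (hBinv g0 b hbB)), ?_⟩
          rw [map_mul, map_inv, hκ2, mul_inv_rev, inv_inv]
        rw [h, Subgroup.mem_bot, mul_inv_eq_one] at hw0
        exact hb hw0.symm
      have hWc : ∀ x ∈ W, ∀ y ∈ W, x * y = y * x := fun x hx y hy => hBc x (hWB hx) y (hWB hy)
      have hWodd : Odd (Nat.card W) := Odd.of_dvd_nat hodd (Subgroup.card_subgroup_dvd_card W)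
      obtain ⟨w, hwW, hw1, hweig⟩ := exists_eigen W hWc hWodd hWne
        (T.map (fun t => t.toMonoidHom))
        (by
          intro t' ht' x hx
          obtain ⟨t, ht, rfl⟩ := List.mem_map.1 ht'
          obtain ⟨g, rfl⟩ := (hT t).1 ht
          refine ⟨hBinv g x hx.1, ?_⟩
          show κ g0 (κ g x) = (κ g x)⁻¹
          rw [hκκ g0 g x, hx.2, map_inv])
        (by
          intro t1 ht1 t2 ht2 x hx
          obtain ⟨t, ht, rfl⟩ := List.mem_map.1 ht1
          obtain ⟨t', ht', rfl⟩ := List.mem_map.1 ht2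
          obtain ⟨g, rfl⟩ := (hT t).1 ht
          obtain ⟨h, rfl⟩ := (hT t').1 ht'
          exact hκκ g h x)
        (by
          intro t1 ht1 x hx
          obtain ⟨t, ht, rfl⟩ := List.mem_map.1 ht1
          obtain ⟨g, rfl⟩ := (hT t).1 ht
          exact hκ2 g x)
      have hweig' : ∀ g : J, κ g w = w ∨ κ g w = w⁻¹ := fun g =>
        hweig _ (List.mem_map.2 ⟨κ g, (hT _).2 ⟨g, rfl⟩, rfl⟩)
      -- pass to prime order
      have hord1 : orderOf w ≠ 1 := fun h => hw1 (orderOf_eq_one_iff.1 h)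
      have hord0 : orderOf w ≠ 0 := (orderOf_pos w).ne'
      have hpp : ((orderOf w).minFac).Prime := Nat.minFac_prime hord1
      have hpd : (orderOf w).minFac ∣ orderOf w := Nat.minFac_dvd _
      have hw'ord : orderOf (w ^ (orderOf w / (orderOf w).minFac)) = (orderOf w).minFac :=
        orderOf_pow_orderOf_div hord0 hpd
      have hw'W : w ^ (orderOf w / (orderOf w).minFac) ∈ W := W.pow_mem hwW _
      have hw'eig : ∀ g : J, κ g (w ^ (orderOf w / (orderOf w).minFac)) =
          w ^ (orderOf w / (orderOf w).minFac) ∨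
          κ g (w ^ (orderOf w / (orderOf w).minFac)) =
          (w ^ (orderOf w / (orderOf w).minFac))⁻¹ := by
        intro g
        rcases hweig' g with h | h
        · left; rw [map_pow, h]
        · right; rw [map_pow, h, inv_pow]
      generalize w ^ (orderOf w / (orderOf w).minFac) = w' at hw'ord hw'W hw'eig
      have hw'ne : w' ≠ w'⁻¹ := by
        intro h
        have h1 : w' * w' = 1 := by
          nth_rewrite 2 [h]
          exact mul_inv_cancel w'
        have := eq_one_of_mul_self_of_odd hodd h1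
        rw [← orderOf_eq_one_iff, hw'ord] at this
        exact hpp.one_lt.ne' this
      -- the old span
      have hDB : (⨆ j, Subgroup.zpowers (a j) : Subgroup N) ≤ B :=
        iSup_le fun j => (Subgroup.zpowers_le).2 (haB j)
      have hDfix : ∀ x ∈ (⨆ j, Subgroup.zpowers (a j) : Subgroup N), κ g0 x = x := by
        have hle : (⨆ j, Subgroup.zpowers (a j) : Subgroup N) ≤
            MonoidHom.eqLocus (κ g0).toMonoidHom (MonoidHom.id N) := by
          refine iSup_le fun j => (Subgroup.zpowers_le).2 ?_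
          exact ((hK g0).1 hg0K j)
        intro x hx
        exact hle hx
      have hdisj : (⨆ j, Subgroup.zpowers (a j) : Subgroup N) ⊓ Subgroup.zpowers w' = ⊥ := by
        rw [eq_bot_iff]
        rintro x ⟨hx1, hx2⟩
        have h1 : κ g0 x = x := hDfix x hx1
        have h2 : κ g0 x = x⁻¹ := ((Subgroup.zpowers_le).2 hw'W hx2).2
        rw [h1] at h2
        have h3 : x * x = 1 := by
          nth_rewrite 2 [h2]
          exact mul_inv_cancel x
        exact (Subgroup.mem_bot).2 (eq_one_of_mul_self_of_odd hodd h3)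
      have hsup : (⨆ i, Subgroup.zpowers ((Fin.snoc a w' : Fin (k + 1) → N) i) : Subgroup N) =
          (⨆ j, Subgroup.zpowers (a j)) ⊔ Subgroup.zpowers w' := by
        apply le_antisymm
        · refine iSup_le fun i => ?_
          refine Fin.lastCases ?_ (fun j => ?_) i
          · rw [Fin.snoc_last]
            exact le_sup_right
          · rw [Fin.snoc_castSucc]
            exact le_sup_of_le_left (le_iSup (fun j => Subgroup.zpowers (a j)) j)
        · refine sup_le (iSup_le fun j => ?_) ?_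
          · have := le_iSup (fun i => Subgroup.zpowers ((Fin.snoc a w' : Fin (k + 1) → N) i))
              (Fin.castSucc j)
            simpa only [Fin.snoc_castSucc] using this
          · have := le_iSup (fun i => Subgroup.zpowers ((Fin.snoc a w' : Fin (k + 1) → N) i))
              (Fin.last k)
            simpa only [Fin.snoc_last] using this
      -- the new stabilizer
      let K' : Subgroup J :=
        { carrier := {g | g ∈ K ∧ κ g w' = w'}
          one_mem' := ⟨K.one_mem, by simp⟩
          mul_mem' := by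
            rintro x y ⟨hx, hx'⟩ ⟨hy, hy'⟩
            refine ⟨K.mul_mem hx hy, ?_⟩
            rw [map_mul, MulAut.mul_apply, hy', hx']
          inv_mem' := by
            rintro x ⟨hx, hx'⟩
            refine ⟨K.inv_mem hx, ?_⟩
            rw [map_inv, MulAut.inv_apply, MulEquiv.symm_apply_eq, hx'] }
      have hK'mem : ∀ g, g ∈ K' ↔ g ∈ K ∧ κ g w' = w' := fun g => Iff.rfl
      have hcardK : Nat.card K = 2 * Nat.card K' :=
        card_eq_two_mul_card_fix κ K K' w' hw'ne hK'mem (fun g _ => hw'eig g) g0 hg0K hw'W.2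
      refine ⟨Fin.snoc a w', ?_, ?_, ?_, ?_, K', ?_, ?_⟩
      · intro i
        refine Fin.lastCases ?_ (fun j => ?_) i
        · rw [Fin.snoc_last]; exact hWB hw'W
        · rw [Fin.snoc_castSucc]; exact haB j
      · intro i
        refine Fin.lastCases ?_ (fun j => ?_) i
        · rw [Fin.snoc_last, hw'ord]; exact hpp
        · rw [Fin.snoc_castSucc]; exact hap j
      · intro i
        refine Fin.lastCases ?_ (fun j => ?_) i
        · rw [Fin.snoc_last]; exact hw'eig
        · rw [Fin.snoc_castSucc]; exact haeig j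
      · rw [hsup, card_sup_of_commute_disjoint _ _
          (fun d hd z hz => hBc d (hDB hd) z (hWB ((Subgroup.zpowers_le).2 hw'W hz))) hdisj,
          hacard, Nat.card_zpowers, Fin.prod_univ_castSucc]
        simp only [Fin.snoc_castSucc, Fin.snoc_last]
      · intro g
        rw [hK'mem, hK]
        constructor
        · rintro ⟨h1, h2⟩ i
          refine Fin.lastCases ?_ (fun j => ?_) i
          · rw [Fin.snoc_last]; exact h2
          · rw [Fin.snoc_castSucc]; exact h1 j
        · intro h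
          refine ⟨fun j => ?_, ?_⟩
          · have := h (Fin.castSucc j)
            simpa only [Fin.snoc_castSucc] using this
          · have := h (Fin.last k)
            simpa only [Fin.snoc_last] using this
      · rw [pow_succ, ← hKcard, hcardK]
        ring
  obtain ⟨a, haB, hap, haeig, hacard, K, hK, hKcard⟩ := key n le_rfl
  refine ⟨a, hap, haeig, fun i j => hBc _ (haB i) _ (haB j), hacard, ?_⟩
  intro g hg
  have hK1 : Nat.card K = 1 := by
    have h2 : (2 : ℕ) ^ n ≠ 0 := by positivity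
    have : Nat.card K * 2 ^ n = 1 * 2 ^ n := by rw [hKcard, one_mul]
    exact Nat.eq_of_mul_eq_mul_right (Nat.pos_of_ne_zero h2) this
  have hKbot : K = ⊥ := Subgroup.card_eq_one.1 hK1
  have : g ∈ K := (hK g).2 hg
  rw [hKbot, Subgroup.mem_bot] at this
  exact this

end Cfsg.Agent.Lib.Helper35
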