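-- helper35: the norm argument for a Frobenius-like group `F ⋊ ⟨x⟩` acting on an abelian group
import Mathlib

set_option autoImplicit false

namespace Cfsg.Agent.Lib.Helper35

section

variable {D V : Type*} [Group D] [CommGroup V]

/-- **Norm lemma.** Let `F ⋊ ⟨x⟩` act on the finite abelian group `V` (via `φ`), with `x ^ j`
(`0 < j < n`) centralizing no non-identity element of `F`, `|F|` coprime to `|V|`, and all "norms"
`∏_{j<n} x^j • w` trivial. Then `F` acts trivially on `V`. -/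
theorem norm_lemma [Finite V] (φ : D →* MulAut V) (F : Subgroup D) [Finite F] (x : D)
    (hxF : ∀ k, k ∈ F ↔ x * k * x⁻¹ ∈ F) (n : ℕ) (hn : 0 < n)
    (hfpf : ∀ j, 0 < j → j < n → ∀ k ∈ F, k * x ^ j = x ^ j * k → k = 1)
    (hcop : (Nat.card F).Coprime (Nat.card V))
    (hH : ∀ w : V, ∏ j ∈ Finset.range n, φ (x ^ j) w = 1) :
    ∀ f ∈ F, ∀ v : V, φ f v = v := by
  classical
  let _ : Fintype ↥F := Fintype.ofFinite _
  -- powers of `x` normalize `F`
  have hxF' : ∀ j : ℕ, ∀ k, k ∈ F ↔ x ^ j * k * (x ^ j)⁻¹ ∈ F := by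
    intro j
    induction j with
    | zero => intro k; simp
    | succ j ih =>
      intro k
      rw [ih k, hxF (x ^ j * k * (x ^ j)⁻¹)]
      have : x * (x ^ j * k * (x ^ j)⁻¹) * x⁻¹ = x ^ (j + 1) * k * (x ^ (j + 1))⁻¹ := by
        rw [pow_succ']; group
      rw [this]
  -- the total product vanishes
  have hT : ∀ w : V, ∏ j ∈ Finset.range n, ∏ f : ↥F, φ ((f : D) * x ^ j) w = 1 := by
    intro w
    rw [Finset.prod_comm]
    apply Finset.prod_eq_one
    intro f _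
    have : ∀ j, φ ((f : D) * x ^ j) w = φ (f : D) (φ (x ^ j) w) := by
      intro j; rw [map_mul]; rfl
    simp_rw [this]
    rw [← map_prod, hH, map_one]
  -- the conjugates of `x ^ j` sweep out the coset `F x ^ j`
  have hconj : ∀ j, 0 < j → j < n → ∀ w : V,
      ∏ f : ↥F, φ ((f : D) * x ^ j) w = ∏ k : ↥F, φ ((k : D) * x ^ j * (k : D)⁻¹) w := by
    intro j hj0 hjn w
    have hmem : ∀ k : ↥F, (k : D) * (x ^ j * (k : D)⁻¹ * (x ^ j)⁻¹) ∈ F := by
      intro k
      exact F.mul_mem k.2 ((hxF' j _).mp (F.inv_mem k.2))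
    have hinj : Function.Injective
        (fun k : ↥F => (⟨(k : D) * (x ^ j * (k : D)⁻¹ * (x ^ j)⁻¹), hmem k⟩ : ↥F)) := by
      intro k k' hkk
      have h1 : (k : D) * (x ^ j * (k : D)⁻¹ * (x ^ j)⁻¹)
          = (k' : D) * (x ^ j * (k' : D)⁻¹ * (x ^ j)⁻¹) := congrArg Subtype.val hkk
      have h2 : ((k' : D)⁻¹ * (k : D)) * x ^ j = x ^ j * ((k' : D)⁻¹ * (k : D)) := by
        have h3 : (k : D) * x ^ j * (k : D)⁻¹ = (k' : D) * x ^ j * (k' : D)⁻¹ := by
          have := congrArg (fun t => t * x ^ j) h1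
          simpa [mul_assoc] using this
        calc ((k' : D)⁻¹ * (k : D)) * x ^ j
            = (k' : D)⁻¹ * ((k : D) * x ^ j * (k : D)⁻¹) * (k : D) := by group
          _ = (k' : D)⁻¹ * ((k' : D) * x ^ j * (k' : D)⁻¹) * (k : D) := by rw [h3]
          _ = x ^ j * ((k' : D)⁻¹ * (k : D)) := by group
      have h4 := hfpf j hj0 hjn _ (F.mul_mem (F.inv_mem k'.2) k.2) h2
      apply Subtype.ext
      calc (k : D) = (k' : D) * ((k' : D)⁻¹ * (k : D)) := by group
        _ = k' := by rw [h4, mul_one]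
    have hbij := Finite.injective_iff_bijective.mp hinj
    rw [← hbij.prod_comp (fun f : ↥F => φ ((f : D) * x ^ j) w)]
    apply Finset.prod_congr rfl
    intro k _
    have : (k : D) * (x ^ j * (k : D)⁻¹ * (x ^ j)⁻¹) * x ^ j = (k : D) * x ^ j * (k : D)⁻¹ := by
      group
    show φ ((k : D) * (x ^ j * (k : D)⁻¹ * (x ^ j)⁻¹) * x ^ j) w = _
    rw [this]
  -- norms over conjugates of `x` vanish as well
  have hHk : ∀ (k : D) (w : V), ∏ j ∈ Finset.range n, φ (k * x ^ j * k⁻¹) w = 1 := by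
    intro k w
    have : ∀ j, φ (k * x ^ j * k⁻¹) w = φ k (φ (x ^ j) (φ k⁻¹ w)) := by
      intro j; rw [map_mul, map_mul]; rfl
    simp_rw [this]
    rw [← map_prod, hH, map_one]
  -- hence the norm over `F` is the `|F|`-th power
  have hNF : ∀ w : V, ∏ f : ↥F, φ (f : D) w = w ^ Nat.card F := by
    intro w
    obtain ⟨m, rfl⟩ : ∃ m, n = m + 1 := ⟨n - 1, by omega⟩
    have h1 := hT w
    rw [Finset.prod_range_succ'] at h1
    have h2 : ∏ j ∈ Finset.range (m + 1), ∏ k : ↥F, φ ((k : D) * x ^ j * (k : D)⁻¹) w = 1 := by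
      rw [Finset.prod_comm]
      apply Finset.prod_eq_one
      intro k _
      exact hHk k w
    rw [Finset.prod_range_succ'] at h2
    have h3 : ∏ j ∈ Finset.range m, ∏ f : ↥F, φ ((f : D) * x ^ (j + 1)) w
        = ∏ j ∈ Finset.range m, ∏ k : ↥F, φ ((k : D) * x ^ (j + 1) * (k : D)⁻¹) w := by
      apply Finset.prod_congr rfl
      intro j hj
      rw [Finset.mem_range] at hj
      exact hconj (j + 1) (by omega) (by omega) w
    rw [h3] at h1
    have h4 : ∏ k : ↥F, φ ((k : D) * x ^ 0 * (k : D)⁻¹) w = w ^ Nat.card F := by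
      simp [Finset.prod_const, Finset.card_univ, Nat.card_eq_fintype_card]
    have h5 : ∏ f : ↥F, φ ((f : D) * x ^ 0) w = ∏ f : ↥F, φ (f : D) w := by simp
    rw [h4] at h2
    rw [h5] at h1
    rw [← h2] at h1
    exact mul_left_cancel h1
  -- conclusion
  intro f hf v
  have hfix : φ f (∏ f' : ↥F, φ (f' : D) v) = ∏ f' : ↥F, φ (f' : D) v := by
    rw [map_prod]
    have : ∀ f' : ↥F, φ f (φ (f' : D) v) = φ (((⟨f, hf⟩ : ↥F) * f' : ↥F) : D) v := by
      intro f'; rw [Subgroup.coe_mul, map_mul]; rfl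
    simp_rw [this]
    exact Fintype.prod_equiv (Equiv.mulLeft (⟨f, hf⟩ : ↥F)) _ _ (fun _ => rfl)
  rw [hNF, map_pow] at hfix
  have h6 : (φ f v * v⁻¹) ^ Nat.card F = 1 := by
    rw [mul_pow, hfix, inv_pow, mul_inv_cancel]
  have h7 : (φ f v * v⁻¹) ^ Nat.card V = 1 := pow_card_eq_one'
  have h8 : orderOf (φ f v * v⁻¹) ∣ Nat.gcd (Nat.card F) (Nat.card V) :=
    Nat.dvd_gcd (orderOf_dvd_of_pow_eq_one h6) (orderOf_dvd_of_pow_eq_one h7)
  rw [hcop.gcd_eq_one, Nat.dvd_one, orderOf_eq_one_iff] at h8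
  exact mul_inv_eq_one.mp h8

end

end Cfsg.Agent.Lib.Helper35
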