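import Mathlib
import Cfsg.Prelude.Def_Characters
import Cfsg.Agent.Lib.Helper3.PermChar

set_option autoImplicit false

namespace Cfsg.Agent.Lib.Helper35.PermCharTwo

open MulAction
open scoped Pointwise

section general

variable {G : Type*} [Group G] {X : Type*} [MulAction G X]

/-- Fixed points of `g` on embeddings `Fin m ↪ X` are embeddings into the fixed points. -/
noncomputable def fixedByEmbEquiv (m : ℕ) (g : G) :
    fixedBy (Fin m ↪ X) g ≃ (Fin m ↪ fixedBy X g) where
  toFun u := ⟨fun i => ⟨u.1 i, by
      have h : g • u.1 = u.1 := u.2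
      have := congrArg (fun v : Fin m ↪ X => v i) h
      simpa [Function.Embedding.smul_apply] using this⟩, by
    intro i j h
    apply u.1.injective
    simpa using congrArg Subtype.val h⟩
  invFun v := ⟨v.trans (Function.Embedding.subtype _), by
    show g • _ = _
    ext i
    simp only [Function.Embedding.smul_apply, Function.Embedding.trans_apply,
      Function.Embedding.subtype_apply]
    exact (v i).2⟩
  left_inv u := by ext i; rfl
  right_inv v := by ext i; rfl

theorem card_fixedBy_emb [Finite X] (m : ℕ) (g : G) :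
    Nat.card (fixedBy (Fin m ↪ X) g) = (Nat.card (fixedBy X g)).descFactorial m := by
  classical
  have : Fintype (fixedBy X g) := Fintype.ofFinite _
  rw [Nat.card_congr (fixedByEmbEquiv m g), Nat.card_eq_fintype_card,
    Fintype.card_embedding_eq, Fintype.card_fin, Nat.card_eq_fintype_card]

/-- A pretransitive action on a nonempty type has exactly one orbit. -/
theorem card_orbits_eq_one {Y : Type*} [MulAction G Y] [IsPretransitive G Y] [Nonempty Y] :
    Nat.card (orbitRel.Quotient G Y) = 1 := by
  have hsub : Subsingleton (orbitRel.Quotient G Y) := by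
    constructor
    intro a b
    obtain ⟨x, rfl⟩ := Quotient.mk''_surjective a
    obtain ⟨y, rfl⟩ := Quotient.mk''_surjective b
    apply Quotient.sound'
    obtain ⟨g, hg⟩ := exists_smul_eq G y x
    exact ⟨g, hg⟩
  have hne : Nonempty (orbitRel.Quotient G Y) := ⟨Quotient.mk'' (Classical.arbitrary Y)⟩
  exact Nat.card_unique

/-- Burnside for an arbitrary finite `G`-set, in `ℂ`. -/
theorem sum_card_fixedBy [Fintype G] {Y : Type*} [MulAction G Y] [Finite Y] :
    ∑ g : G, (Nat.card (fixedBy Y g) : ℂ) =
      (Nat.card (orbitRel.Quotient G Y) : ℂ) * (Nat.card G : ℂ) := by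
  classical
  have : Fintype Y := Fintype.ofFinite Y
  have : Fintype (orbitRel.Quotient G Y) := Fintype.ofFinite _
  have hB := MulAction.sum_card_fixedBy_eq_card_orbits_mul_card_group G Y
  have h1 : ∑ g : G, (Nat.card (fixedBy Y g) : ℂ) =
      ((∑ g : G, Fintype.card (fixedBy Y g) : ℕ) : ℂ) := by
    push_cast
    refine Finset.sum_congr rfl fun g _ => ?_
    rw [Nat.card_eq_fintype_card]
  rw [h1, hB]
  push_cast
  rw [Nat.card_eq_fintype_card, Nat.card_eq_fintype_card]

/-- Moments: for an `m`-pretransitive action on at least `m` points, the average of the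
`m`-th falling factorial of the number of fixed points is `1`. -/
theorem sum_descFactorial [Fintype G] [Finite X] (m : ℕ) (hm : IsMultiplyPretransitive G X m)
    (hX : m ≤ Nat.card X) :
    ∑ g : G, (((Nat.card (fixedBy X g)).descFactorial m : ℕ) : ℂ) = (Nat.card G : ℂ) := by
  classical
  have hne : Nonempty (Fin m ↪ X) := by
    have : Fintype X := Fintype.ofFinite X
    apply Function.Embedding.nonempty_of_card_le
    rw [Fintype.card_fin, ← Nat.card_eq_fintype_card]
    exact hX
  have h1 := sum_card_fixedBy (G := G) (Y := Fin m ↪ X)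
  rw [card_orbits_eq_one, Nat.cast_one, one_mul] at h1
  rw [← h1]
  refine Finset.sum_congr rfl fun g _ => ?_
  rw [card_fixedBy_emb]

/-- Fixed points on a product of two `G`-sets. -/
theorem card_fixedBy_prod' {Y Z : Type*} [MulAction G Y] [MulAction G Z] [Finite Y] [Finite Z]
    (g : G) :
    Nat.card (fixedBy (Y × Z) g) = Nat.card (fixedBy Y g) * Nat.card (fixedBy Z g) := by
  rw [← Nat.card_prod]
  apply Nat.card_congr
  refine ⟨fun p => (⟨p.1.1, ?_⟩, ⟨p.1.2, ?_⟩), fun q => ⟨(q.1.1, q.2.1), ?_⟩, ?_, ?_⟩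
  · have h : g • (p.1 : Y × Z) = p.1 := p.2
    show g • (p.1 : Y × Z).1 = (p.1 : Y × Z).1
    exact congrArg Prod.fst h
  · have h : g • (p.1 : Y × Z) = p.1 := p.2
    show g • (p.1 : Y × Z).2 = (p.1 : Y × Z).2
    exact congrArg Prod.snd h
  · show g • ((q.1.1 : Y), (q.2.1 : Z)) = ((q.1.1 : Y), (q.2.1 : Z))
    exact Prod.ext q.1.2 q.2.2
  · intro p; rfl
  · intro q; rfl

/-- The inner product of two permutation characters counts orbits on the product. -/
theorem sum_card_fixedBy_mul [Fintype G] {Y Z : Type*} [MulAction G Y] [MulAction G Z]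
    [Finite Y] [Finite Z] :
    ∑ g : G, (Nat.card (fixedBy Y g) : ℂ) * (Nat.card (fixedBy Z g) : ℂ) =
      (Nat.card (orbitRel.Quotient G (Y × Z)) : ℂ) * (Nat.card G : ℂ) := by
  rw [← sum_card_fixedBy (G := G) (Y := Y × Z)]
  refine Finset.sum_congr rfl fun g _ => ?_
  rw [card_fixedBy_prod']
  push_cast
  rfl

/-- Counting orbits by a complete invariant. -/
theorem card_orbits_of_invariant {Y : Type*} [MulAction G Y] {P : Type*} (inv : Y → P)
    (h1 : ∀ (g : G) (y : Y), inv (g • y) = inv y)
    (h2 : ∀ y y' : Y, inv y = inv y' → ∃ g : G, g • y = y')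
    (h3 : Function.Surjective inv) :
    Nat.card (orbitRel.Quotient G Y) = Nat.card P := by
  apply Nat.card_congr
  refine Equiv.ofBijective (Quotient.lift inv ?_) ⟨?_, ?_⟩
  · intro a b hab
    obtain ⟨g, rfl⟩ := hab
    exact h1 g b
  · intro a b hab
    obtain ⟨x, rfl⟩ := Quotient.mk''_surjective a
    obtain ⟨y, rfl⟩ := Quotient.mk''_surjective b
    apply Quotient.sound'
    obtain ⟨g, hg⟩ := h2 y x hab.symm
    exact ⟨g, hg⟩
  · intro p
    obtain ⟨y, rfl⟩ := h3 p
    exact ⟨Quotient.mk'' y, rfl⟩

end general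

end Cfsg.Agent.Lib.Helper35.PermCharTwo
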