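import Mathlib
import Cfsg.Agent.Lib.Helper35.PermCharTwoA

set_option autoImplicit false

namespace Cfsg.Agent.Lib.Helper35.PermCharTwo

open MulAction
open scoped Pointwise

section tuples

variable {G : Type*} [Group G] {X : Type*} [MulAction G X]

theorem exists_smul_two (h : IsMultiplyPretransitive G X 2) {a b a' b' : X}
    (hab : a ≠ b) (hab' : a' ≠ b') : ∃ g : G, g • a = a' ∧ g • b = b' :=
  (is_two_pretransitive_iff.mp h) hab hab'

theorem exists_smul_three (h : IsMultiplyPretransitive G X 3) {a b c a' b' c' : X}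
    (hab : a ≠ b) (hac : a ≠ c) (hbc : b ≠ c) (hab' : a' ≠ b') (hac' : a' ≠ c') (hbc' : b' ≠ c') :
    ∃ g : G, g • a = a' ∧ g • b = b' ∧ g • c = c' := by
  let x : Fin 3 ↪ X := ⟨![a, b, c], by
    intro i j hij
    fin_cases i <;> fin_cases j <;> simp_all⟩
  let y : Fin 3 ↪ X := ⟨![a', b', c'], by
    intro i j hij
    fin_cases i <;> fin_cases j <;> simp_all⟩
  obtain ⟨g, hg⟩ := exists_smul_eq G x y
  refine ⟨g, ?_, ?_, ?_⟩
  · have h0 : (g • x) 0 = y 0 := by rw [hg]
    rw [Function.Embedding.smul_apply] at h0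
    exact h0
  · have h0 : (g • x) 1 = y 1 := by rw [hg]
    rw [Function.Embedding.smul_apply] at h0
    exact h0
  · have h0 : (g • x) 2 = y 2 := by rw [hg]
    rw [Function.Embedding.smul_apply] at h0
    exact h0

theorem exists_smul_four (h : IsMultiplyPretransitive G X 4) {a b c d a' b' c' d' : X}
    (hab : a ≠ b) (hac : a ≠ c) (had : a ≠ d) (hbc : b ≠ c) (hbd : b ≠ d) (hcd : c ≠ d)
    (hab' : a' ≠ b') (hac' : a' ≠ c') (had' : a' ≠ d') (hbc' : b' ≠ c') (hbd' : b' ≠ d')
    (hcd' : c' ≠ d') :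
    ∃ g : G, g • a = a' ∧ g • b = b' ∧ g • c = c' ∧ g • d = d' := by
  let x : Fin 4 ↪ X := ⟨![a, b, c, d], by
    intro i j hij
    fin_cases i <;> fin_cases j <;> simp_all⟩
  let y : Fin 4 ↪ X := ⟨![a', b', c', d'], by
    intro i j hij
    fin_cases i <;> fin_cases j <;> simp_all⟩
  obtain ⟨g, hg⟩ := exists_smul_eq G x y
  refine ⟨g, ?_, ?_, ?_, ?_⟩
  · have h0 : (g • x) 0 = y 0 := by rw [hg]
    rw [Function.Embedding.smul_apply] at h0
    exact h0
  · have h0 : (g • x) 1 = y 1 := by rw [hg]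
    rw [Function.Embedding.smul_apply] at h0
    exact h0
  · have h0 : (g • x) 2 = y 2 := by rw [hg]
    rw [Function.Embedding.smul_apply] at h0
    exact h0
  · have h0 : (g • x) 3 = y 3 := by rw [hg]
    rw [Function.Embedding.smul_apply] at h0
    exact h0

/-- Four distinct points in a type with at least four elements. -/
theorem exists_four [Finite X] (hX : 4 ≤ Nat.card X) :
    ∃ a b c d : X, a ≠ b ∧ a ≠ c ∧ a ≠ d ∧ b ≠ c ∧ b ≠ d ∧ c ≠ d := by
  classical
  have : Fintype X := Fintype.ofFinite X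
  have hne : Nonempty (Fin 4 ↪ X) := by
    apply Function.Embedding.nonempty_of_card_le
    rw [Fintype.card_fin, ← Nat.card_eq_fintype_card]
    exact hX
  obtain ⟨e⟩ := hne
  refine ⟨e 0, e 1, e 2, e 3, ?_, ?_, ?_, ?_, ?_, ?_⟩ <;>
  · intro h
    have := e.injective h
    revert this
    decide

end tuples

end Cfsg.Agent.Lib.Helper35.PermCharTwo
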