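import Mathlib
import Cfsg.Agent.Lib.Helper35.PermCharTwoB

set_option autoImplicit false

namespace Cfsg.Agent.Lib.Helper35.PermCharTwo

open MulAction
open scoped Pointwise

section pairs

variable {G : Type*} [Group G] {X : Type*} [MulAction G X] [DecidableEq X]

/-- The two-element subset `{a, b}`. -/
def pair (a b : X) (h : a ≠ b) : Set.powersetCard X 2 :=
  ⟨{a, b}, by rw [Set.powersetCard.mem_iff]; exact Finset.card_pair h⟩

theorem coe_pair (a b : X) (h : a ≠ b) : ((pair a b h : Set.powersetCard X 2) : Finset X) = {a, b} :=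
  rfl

theorem smul_pair (g : G) (a b : X) (h : a ≠ b) :
    g • pair a b h = pair (g • a) (g • b) (fun h' => h (MulAction.injective g h')) := by
  apply Subtype.ext
  rw [Set.powersetCard.coe_smul, coe_pair, coe_pair, Finset.smul_finset_insert,
    Finset.smul_finset_singleton]

theorem exists_pair (t : Set.powersetCard X 2) : ∃ (a b : X) (h : a ≠ b), t = pair a b h := by
  have h2 : (t : Finset X).card = 2 := t.2
  obtain ⟨a, b, hab, ht⟩ := Finset.card_eq_two.mp h2
  exact ⟨a, b, hab, Subtype.ext ht⟩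

theorem pair_comm (a b : X) (h : a ≠ b) : pair a b h = pair b a h.symm := by
  apply Subtype.ext
  rw [coe_pair, coe_pair, Finset.pair_comm]

theorem mem_pair {a b c : X} (h : a ≠ b) : c ∈ (pair a b h : Finset X) ↔ c = a ∨ c = b := by
  rw [coe_pair]; simp

/-- If `c ∈ t` then `t = {c, b}`. -/
theorem exists_pair_of_mem (t : Set.powersetCard X 2) {c : X} (hc : c ∈ (t : Finset X)) :
    ∃ (b : X) (h : c ≠ b), t = pair c b h := by
  obtain ⟨a, b, hab, rfl⟩ := exists_pair t
  rcases (mem_pair hab).mp hc with rfl | rfl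
  · exact ⟨b, hab, rfl⟩
  · exact ⟨a, hab.symm, pair_comm _ _ _⟩

theorem smul_mem_smul_iff (g : G) (t : Set.powersetCard X 2) (c : X) :
    g • c ∈ ((g • t : Set.powersetCard X 2) : Finset X) ↔ c ∈ (t : Finset X) := by
  rw [Set.powersetCard.coe_smul, Finset.smul_mem_smul_finset_iff]

end pairs

section BX

variable {G : Type*} [Group G] {X : Type*} [MulAction G X] [DecidableEq X] [Finite X]

theorem card_orbits_BX (h3 : IsMultiplyPretransitive G X 3) (hX : 4 ≤ Nat.card X) :
    Nat.card (orbitRel.Quotient G (Set.powersetCard X 2 × X)) = 2 := by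
  have h2 : IsMultiplyPretransitive G X 2 :=
    isMultiplyPretransitive_of_le (n := 3) (by norm_num) (by omega)
  rw [card_orbits_of_invariant (G := G) (P := Bool)
    (fun p : Set.powersetCard X 2 × X => decide (p.2 ∈ (p.1 : Finset X)))]
  · simp
  · intro g p
    simp only [Prod.smul_fst, Prod.smul_snd, decide_eq_decide]
    exact smul_mem_smul_iff g p.1 p.2
  · rintro ⟨t, c⟩ ⟨t', c'⟩ hinv
    simp only [decide_eq_decide] at hinv
    by_cases hc : c ∈ (t : Finset X)
    · have hc' := hinv.mp hc
      obtain ⟨b, hb, rfl⟩ := exists_pair_of_mem t hc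
      obtain ⟨b', hb', rfl⟩ := exists_pair_of_mem t' hc'
      obtain ⟨g, hg1, hg2⟩ := exists_smul_two h2 hb hb'
      refine ⟨g, ?_⟩
      apply Prod.ext
      · simp only [Prod.smul_fst, smul_pair, hg1, hg2]
      · simpa using hg1
    · have hc' : c' ∉ (t' : Finset X) := fun h => hc (hinv.mpr h)
      obtain ⟨a, b, hab, rfl⟩ := exists_pair t
      obtain ⟨a', b', hab', rfl⟩ := exists_pair t'
      rw [mem_pair, not_or] at hc hc'
      obtain ⟨g, hg1, hg2, hg3⟩ := exists_smul_three h3 hab (Ne.symm hc.1) (Ne.symm hc.2) hab'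
        (Ne.symm hc'.1) (Ne.symm hc'.2)
      refine ⟨g, ?_⟩
      apply Prod.ext
      · simp only [Prod.smul_fst, smul_pair, hg1, hg2]
      · simpa using hg3
  · obtain ⟨a, b, c, d, hab, hac, had, hbc, hbd, hcd⟩ := exists_four hX
    intro v
    cases v
    · refine ⟨(pair a b hab, c), ?_⟩
      simp only [decide_eq_false_iff_not, mem_pair, not_or]
      exact ⟨hac.symm, hbc.symm⟩
    · refine ⟨(pair a b hab, a), ?_⟩
      simp [mem_pair]

end BX

end Cfsg.Agent.Lib.Helper35.PermCharTwo
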