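import Mathlib
import Cfsg.Agent.Lib.Helper35.PermCharTwoC

set_option autoImplicit false

namespace Cfsg.Agent.Lib.Helper35.PermCharTwo

open MulAction
open scoped Pointwise

section AB

variable {G : Type*} [Group G] {X : Type*} [MulAction G X]

theorem emb_two_smul_eq (p p' : Fin 2 ↪ X) (g : G) (h0 : g • p 0 = p' 0) (h1 : g • p 1 = p' 1) :
    g • p = p' := by
  ext i
  rw [Function.Embedding.smul_apply]
  fin_cases i
  · exact h0
  · exact h1

theorem emb_two_ne (p : Fin 2 ↪ X) : p 0 ≠ p 1 := by
  intro h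
  have := p.injective h
  revert this
  decide

variable [DecidableEq X]

/-- If `a, b ∈ t` with `a ≠ b` then `t = {a, b}`. -/
theorem eq_pair_of_mem (t : Set.powersetCard X 2) {a b : X} (hab : a ≠ b)
    (ha : a ∈ (t : Finset X)) (hb : b ∈ (t : Finset X)) : t = pair a b hab := by
  obtain ⟨c, hc, rfl⟩ := exists_pair_of_mem t ha
  rcases (mem_pair hc).mp hb with h | h
  · exact absurd h.symm hab
  · subst h; rfl

variable [Finite X]

theorem card_orbits_AB (h4 : IsMultiplyPretransitive G X 4) (hX : 4 ≤ Nat.card X) :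
    Nat.card (orbitRel.Quotient G ((Fin 2 ↪ X) × Set.powersetCard X 2)) = 4 := by
  have h3 : IsMultiplyPretransitive G X 3 :=
    isMultiplyPretransitive_of_le (n := 4) (by norm_num) (by omega)
  have h2 : IsMultiplyPretransitive G X 2 :=
    isMultiplyPretransitive_of_le (n := 4) (by norm_num) (by omega)
  rw [card_orbits_of_invariant (G := G) (P := Bool × Bool)
    (fun p : (Fin 2 ↪ X) × Set.powersetCard X 2 =>
      (decide (p.1 0 ∈ (p.2 : Finset X)), decide (p.1 1 ∈ (p.2 : Finset X))))]
  · simp
  · intro g p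
    simp only [Prod.smul_fst, Prod.smul_snd, Function.Embedding.smul_apply, Prod.mk.injEq]
    exact ⟨decide_eq_decide.mpr (smul_mem_smul_iff g p.2 (p.1 0)),
      decide_eq_decide.mpr (smul_mem_smul_iff g p.2 (p.1 1))⟩
  · rintro ⟨p, t⟩ ⟨p', t'⟩ hinv
    simp only [Prod.mk.injEq, decide_eq_decide] at hinv
    obtain ⟨hinv0, hinv1⟩ := hinv
    have hab := emb_two_ne p
    have hab' := emb_two_ne p'
    by_cases ha : p 0 ∈ (t : Finset X)
    · have ha' := hinv0.mp ha
      by_cases hb : p 1 ∈ (t : Finset X)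
      · have hb' := hinv1.mp hb
        have ht := eq_pair_of_mem t hab ha hb
        have ht' := eq_pair_of_mem t' hab' ha' hb'
        obtain ⟨g, hg1, hg2⟩ := exists_smul_two h2 hab hab'
        refine ⟨g, Prod.ext (emb_two_smul_eq p p' g hg1 hg2) ?_⟩
        simp only [Prod.smul_snd]
        rw [ht, ht', smul_pair]
        simp only [hg1, hg2]
      · have hb' : p' 1 ∉ (t' : Finset X) := fun h => hb (hinv1.mpr h)
        obtain ⟨c, hc, ht⟩ := exists_pair_of_mem t ha
        obtain ⟨c', hc', ht'⟩ := exists_pair_of_mem t' ha'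
        have hbc : p 1 ≠ c := by
          intro h; apply hb; rw [ht, mem_pair]; exact Or.inr h
        have hbc' : p' 1 ≠ c' := by
          intro h; apply hb'; rw [ht', mem_pair]; exact Or.inr h
        obtain ⟨g, hg1, hg2, hg3⟩ := exists_smul_three h3 hab hc hbc hab' hc' hbc'
        refine ⟨g, Prod.ext (emb_two_smul_eq p p' g hg1 hg2) ?_⟩
        simp only [Prod.smul_snd]
        rw [ht, ht', smul_pair]
        simp only [hg1, hg3]
    · have ha' : p' 0 ∉ (t' : Finset X) := fun h => ha (hinv0.mpr h)
      by_cases hb : p 1 ∈ (t : Finset X)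
      · have hb' := hinv1.mp hb
        obtain ⟨c, hc, ht⟩ := exists_pair_of_mem t hb
        obtain ⟨c', hc', ht'⟩ := exists_pair_of_mem t' hb'
        have hac : p 0 ≠ c := by
          intro h; apply ha; rw [ht, mem_pair]; exact Or.inr h
        have hac' : p' 0 ≠ c' := by
          intro h; apply ha'; rw [ht', mem_pair]; exact Or.inr h
        obtain ⟨g, hg1, hg2, hg3⟩ := exists_smul_three h3 hab hac hc hab' hac' hc'
        refine ⟨g, Prod.ext (emb_two_smul_eq p p' g hg1 hg2) ?_⟩
        simp only [Prod.smul_snd]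
        rw [ht, ht', smul_pair]
        simp only [hg2, hg3]
      · have hb' : p' 1 ∉ (t' : Finset X) := fun h => hb (hinv1.mpr h)
        obtain ⟨c, d, hcd, ht⟩ := exists_pair t
        obtain ⟨c', d', hcd', ht'⟩ := exists_pair t'
        rw [ht, mem_pair, not_or] at ha hb
        rw [ht', mem_pair, not_or] at ha' hb'
        obtain ⟨g, hg1, hg2, hg3, hg4⟩ := exists_smul_four h4 hab ha.1 ha.2 hb.1 hb.2 hcd
          hab' ha'.1 ha'.2 hb'.1 hb'.2 hcd'
        refine ⟨g, Prod.ext (emb_two_smul_eq p p' g hg1 hg2) ?_⟩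
        simp only [Prod.smul_snd]
        rw [ht, ht', smul_pair]
        simp only [hg3, hg4]
  · obtain ⟨a, b, c, d, hab, hac, had, hbc, hbd, hcd⟩ := exists_four hX
    rintro ⟨v, w⟩
    cases v <;> cases w
    · refine ⟨(Function.Embedding.embFinTwo hab, pair c d hcd), ?_⟩
      simp [mem_pair, hac, had, hbc, hbd, Function.Embedding.embFinTwo_apply_zero,
        Function.Embedding.embFinTwo_apply_one]
    · refine ⟨(Function.Embedding.embFinTwo hab, pair b c hbc), ?_⟩
      simp [mem_pair, hab, hac, Function.Embedding.embFinTwo_apply_zero,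
        Function.Embedding.embFinTwo_apply_one]
    · refine ⟨(Function.Embedding.embFinTwo hab, pair a c hac), ?_⟩
      simp [mem_pair, hab.symm, hbc, Function.Embedding.embFinTwo_apply_zero,
        Function.Embedding.embFinTwo_apply_one]
    · refine ⟨(Function.Embedding.embFinTwo hab, pair a b hab), ?_⟩
      simp [mem_pair, Function.Embedding.embFinTwo_apply_zero,
        Function.Embedding.embFinTwo_apply_one]

end AB

end Cfsg.Agent.Lib.Helper35.PermCharTwo
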