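import Mathlib
import Cfsg.Agent.Lib.Helper35.PermCharTwoD

set_option autoImplicit false

namespace Cfsg.Agent.Lib.Helper35.PermCharTwo

open MulAction
open scoped Pointwise

section BB

variable {G : Type*} [Group G] {X : Type*} [MulAction G X] [DecidableEq X]

/-- The two subsets have a common point. -/
def Meet (t u : Set.powersetCard X 2) : Prop := ∃ c : X, c ∈ (t : Finset X) ∧ c ∈ (u : Finset X)

theorem meet_smul_iff (g : G) (t u : Set.powersetCard X 2) : Meet (g • t) (g • u) ↔ Meet t u := by
  constructor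
  · rintro ⟨c, hc1, hc2⟩
    refine ⟨g⁻¹ • c, ?_, ?_⟩
    · rw [← smul_mem_smul_iff g, smul_inv_smul]; exact hc1
    · rw [← smul_mem_smul_iff g, smul_inv_smul]; exact hc2
  · rintro ⟨c, hc1, hc2⟩
    exact ⟨g • c, (smul_mem_smul_iff g t c).mpr hc1, (smul_mem_smul_iff g u c).mpr hc2⟩

open Classical in
/-- The invariant separating the three orbits on pairs of two-element subsets. -/
noncomputable def invBB (p : Set.powersetCard X 2 × Set.powersetCard X 2) : Fin 3 :=
  if p.1 = p.2 then 0 else if Meet p.1 p.2 then 1 else 2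

variable [Finite X]

theorem card_orbits_BB (h4 : IsMultiplyPretransitive G X 4) (hX : 4 ≤ Nat.card X) :
    Nat.card (orbitRel.Quotient G (Set.powersetCard X 2 × Set.powersetCard X 2)) = 3 := by
  have h3 : IsMultiplyPretransitive G X 3 :=
    isMultiplyPretransitive_of_le (n := 4) (by norm_num) (by omega)
  have h2 : IsMultiplyPretransitive G X 2 :=
    isMultiplyPretransitive_of_le (n := 4) (by norm_num) (by omega)
  rw [card_orbits_of_invariant (G := G) (P := Fin 3) invBB]
  · simp
  · intro g p
    unfold invBB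
    have he : (g • p).1 = (g • p).2 ↔ p.1 = p.2 := by simp
    have hm : Meet (g • p).1 (g • p).2 ↔ Meet p.1 p.2 := meet_smul_iff g p.1 p.2
    by_cases h1 : p.1 = p.2
    · rw [if_pos h1, if_pos (he.mpr h1)]
    · rw [if_neg h1, if_neg (fun h => h1 (he.mp h))]
      by_cases h2 : Meet p.1 p.2
      · rw [if_pos h2, if_pos (hm.mpr h2)]
      · rw [if_neg h2, if_neg (fun h => h2 (hm.mp h))]
  · -- completeness
    have key0 : ∀ t t' : Set.powersetCard X 2, ∃ g : G, g • t = t' := by
      intro t t'
      obtain ⟨a, b, hab, rfl⟩ := exists_pair t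
      obtain ⟨a', b', hab', rfl⟩ := exists_pair t'
      obtain ⟨g, hg1, hg2⟩ := exists_smul_two h2 hab hab'
      refine ⟨g, ?_⟩
      rw [smul_pair]
      simp only [hg1, hg2]
    have norm1 : ∀ t u : Set.powersetCard X 2, t ≠ u → Meet t u →
        ∃ (c b d : X) (hcb : c ≠ b) (hcd : c ≠ d), b ≠ d ∧ t = pair c b hcb ∧ u = pair c d hcd := by
      intro t u htu ⟨c, hc1, hc2⟩
      obtain ⟨b, hcb, ht⟩ := exists_pair_of_mem t hc1
      obtain ⟨d, hcd, hu⟩ := exists_pair_of_mem u hc2
      refine ⟨c, b, d, hcb, hcd, ?_, ht, hu⟩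
      intro hbd
      subst hbd
      exact htu (ht.trans hu.symm)
    have norm2 : ∀ t u : Set.powersetCard X 2, ¬ Meet t u →
        ∃ (a b c d : X) (hab : a ≠ b) (hcd : c ≠ d), a ≠ c ∧ a ≠ d ∧ b ≠ c ∧ b ≠ d ∧
          t = pair a b hab ∧ u = pair c d hcd := by
      intro t u hm
      obtain ⟨a, b, hab, rfl⟩ := exists_pair t
      obtain ⟨c, d, hcd, rfl⟩ := exists_pair u
      refine ⟨a, b, c, d, hab, hcd, ?_, ?_, ?_, ?_, rfl, rfl⟩
      · intro h; exact hm ⟨a, by simp [mem_pair], by simp [mem_pair, h]⟩
      · intro h; exact hm ⟨a, by simp [mem_pair], by simp [mem_pair, h]⟩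
      · intro h; exact hm ⟨b, by simp [mem_pair], by simp [mem_pair, h]⟩
      · intro h; exact hm ⟨b, by simp [mem_pair], by simp [mem_pair, h]⟩
    rintro ⟨t, u⟩ ⟨t', u'⟩ hinv
    unfold invBB at hinv
    simp only at hinv
    by_cases htu : t = u
    · rw [if_pos htu] at hinv
      have htu' : t' = u' := by
        by_contra hne
        rw [if_neg hne] at hinv
        split_ifs at hinv <;> simp at hinv
      subst htu
      subst htu'
      obtain ⟨g, hg⟩ := key0 t t'
      exact ⟨g, Prod.ext hg hg⟩
    · rw [if_neg htu] at hinv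
      have htu' : t' ≠ u' := by
        intro he
        rw [if_pos he] at hinv
        split_ifs at hinv <;> simp at hinv
      rw [if_neg htu'] at hinv
      by_cases hm : Meet t u
      · rw [if_pos hm] at hinv
        have hm' : Meet t' u' := by
          by_contra hne
          rw [if_neg hne] at hinv
          simp at hinv
        obtain ⟨c, b, d, hcb, hcd, hbd, rfl, rfl⟩ := norm1 t u htu hm
        obtain ⟨c', b', d', hcb', hcd', hbd', rfl, rfl⟩ := norm1 t' u' htu' hm'
        obtain ⟨g, hg1, hg2, hg3⟩ := exists_smul_three h3 hcb hcd hbd hcb' hcd' hbd'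
        refine ⟨g, Prod.ext ?_ ?_⟩
        · simp only [Prod.smul_fst, smul_pair, hg1, hg2]
        · simp only [Prod.smul_snd, smul_pair, hg1, hg3]
      · rw [if_neg hm] at hinv
        have hm' : ¬ Meet t' u' := by
          intro he
          rw [if_pos he] at hinv
          simp at hinv
        obtain ⟨a, b, c, d, hab, hcd, hac, had, hbc, hbd, rfl, rfl⟩ := norm2 t u hm
        obtain ⟨a', b', c', d', hab', hcd', hac', had', hbc', hbd', rfl, rfl⟩ := norm2 t' u' hm'
        obtain ⟨g, hg1, hg2, hg3, hg4⟩ := exists_smul_four h4 hab hac had hbc hbd hcd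
          hab' hac' had' hbc' hbd' hcd'
        refine ⟨g, Prod.ext ?_ ?_⟩
        · simp only [Prod.smul_fst, smul_pair, hg1, hg2]
        · simp only [Prod.smul_snd, smul_pair, hg3, hg4]
  · obtain ⟨a, b, c, d, hab, hac, had, hbc, hbd, hcd⟩ := exists_four hX
    have hne : pair a b hab ≠ pair a c hac := by
      intro h
      have h1 : b ∈ (pair a c hac : Finset X) := by rw [← h]; simp [mem_pair]
      rw [mem_pair] at h1
      rcases h1 with h1 | h1
      · exact hab h1.symm
      · exact hbc h1
    have hne2 : pair a b hab ≠ pair c d hcd := by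
      intro h
      have h1 : a ∈ (pair c d hcd : Finset X) := by rw [← h]; simp [mem_pair]
      rw [mem_pair] at h1
      rcases h1 with h1 | h1
      · exact hac h1
      · exact had h1
    intro v
    fin_cases v
    · refine ⟨(pair a b hab, pair a b hab), ?_⟩
      unfold invBB
      simp
    · refine ⟨(pair a b hab, pair a c hac), ?_⟩
      unfold invBB
      rw [if_neg hne, if_pos]
      · rfl
      · exact ⟨a, by simp [mem_pair], by simp [mem_pair]⟩
    · refine ⟨(pair a b hab, pair c d hcd), ?_⟩
      unfold invBB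
      rw [if_neg hne2, if_neg]
      · rfl
      · rintro ⟨x, hx1, hx2⟩
        rw [mem_pair] at hx1 hx2
        rcases hx1 with rfl | rfl <;> rcases hx2 with h | h
        · exact hac h
        · exact had h
        · exact hbc h
        · exact hbd h

end BB

end Cfsg.Agent.Lib.Helper35.PermCharTwo
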