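import Mathlib
import Cfsg.Agent.Lib.Helper35.PermCharTwoE
import Cfsg.Agent.Lib.Helper74.GenIrr

set_option autoImplicit false
set_option linter.unusedSectionVars false

namespace Cfsg.Agent.Lib.Helper35.PermCharTwo

open MulAction
open scoped Pointwise ComplexConjugate

section desc

theorem cast_desc_one (n : ℕ) : ((n.descFactorial 1 : ℕ) : ℂ) = n := by
  simp

theorem cast_desc_two (n : ℕ) : ((n.descFactorial 2 : ℕ) : ℂ) = n * (n - 1) := by
  rw [← descPochhammer_eval_eq_descFactorial ℂ n 2]
  simp [descPochhammer_succ_eval]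

theorem cast_desc_three (n : ℕ) : ((n.descFactorial 3 : ℕ) : ℂ) = n * (n - 1) * (n - 2) := by
  rw [← descPochhammer_eval_eq_descFactorial ℂ n 3]
  simp [descPochhammer_succ_eval]

theorem cast_desc_four (n : ℕ) :
    ((n.descFactorial 4 : ℕ) : ℂ) = n * (n - 1) * (n - 2) * (n - 3) := by
  rw [← descPochhammer_eval_eq_descFactorial ℂ n 4]
  simp [descPochhammer_succ_eval]

end desc

section sums

variable {G : Type*} [Group G] [Fintype G] {X : Type*} [MulAction G X] [DecidableEq X] [Finite X]

/-- number of fixed points -/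
noncomputable def fX (G : Type*) [Group G] (X : Type*) [MulAction G X] (g : G) : ℂ :=
  (Nat.card (fixedBy X g) : ℂ)

/-- number of fixed ordered pairs of distinct points -/
noncomputable def fA (G : Type*) [Group G] (X : Type*) [MulAction G X] (g : G) : ℂ :=
  (Nat.card (fixedBy (Fin 2 ↪ X) g) : ℂ)

/-- number of fixed two-element subsets -/
noncomputable def fB (G : Type*) [Group G] (X : Type*) [MulAction G X] [DecidableEq X] (g : G) : ℂ :=
  (Nat.card (fixedBy (Set.powersetCard X 2) g) : ℂ)

omit [Fintype G] [DecidableEq X] in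
theorem fA_eq (g : G) : fA G X g = fX G X g * (fX G X g - 1) := by
  unfold fA fX
  rw [card_fixedBy_emb, cast_desc_two]

variable (h4 : IsMultiplyPretransitive G X 4) (hX : 4 ≤ Nat.card X)
include h4 hX

theorem sum_m1 : ∑ g : G, fX G X g = (Nat.card G : ℂ) := by
  have h1 : IsMultiplyPretransitive G X 1 :=
    isMultiplyPretransitive_of_le (n := 4) (by norm_num) (by omega)
  have := sum_descFactorial (G := G) (X := X) 1 h1 (by omega)
  simp only [cast_desc_one] at this
  exact this

theorem sum_m2 : ∑ g : G, fX G X g * (fX G X g - 1) = (Nat.card G : ℂ) := by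
  have h2 : IsMultiplyPretransitive G X 2 :=
    isMultiplyPretransitive_of_le (n := 4) (by norm_num) (by omega)
  have := sum_descFactorial (G := G) (X := X) 2 h2 (by omega)
  simp only [cast_desc_two] at this
  exact this

theorem sum_m3 : ∑ g : G, fX G X g * (fX G X g - 1) * (fX G X g - 2) = (Nat.card G : ℂ) := by
  have h3 : IsMultiplyPretransitive G X 3 :=
    isMultiplyPretransitive_of_le (n := 4) (by norm_num) (by omega)
  have := sum_descFactorial (G := G) (X := X) 3 h3 (by omega)
  simp only [cast_desc_three] at this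
  exact this

theorem sum_m4 : ∑ g : G, fX G X g * (fX G X g - 1) * (fX G X g - 2) * (fX G X g - 3) =
    (Nat.card G : ℂ) := by
  have := sum_descFactorial (G := G) (X := X) 4 h4 (by omega)
  simp only [cast_desc_four] at this
  exact this

theorem sum_XX : ∑ g : G, fX G X g * fX G X g = 2 * (Nat.card G : ℂ) := by
  have e : ∀ g : G, fX G X g * fX G X g = fX G X g * (fX G X g - 1) + fX G X g := by
    intro g; ring
  rw [Finset.sum_congr rfl fun g _ => e g, Finset.sum_add_distrib, sum_m2 h4 hX, sum_m1 h4 hX]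
  ring

theorem sum_AX : ∑ g : G, fA G X g * fX G X g = 3 * (Nat.card G : ℂ) := by
  have e : ∀ g : G, fA G X g * fX G X g = fX G X g * (fX G X g - 1) * (fX G X g - 2) +
      2 * (fX G X g * (fX G X g - 1)) := by
    intro g; rw [fA_eq]; ring
  rw [Finset.sum_congr rfl fun g _ => e g, Finset.sum_add_distrib, ← Finset.mul_sum,
    sum_m3 h4 hX, sum_m2 h4 hX]
  ring

theorem sum_AA : ∑ g : G, fA G X g * fA G X g = 7 * (Nat.card G : ℂ) := by
  have e : ∀ g : G, fA G X g * fA G X g =
      fX G X g * (fX G X g - 1) * (fX G X g - 2) * (fX G X g - 3) +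
      4 * (fX G X g * (fX G X g - 1) * (fX G X g - 2)) +
      2 * (fX G X g * (fX G X g - 1)) := by
    intro g; rw [fA_eq]; ring
  rw [Finset.sum_congr rfl fun g _ => e g, Finset.sum_add_distrib, Finset.sum_add_distrib,
    ← Finset.mul_sum, ← Finset.mul_sum, sum_m4 h4 hX, sum_m3 h4 hX, sum_m2 h4 hX]
  ring

theorem sum_A : ∑ g : G, fA G X g = (Nat.card G : ℂ) := by
  rw [Finset.sum_congr rfl fun g _ => fA_eq g, sum_m2 h4 hX]

theorem sum_B : ∑ g : G, fB G X g = (Nat.card G : ℂ) := by
  have h2 : IsMultiplyPretransitive G X 2 :=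
    isMultiplyPretransitive_of_le (n := 4) (by norm_num) (by omega)
  have hpre : IsPretransitive G (Set.powersetCard X 2) :=
    Set.powersetCard.isPretransitive_of_isMultiplyPretransitive G h2
  obtain ⟨a, b, c, d, hab, -⟩ := exists_four hX
  have hne : Nonempty (Set.powersetCard X 2) := ⟨pair a b hab⟩
  have := sum_card_fixedBy (G := G) (Y := Set.powersetCard X 2)
  rw [card_orbits_eq_one, Nat.cast_one, one_mul] at this
  exact this

theorem sum_BX : ∑ g : G, fB G X g * fX G X g = 2 * (Nat.card G : ℂ) := by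
  have h3 : IsMultiplyPretransitive G X 3 :=
    isMultiplyPretransitive_of_le (n := 4) (by norm_num) (by omega)
  have := sum_card_fixedBy_mul (G := G) (Y := Set.powersetCard X 2) (Z := X)
  rw [card_orbits_BX h3 hX] at this
  unfold fB fX
  rw [this]
  norm_num

theorem sum_AB : ∑ g : G, fA G X g * fB G X g = 4 * (Nat.card G : ℂ) := by
  have := sum_card_fixedBy_mul (G := G) (Y := Fin 2 ↪ X) (Z := Set.powersetCard X 2)
  rw [card_orbits_AB h4 hX] at this
  unfold fA fB
  rw [this]
  norm_num

theorem sum_BB : ∑ g : G, fB G X g * fB G X g = 3 * (Nat.card G : ℂ) := by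
  have := sum_card_fixedBy_mul (G := G) (Y := Set.powersetCard X 2) (Z := Set.powersetCard X 2)
  rw [card_orbits_BB h4 hX] at this
  unfold fB
  rw [this]
  norm_num

end sums

end Cfsg.Agent.Lib.Helper35.PermCharTwo
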