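import Mathlib
import Cfsg.Agent.Lib.Helper35.PermCharTwoF
import Cfsg.Agent.Lib.Helper74.GenIrr
import Cfsg.Agent.Lib.Helper3.IrrBasis

set_option autoImplicit false
set_option linter.unusedSectionVars false

namespace Cfsg.Agent.Lib.Helper35.PermCharTwo

open MulAction Cfsg
open scoped Pointwise ComplexConjugate

section irr

universe u v

variable {G : Type u} [Group G] [Fintype G] {X : Type v} [MulAction G X] [DecidableEq X] [Finite X]

/-- `χ^{(n-2,2)}`: fixed two-element subsets minus fixed points. -/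
noncomputable def chi2 (G : Type u) [Group G] (X : Type v) [MulAction G X] [DecidableEq X] :
    G → ℂ := fun g => fB G X g - fX G X g

/-- `χ^{(n-2,1,1)}`. -/
noncomputable def chi3 (G : Type u) [Group G] (X : Type v) [MulAction G X] [DecidableEq X] :
    G → ℂ := fun g => fA G X g - fB G X g - fX G X g + 1

theorem isCharacter_fX : IsCharacter G (fX G X) :=
  Cfsg.Agent.Lib.Helper3.isCharacter_card_fixedBy

theorem isCharacter_fA : IsCharacter G (fA G X) :=
  Cfsg.Agent.Lib.Helper3.isCharacter_card_fixedBy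

theorem isCharacter_fB : IsCharacter G (fB G X) :=
  Cfsg.Agent.Lib.Helper3.isCharacter_card_fixedBy

theorem conj_fX (g : G) : conj (fX G X g) = fX G X g := by unfold fX; simp
theorem conj_fA (g : G) : conj (fA G X g) = fA G X g := by unfold fA; simp
theorem conj_fB (g : G) : conj (fB G X g) = fB G X g := by unfold fB; simp

theorem card_fixedBy_one (Y : Type*) [MulAction G Y] :
    Nat.card (fixedBy Y (1 : G)) = Nat.card Y := by
  rw [fixedBy_one_eq_univ]
  exact Nat.card_congr (Equiv.Set.univ Y)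

theorem fX_one : fX G X 1 = (Nat.card X : ℂ) := by
  unfold fX; rw [card_fixedBy_one]

theorem fB_one : fB G X 1 = ((Nat.card X).choose 2 : ℂ) := by
  unfold fB; rw [card_fixedBy_one, Set.powersetCard.card]

theorem fA_one : fA G X 1 = (Nat.card X : ℂ) * ((Nat.card X : ℂ) - 1) := by
  rw [fA_eq, fX_one]

theorem choose_two_cast (n : ℕ) : ((n.choose 2 : ℕ) : ℂ) = (n : ℂ) * ((n : ℂ) - 1) / 2 :=
  Nat.cast_choose_two ℂ n

variable (h4 : IsMultiplyPretransitive G X 4) (hX : 4 ≤ Nat.card X)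
include h4 hX

theorem classInner_chi2_self : classInner (chi2 G X) (chi2 G X) = 1 := by
  unfold classInner
  have e : ∀ g : G, chi2 G X g * conj (chi2 G X g) =
      fB G X g * fB G X g - 2 * (fB G X g * fX G X g) + fX G X g * fX G X g := by
    intro g
    unfold chi2
    rw [map_sub, conj_fB, conj_fX]
    ring
  rw [Finset.sum_congr rfl fun g _ => e g, Finset.sum_add_distrib, Finset.sum_sub_distrib,
    ← Finset.mul_sum, sum_BB h4 hX, sum_BX h4 hX, sum_XX h4 hX]
  have hG : (Nat.card G : ℂ) ≠ 0 := by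
    rw [Nat.card_eq_fintype_card]
    exact_mod_cast Fintype.card_ne_zero
  field_simp
  ring

theorem classInner_chi3_self : classInner (chi3 G X) (chi3 G X) = 1 := by
  unfold classInner
  have e : ∀ g : G, chi3 G X g * conj (chi3 G X g) =
      fA G X g * fA G X g + fB G X g * fB G X g + fX G X g * fX G X g + 1
      - 2 * (fA G X g * fB G X g) - 2 * (fA G X g * fX G X g) + 2 * fA G X g
      + 2 * (fB G X g * fX G X g) - 2 * fB G X g - 2 * fX G X g := by
    intro g
    unfold chi3
    rw [map_add, map_sub, map_sub, conj_fB, conj_fX, conj_fA, map_one]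
    ring
  rw [Finset.sum_congr rfl fun g _ => e g]
  simp only [Finset.sum_add_distrib, Finset.sum_sub_distrib, ← Finset.mul_sum]
  rw [sum_AA h4 hX, sum_BB h4 hX, sum_XX h4 hX, sum_AB h4 hX, sum_AX h4 hX, sum_A h4 hX,
    sum_BX h4 hX, sum_B h4 hX, sum_m1 h4 hX]
  simp only [Finset.sum_const, Finset.card_univ, nsmul_eq_mul, mul_one]
  rw [← Nat.card_eq_fintype_card]
  have hG : (Nat.card G : ℂ) ≠ 0 := by
    rw [Nat.card_eq_fintype_card]
    exact_mod_cast Fintype.card_ne_zero
  field_simp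
  ring

theorem isIrrCharacter_chi2 : IsIrrCharacter G (chi2 G X) := by
  have hcX := isCharacter_fX (G := G) (X := X)
  have hcB := isCharacter_fB (G := G) (X := X)
  apply Cfsg.Agent.Lib.Helper74.isIrrCharacter_of_int_coeff
  · exact Cfsg.Agent.Lib.Helper3.isClassFunction_sub
      (Cfsg.Agent.Lib.Helper3.IsCharacter.isClassFunction hcB)
      (Cfsg.Agent.Lib.Helper3.IsCharacter.isClassFunction hcX)
  · intro χ
    obtain ⟨n1, hn1⟩ := Cfsg.Agent.Lib.Helper78.IsCharacter.exists_nat_classInner hcB χ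
    obtain ⟨n2, hn2⟩ := Cfsg.Agent.Lib.Helper78.IsCharacter.exists_nat_classInner hcX χ
    refine ⟨(n1 : ℤ) - n2, ?_⟩
    have : chi2 G X = fB G X - fX G X := rfl
    rw [this, Cfsg.Agent.Lib.Helper3.classInner_sub_left, hn1, hn2]
    push_cast
    ring
  · exact classInner_chi2_self h4 hX
  · show 0 < (fB G X 1 - fX G X 1).re
    rw [fB_one, fX_one, choose_two_cast]
    have h : ((Nat.card X : ℂ) * ((Nat.card X : ℂ) - 1) / 2 - (Nat.card X : ℂ)) =
        (((Nat.card X : ℝ) * ((Nat.card X : ℝ) - 3) / 2 : ℝ) : ℂ) := by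
      push_cast; ring
    rw [h, Complex.ofReal_re]
    have h4' : (4 : ℝ) ≤ (Nat.card X : ℝ) := by exact_mod_cast hX
    have : 0 < (Nat.card X : ℝ) * ((Nat.card X : ℝ) - 3) := by nlinarith
    linarith

theorem isIrrCharacter_chi3 : IsIrrCharacter G (chi3 G X) := by
  have hcX := isCharacter_fX (G := G) (X := X)
  have hcB := isCharacter_fB (G := G) (X := X)
  have hcA := isCharacter_fA (G := G) (X := X)
  have hc1 : IsIrrCharacter G (fun _ : G => (1 : ℂ)) := Cfsg.Agent.Lib.Helper78.isIrrCharacter_one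
  have hfun : chi3 G X = fA G X - fB G X - fX G X + fun _ => 1 := rfl
  apply Cfsg.Agent.Lib.Helper74.isIrrCharacter_of_int_coeff
  · rw [hfun]
    exact Cfsg.Agent.Lib.Helper3.isClassFunction_add
      (Cfsg.Agent.Lib.Helper3.isClassFunction_sub
        (Cfsg.Agent.Lib.Helper3.isClassFunction_sub
          (Cfsg.Agent.Lib.Helper3.IsCharacter.isClassFunction hcA)
          (Cfsg.Agent.Lib.Helper3.IsCharacter.isClassFunction hcB))
        (Cfsg.Agent.Lib.Helper3.IsCharacter.isClassFunction hcX))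
      (Cfsg.Agent.Lib.Helper3.IsIrrCharacter.isClassFunction hc1)
  · intro χ
    obtain ⟨n0, hn0⟩ := Cfsg.Agent.Lib.Helper78.IsCharacter.exists_nat_classInner hcA χ
    obtain ⟨n1, hn1⟩ := Cfsg.Agent.Lib.Helper78.IsCharacter.exists_nat_classInner hcB χ
    obtain ⟨n2, hn2⟩ := Cfsg.Agent.Lib.Helper78.IsCharacter.exists_nat_classInner hcX χ
    obtain ⟨n3, hn3⟩ := Cfsg.Agent.Lib.Helper78.IsCharacter.exists_nat_classInner
      (Cfsg.Agent.Lib.Helper3.IsIrrCharacter.isCharacter hc1) χ
    refine ⟨(n0 : ℤ) - n1 - n2 + n3, ?_⟩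
    rw [hfun, Cfsg.Agent.Lib.Helper3.classInner_add_left,
      Cfsg.Agent.Lib.Helper3.classInner_sub_left, Cfsg.Agent.Lib.Helper3.classInner_sub_left,
      hn0, hn1, hn2, hn3]
    push_cast
    ring
  · exact classInner_chi3_self h4 hX
  · show 0 < (fA G X 1 - fB G X 1 - fX G X 1 + 1).re
    rw [fB_one, fX_one, fA_one, choose_two_cast]
    have h : ((Nat.card X : ℂ) * ((Nat.card X : ℂ) - 1) -
        (Nat.card X : ℂ) * ((Nat.card X : ℂ) - 1) / 2 - (Nat.card X : ℂ) + 1) =
        ((((Nat.card X : ℝ) - 1) * ((Nat.card X : ℝ) - 2) / 2 : ℝ) : ℂ) := by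
      push_cast; ring
    rw [h, Complex.ofReal_re]
    have h4' : (4 : ℝ) ≤ (Nat.card X : ℝ) := by exact_mod_cast hX
    have : 0 < ((Nat.card X : ℝ) - 1) * ((Nat.card X : ℝ) - 2) := by nlinarith
    linarith

end irr

end Cfsg.Agent.Lib.Helper35.PermCharTwo
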