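import Mathlib
import Cfsg.Agent.Lib.Helper35.PermCharTwoG

set_option autoImplicit false
set_option linter.unusedSectionVars false

namespace Cfsg.Agent.Lib.Helper35.PermCharTwo

open MulAction Cfsg
open scoped Pointwise ComplexConjugate

section values

universe u v

variable {G : Type u} [Group G] {X : Type v} [MulAction G X] [DecidableEq X] [Finite X]

/-- If `g` has no 2-cycles then a `g`-stable two-element subset consists of fixed points. -/
theorem fixed_of_pair_fixed (g : G) (hno : ∀ a : X, g • g • a = a → g • a = a)
    (t : Set.powersetCard X 2) (ht : g • t = t) {a : X} (ha : a ∈ (t : Finset X)) : g • a = a := by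
  obtain ⟨b, hab, rfl⟩ := exists_pair_of_mem t ha
  have h1 : g • a ∈ ((g • pair a b hab : Set.powersetCard X 2) : Finset X) :=
    (smul_mem_smul_iff g _ a).mpr ha
  have h2 : g • b ∈ ((g • pair a b hab : Set.powersetCard X 2) : Finset X) :=
    (smul_mem_smul_iff g _ b).mpr (by rw [mem_pair]; exact Or.inr rfl)
  rw [ht, mem_pair] at h1 h2
  rcases h1 with h1 | h1
  · exact h1
  · rcases h2 with h2 | h2
    · apply hno
      rw [h1, h2]
    · exfalso
      apply hab
      apply MulAction.injective g
      show g • a = g • b
      rw [h1, h2]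

/-- For `g` without 2-cycles, the number of `g`-stable two-element subsets is `C(f, 2)`. -/
theorem card_fixedBy_pairs (g : G) (hno : ∀ a : X, g • g • a = a → g • a = a) :
    Nat.card (fixedBy (Set.powersetCard X 2) g) = (Nat.card (fixedBy X g)).choose 2 := by
  classical
  rw [← Set.powersetCard.card (α := fixedBy X g) (n := 2)]
  symm
  let φ : Set.powersetCard (fixedBy X g) 2 → fixedBy (Set.powersetCard X 2) g := fun s =>
    ⟨Set.powersetCard.map 2 (Function.Embedding.subtype _) s, by
      show g • _ = _
      apply Subtype.ext
      rw [Set.powersetCard.coe_smul, Set.powersetCard.val_map]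
      ext c
      rw [Finset.mem_smul_finset]
      constructor
      · rintro ⟨y, hy, rfl⟩
        obtain ⟨z, hz, rfl⟩ := Finset.mem_map.mp hy
        have hz2 : g • (z : X) = z := z.2
        simp only [Function.Embedding.subtype_apply]
        rw [hz2]
        exact Finset.mem_map.mpr ⟨z, hz, rfl⟩
      · intro hc
        obtain ⟨z, hz, rfl⟩ := Finset.mem_map.mp hc
        have hz2 : g • (z : X) = z := z.2
        exact ⟨z, Finset.mem_map.mpr ⟨z, hz, rfl⟩, by simpa using hz2⟩⟩
  apply Nat.card_congr
  refine Equiv.ofBijective φ ⟨?_, ?_⟩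
  · intro s s' h
    have h1 : (Set.powersetCard.map 2 (Function.Embedding.subtype _) s : Set.powersetCard X 2) =
        Set.powersetCard.map 2 (Function.Embedding.subtype _) s' := congrArg Subtype.val h
    have h2 := congrArg Subtype.val h1
    rw [Set.powersetCard.val_map, Set.powersetCard.val_map] at h2
    exact Subtype.ext (Finset.map_injective _ h2)
  · rintro ⟨t, ht⟩
    have ht' : g • t = t := ht
    have hall : ∀ a ∈ (t : Finset X), g • a = a := fun a ha => fixed_of_pair_fixed g hno t ht' ha
    let s0 : Finset (fixedBy X g) := (t : Finset X).subtype (fun a => a ∈ fixedBy X g)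
    have hmap : s0.map (Function.Embedding.subtype _) = (t : Finset X) := by
      rw [Finset.subtype_map]
      apply Finset.filter_true_of_mem
      intro a ha
      exact hall a ha
    have hcard : s0.card = 2 := by
      rw [← Finset.card_map (Function.Embedding.subtype _), hmap]
      exact t.2
    refine ⟨⟨s0, hcard⟩, ?_⟩
    apply Subtype.ext
    apply Subtype.ext
    show ((Set.powersetCard.map 2 (Function.Embedding.subtype _) ⟨s0, hcard⟩ :
      Set.powersetCard X 2) : Finset X) = t
    rw [Set.powersetCard.val_map]
    exact hmap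

theorem chi2_eq_zero (g : G) (hno : ∀ a : X, g • g • a = a → g • a = a)
    (hf : Nat.card (fixedBy X g) = 0 ∨ Nat.card (fixedBy X g) = 3) : chi2 G X g = 0 := by
  unfold chi2 fB fX
  rw [card_fixedBy_pairs g hno]
  rcases hf with h | h <;> rw [h] <;> norm_num [Nat.choose]

theorem chi3_eq_zero (g : G) (hno : ∀ a : X, g • g • a = a → g • a = a)
    (hf : Nat.card (fixedBy X g) = 1 ∨ Nat.card (fixedBy X g) = 2) : chi3 G X g = 0 := by
  unfold chi3
  rw [fA_eq]
  unfold fB fX
  rw [card_fixedBy_pairs g hno]
  rcases hf with h | h <;> rw [h] <;> norm_num [Nat.choose]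

end values

end Cfsg.Agent.Lib.Helper35.PermCharTwo
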