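import Mathlib

set_option autoImplicit false
set_option linter.unusedSectionVars false

namespace Cfsg.Agent.Lib.Helper35.PermCharTwo

open Equiv

section elements

/-- No fixed points and no 2-cycles. -/
def Free {α : Type*} (σ : Perm α) : Prop := ∀ a, σ a ≠ a ∧ σ (σ a) ≠ a

theorem free_prodCongrRight {α β : Type*} (c : Perm β) (hc : Free c) :
    Free (prodCongrRight (fun _ : α => c)) := by
  rintro ⟨a, b⟩
  simp only [prodCongrRight_apply, ne_eq, Prod.mk.injEq, true_and]
  exact hc b

theorem free_sumCongr {α β : Type*} (x : Perm α) (y : Perm β) (hx : Free x) (hy : Free y) :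
    Free (Perm.sumCongr x y) := by
  rintro (a | b)
  · simp only [Perm.sumCongr_apply, Sum.map_inl, ne_eq, Sum.inl.injEq]
    exact hx a
  · simp only [Perm.sumCongr_apply, Sum.map_inr, ne_eq, Sum.inr.injEq]
    exact hy b

theorem prodCongrRight_pow {α β : Type*} (c : Perm β) (k : ℕ) :
    (prodCongrRight (fun _ : α => c) : Perm (α × β)) ^ k = prodCongrRight (fun _ : α => c ^ k) := by
  induction k with
  | zero =>
    ext ⟨a, b⟩ <;> simp
  | succ k ih =>
    rw [pow_succ, ih]
    ext ⟨a, b⟩ <;> simp [pow_succ]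

theorem sumCongr_pow {α β : Type*} (x : Perm α) (y : Perm β) (k : ℕ) :
    (Perm.sumCongr x y) ^ k = Perm.sumCongr (x ^ k) (y ^ k) := by
  induction k with
  | zero => simp
  | succ k ih => rw [pow_succ, ih, Perm.sumCongr_mul, pow_succ, pow_succ]

theorem free_rot3 : Free (finRotate 3) := by unfold Free; decide
theorem free_rot4 : Free (finRotate 4) := by unfold Free; decide
theorem free_rot8 : Free (finRotate 8) := by unfold Free; decide
theorem rot3_pow : (finRotate 3) ^ 3 = 1 := by decide
theorem rot4_pow : (finRotate 4) ^ 8 = 1 := by decide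
theorem rot8_pow : (finRotate 8) ^ 8 = 1 := by decide

/-- The element `id ⊕ y` transported to `Fin n`. -/
noncomputable def mkElt {n r : ℕ} {Y : Type} (e : Fin r ⊕ Y ≃ Fin n) (y : Perm Y) : Perm (Fin n) :=
  e.permCongrHom (Perm.sumCongr (1 : Perm (Fin r)) y)

theorem mkElt_apply {n r : ℕ} {Y : Type} (e : Fin r ⊕ Y ≃ Fin n) (y : Perm Y) (i : Fin n) :
    mkElt e y i = e ((Perm.sumCongr (1 : Perm (Fin r)) y) (e.symm i)) := by
  unfold mkElt
  rw [Equiv.permCongrHom_coe, Equiv.permCongr_apply]

theorem mkElt_pow {n r : ℕ} {Y : Type} (e : Fin r ⊕ Y ≃ Fin n) (y : Perm Y) (k : ℕ)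
    (hy : y ^ k = 1) : (mkElt e y) ^ k = 1 := by
  unfold mkElt
  rw [← map_pow, sumCongr_pow, hy, one_pow]
  have : Perm.sumCongr (1 : Perm (Fin r)) (1 : Perm Y) = 1 := by
    ext a <;> rcases a with a | a <;> simp
  rw [this, map_one]

theorem mkElt_ne_one {n r : ℕ} {Y : Type} [Nonempty Y] (e : Fin r ⊕ Y ≃ Fin n) (y : Perm Y)
    (hy : Free y) : mkElt e y ≠ 1 := by
  intro h
  obtain ⟨b⟩ := ‹Nonempty Y›
  have h1 := congrArg (fun σ : Perm (Fin n) => σ (e (Sum.inr b))) h
  simp only [mkElt_apply, Equiv.symm_apply_apply, Perm.sumCongr_apply, Sum.map_inr,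
    Perm.coe_one, id_eq, EmbeddingLike.apply_eq_iff_eq, Sum.inr.injEq] at h1
  exact (hy b).1 h1

theorem mkElt_sign {n r : ℕ} {Y : Type} [Fintype Y] [DecidableEq Y] (e : Fin r ⊕ Y ≃ Fin n)
    (y : Perm Y) : Perm.sign (mkElt e y) = Perm.sign y := by
  unfold mkElt
  rw [Equiv.permCongrHom_coe, Perm.sign_permCongr, Perm.sign_sumCongr]
  simp

theorem mkElt_no_two_cycle {n r : ℕ} {Y : Type} (e : Fin r ⊕ Y ≃ Fin n) (y : Perm Y)
    (hy : Free y) (i : Fin n) (h : mkElt e y (mkElt e y i) = i) : mkElt e y i = i := by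
  rw [mkElt_apply, mkElt_apply, Equiv.symm_apply_apply] at h
  rw [mkElt_apply]
  rcases hi : e.symm i with a | b
  · rw [hi] at h
    simp only [Perm.sumCongr_apply, Sum.map_inl, Perm.coe_one, id_eq]
    rw [← hi, Equiv.apply_symm_apply]
  · exfalso
    rw [hi] at h
    simp only [Perm.sumCongr_apply, Sum.map_inr] at h
    have h2 : Sum.inr (y (y b)) = e.symm i := by rw [← h, Equiv.symm_apply_apply]
    rw [hi] at h2
    exact (hy b).2 (Sum.inr_injective h2)

theorem mkElt_card_fixed {n r : ℕ} {Y : Type} (e : Fin r ⊕ Y ≃ Fin n) (y : Perm Y)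
    (hy : Free y) : Nat.card {i : Fin n // mkElt e y i = i} = r := by
  have : Nat.card (Fin r) = r := by simp
  refine Eq.trans ?_ this
  apply Nat.card_congr
  refine ⟨fun i => ?_, fun a => ⟨e (Sum.inl a), ?_⟩, ?_, ?_⟩
  · -- the fixed point is in the left summand
    have hi : ∃ a, e.symm i.1 = Sum.inl a := by
      rcases hh : e.symm i.1 with a | b
      · exact ⟨a, rfl⟩
      · exfalso
        have h := i.2
        rw [mkElt_apply, hh] at h
        simp only [Perm.sumCongr_apply, Sum.map_inr] at h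
        have h2 : Sum.inr (y b) = e.symm i.1 := by rw [← h, Equiv.symm_apply_apply]
        rw [hh] at h2
        exact (hy b).1 (Sum.inr_injective h2)
    exact hi.choose
  · rw [mkElt_apply, Equiv.symm_apply_apply]
    simp
  · intro i
    apply Subtype.ext
    simp only
    generalize_proofs hi
    rw [← hi.choose_spec, Equiv.apply_symm_apply]
  · intro a
    simp only
    generalize_proofs hi
    have h1 := hi.choose_spec
    have h2 : e.symm (e (Sum.inl a)) = Sum.inl a := Equiv.symm_apply_apply e _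
    exact (Sum.inl_injective (h2.symm.trans h1)).symm

end elements

end Cfsg.Agent.Lib.Helper35.PermCharTwo
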