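-- helper35: a finite abelian group of odd order on which the quaternion relations act
-- (two endomorphisms with squares `-1` that anticommute) has square order.
import Mathlib

set_option autoImplicit false

namespace Cfsg.Agent.Lib.Helper35

/-- first isomorphism theorem, counted inside a subgroup -/
@[to_additive addCard_eq_card_inf_ker_mul_card_map]
theorem card_eq_card_inf_ker_mul_card_map {A : Type*} [Group A] [Finite A] {B : Type*} [Group B]
    (f : A →* B) (S : Subgroup A) :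
    Nat.card S = Nat.card ↥(S ⊓ f.ker) * Nat.card ↥(S.map f) := by
  have h1 := Subgroup.card_mul_index (f.domRestrict S).ker
  rw [Subgroup.index_ker, MonoidHom.domRestrict_range, MonoidHom.ker_domRestrict] at h1
  rw [← h1]
  congr 1
  have : (S ⊓ f.ker).subgroupOf S = f.ker.subgroupOf S := by
    rw [inf_comm, Subgroup.inf_subgroupOf_right]
  rw [← this]
  exact (Nat.card_congr (Subgroup.subgroupOfEquivOfLe (inf_le_left : S ⊓ f.ker ≤ S)).toEquiv)

section additive

variable {A : Type*} [AddCommGroup A] [Finite A] (α β : A →+ A)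

/-- the elementary abelian case -/
theorem isSquare_card_of_forall_nsmul_eq_zero
    (hα : ∀ v, α (α v) = -v) (hβ : ∀ v, β (β v) = -v) (hαβ : ∀ v, β (α v) = -(α (β v)))
    (S : AddSubgroup A) (hSα : ∀ v ∈ S, α v ∈ S) (hSβ : ∀ v ∈ S, β v ∈ S)
    (r : ℕ) [hr : Fact r.Prime] (hr2 : r ≠ 2) (hSr : ∀ v ∈ S, r • v = 0) :
    IsSquare (Nat.card S) := by
  obtain ⟨x, y, -, -, hxy⟩ := Nat.sq_add_sq_modEq r (r - 1)
  have hdvd : r ∣ x ^ 2 + y ^ 2 + 1 := by
    have h1 : x ^ 2 + y ^ 2 + 1 ≡ r - 1 + 1 [MOD r] := hxy.add_right 1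
    have h2 : r - 1 + 1 = r := Nat.sub_add_cancel hr.out.one_le
    rw [h2] at h1
    exact (Nat.modEq_zero_iff_dvd).mp (h1.trans (Nat.modEq_zero_iff_dvd.mpr dvd_rfl))
  obtain ⟨m, hm⟩ := hdvd
  -- the involution u
  let u : A →+ A := AddMonoidHom.mk' (fun v => x • α v + y • β v)
    (by intro a b; simp only [map_add, smul_add]; abel)
  have hu : ∀ v, u v = x • α v + y • β v := fun _ => rfl
  have hβαβ : ∀ v, β (α (β v)) = α v := by
    intro v
    rw [hαβ, hβ, map_neg, neg_neg]
  have huS : ∀ v ∈ S, u v ∈ S := by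
    intro v hv
    rw [hu]
    exact S.add_mem (S.nsmul_mem (hSα v hv) x) (S.nsmul_mem (hSβ v hv) y)
  have huu : ∀ v ∈ S, u (u v) = v := by
    intro v hv
    have h1 : u (u v) = -((x ^ 2 + y ^ 2) • v) := by
      simp only [hu, map_add, map_nsmul, hα, hβ, hαβ]
      module
    have h2 : (x ^ 2 + y ^ 2 + 1) • v = 0 := by
      rw [hm, mul_comm, mul_smul, hSr v hv, smul_zero]
    rw [add_smul, one_smul] at h2
    rw [h1]
    exact neg_eq_of_add_eq_zero_right h2
  -- the map γ = αβ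
  let γ : A →+ A := α.comp β
  have hγ : ∀ v, γ v = α (β v) := fun _ => rfl
  have hγS : ∀ v ∈ S, γ v ∈ S := fun v hv => hSα _ (hSβ v hv)
  have hγγ : ∀ v, γ (γ v) = -v := by
    intro v
    rw [hγ, hγ, hβαβ, hα]
  have hγinj : Function.Injective γ := by
    intro v w h
    have := congrArg γ h
    rw [hγγ, hγγ] at this
    exact neg_injective this
  have hγu : ∀ v, u (γ v) = -(γ (u v)) := by
    intro v
    simp only [hu, hγ, map_add, map_nsmul, hα, hβ, hβαβ, hαβ, map_neg]
    module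
  -- f = u - 1, g = u + 1
  let f : A →+ A := AddMonoidHom.mk' (fun v => u v - v)
    (by intro a b; simp only [map_add]; abel)
  let g : A →+ A := AddMonoidHom.mk' (fun v => u v + v)
    (by intro a b; simp only [map_add]; abel)
  have hf : ∀ v, f v = u v - v := fun _ => rfl
  have hg : ∀ v, g v = u v + v := fun _ => rfl
  have hfker : ∀ v, v ∈ f.ker ↔ u v = v := by
    intro v; rw [AddMonoidHom.mem_ker, hf, sub_eq_zero]
  have hgker : ∀ v, v ∈ g.ker ↔ u v = -v := by
    intro v; rw [AddMonoidHom.mem_ker, hg, add_eq_zero_iff_eq_neg]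
  have hrodd : Odd r := hr.out.odd_of_ne_two hr2
  obtain ⟨c, hc⟩ := hrodd
  have hmap : S.map f = S ⊓ g.ker := by
    apply le_antisymm
    · rintro _ ⟨v, hv, rfl⟩
      refine ⟨?_, ?_⟩
      · show f v ∈ S
        rw [hf]; exact S.sub_mem (huS v hv) hv
      · show f v ∈ g.ker
        rw [hgker, hf, map_sub, huu v hv]; abel
    · rintro w ⟨hwS, hwg⟩
      have hwg' : u w = -w := (hgker w).mp hwg
      refine ⟨c • w, S.nsmul_mem hwS c, ?_⟩
      show f (c • w) = w
      have h2 : (2 * c + 1) • w = 0 := by rw [← hc]; exact hSr w hwS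
      rw [hf, map_nsmul, hwg']
      have : w = w - (2 * c + 1) • w := by rw [h2, sub_zero]
      conv_rhs => rw [this]
      module
  have hcard1 : Nat.card S = Nat.card ↥(S ⊓ f.ker) * Nat.card ↥(S ⊓ g.ker) := by
    rw [addCard_eq_card_inf_ker_mul_card_map f S, hmap]
  have hle1 : Nat.card ↥(S ⊓ f.ker) ≤ Nat.card ↥(S ⊓ g.ker) := by
    have h1 : (S ⊓ f.ker).map γ ≤ S ⊓ g.ker := by
      rintro _ ⟨v, ⟨hvS, hvf⟩, rfl⟩
      refine ⟨hγS v hvS, ?_⟩
      show γ v ∈ g.ker
      rw [hgker, hγu, (hfker v).mp hvf]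
    calc Nat.card ↥(S ⊓ f.ker) = Nat.card ↥((S ⊓ f.ker).map γ) :=
          (AddSubgroup.card_map_of_injective hγinj).symm
      _ ≤ Nat.card ↥(S ⊓ g.ker) := AddSubgroup.card_le_of_le h1
  have hle2 : Nat.card ↥(S ⊓ g.ker) ≤ Nat.card ↥(S ⊓ f.ker) := by
    have h1 : (S ⊓ g.ker).map γ ≤ S ⊓ f.ker := by
      rintro _ ⟨v, ⟨hvS, hvg⟩, rfl⟩
      refine ⟨hγS v hvS, ?_⟩
      show γ v ∈ f.ker
      rw [hfker, hγu, (hgker v).mp hvg, map_neg, neg_neg]
    calc Nat.card ↥(S ⊓ g.ker) = Nat.card ↥((S ⊓ g.ker).map γ) :=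
          (AddSubgroup.card_map_of_injective hγinj).symm
      _ ≤ Nat.card ↥(S ⊓ f.ker) := AddSubgroup.card_le_of_le h1
  refine ⟨Nat.card ↥(S ⊓ f.ker), ?_⟩
  rw [hcard1, le_antisymm hle2 hle1]

/-- induction over invariant subgroups -/
theorem isSquare_card_of_invariant
    (hα : ∀ v, α (α v) = -v) (hβ : ∀ v, β (β v) = -v) (hαβ : ∀ v, β (α v) = -(α (β v)))
    (hodd : Odd (Nat.card A)) :
    ∀ n : ℕ, ∀ S : AddSubgroup A, Nat.card S = n → (∀ v ∈ S, α v ∈ S) → (∀ v ∈ S, β v ∈ S) →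
      IsSquare n := by
  intro n
  induction n using Nat.strong_induction_on with
  | _ n ih =>
    intro S hSn hSα hSβ
    by_cases hn1 : n = 1
    · rw [hn1]; exact ⟨1, rfl⟩
    have hnodd : Odd n := by
      have hdvd : n ∣ Nat.card A := hSn ▸ AddSubgroup.card_addSubgroup_dvd_card S
      exact Odd.of_dvd_nat hodd hdvd
    have hr : Fact n.minFac.Prime := ⟨Nat.minFac_prime hn1⟩
    set r := n.minFac with hrdef
    have hrn : r ∣ n := Nat.minFac_dvd n
    have hr2 : r ≠ 2 := by
      intro h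
      rw [h] at hrn
      exact (Nat.not_even_iff_odd.mpr hnodd) (even_iff_two_dvd.mpr hrn)
    let π : A →+ A := nsmulAddMonoidHom r
    have hπ : ∀ v, π v = r • v := fun _ => rfl
    have hcard := addCard_eq_card_inf_ker_mul_card_map π S
    -- invariance
    have hKα : ∀ v ∈ S ⊓ π.ker, α v ∈ S ⊓ π.ker := by
      intro v hv
      rw [AddSubgroup.mem_inf, AddMonoidHom.mem_ker, hπ] at hv ⊢
      exact ⟨hSα v hv.1, by rw [← map_nsmul, hv.2, map_zero]⟩
    have hKβ : ∀ v ∈ S ⊓ π.ker, β v ∈ S ⊓ π.ker := by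
      intro v hv
      rw [AddSubgroup.mem_inf, AddMonoidHom.mem_ker, hπ] at hv ⊢
      exact ⟨hSβ v hv.1, by rw [← map_nsmul, hv.2, map_zero]⟩
    have hIα : ∀ v ∈ S.map π, α v ∈ S.map π := by
      rintro _ ⟨v, hvS, rfl⟩
      exact ⟨α v, hSα v hvS, by rw [hπ, hπ, map_nsmul]⟩
    have hIβ : ∀ v ∈ S.map π, β v ∈ S.map π := by
      rintro _ ⟨v, hvS, rfl⟩
      exact ⟨β v, hSβ v hvS, by rw [hπ, hπ, map_nsmul]⟩
    -- Cauchy
    have hK1 : 1 < Nat.card ↥(S ⊓ π.ker) := by
      obtain ⟨v, hv⟩ := exists_prime_addOrderOf_dvd_card' (G := S) r (by rw [hSn]; exact hrn)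
      rw [AddSubgroup.one_lt_card_iff_ne_bot]
      intro hbot
      have hvmem : (v : A) ∈ S ⊓ π.ker := by
        refine ⟨v.2, ?_⟩
        show (v : A) ∈ π.ker
        rw [AddMonoidHom.mem_ker, hπ]
        have := addOrderOf_nsmul_eq_zero v
        rw [hv] at this
        exact_mod_cast congrArg Subtype.val this
      rw [hbot, AddSubgroup.mem_bot] at hvmem
      have hv0 : v = 0 := Subtype.ext hvmem
      rw [hv0, addOrderOf_zero] at hv
      exact hr.out.one_lt.ne hv
    have hIpos : 0 < Nat.card ↥(S.map π) := Nat.card_pos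
    by_cases hKS : S ⊓ π.ker = S
    · -- exponent r
      rw [← hSn]
      apply isSquare_card_of_forall_nsmul_eq_zero α β hα hβ hαβ S hSα hSβ r hr2
      intro v hv
      have : v ∈ S ⊓ π.ker := by rw [hKS]; exact hv
      exact (AddMonoidHom.mem_ker).mp this.2
    · have hKlt : Nat.card ↥(S ⊓ π.ker) < n := by
        rw [← hSn]
        apply lt_of_le_of_ne (AddSubgroup.card_le_of_le inf_le_left)
        intro h
        exact hKS (AddSubgroup.eq_of_le_of_card_ge inf_le_left h.ge)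
      have hIlt : Nat.card ↥(S.map π) < n := by
        rw [← hSn, hcard]
        nlinarith
      have h1 := ih _ hKlt (S ⊓ π.ker) rfl hKα hKβ
      have h2 := ih _ hIlt (S.map π) rfl hIα hIβ
      rw [← hSn, hcard]
      exact h1.mul h2

/-- additive form of the main statement -/
theorem isSquare_card_of_add_quaternion_action
    (hα : ∀ v, α (α v) = -v) (hβ : ∀ v, β (β v) = -v) (hαβ : ∀ v, β (α v) = -(α (β v)))
    (hodd : Odd (Nat.card A)) : IsSquare (Nat.card A) := by
  have := isSquare_card_of_invariant α β hα hβ hαβ hodd (Nat.card (⊤ : AddSubgroup A)) ⊤ rfl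
    (fun _ _ => AddSubgroup.mem_top _) (fun _ _ => AddSubgroup.mem_top _)
  rwa [AddSubgroup.card_top] at this

end additive

/-- A finite commutative group of odd order with endomorphisms `α`, `β` satisfying the quaternion relations
`α² = β² = (·)⁻¹`, `βα = (αβ)⁻¹` has square order. -/
theorem isSquare_card_of_quaternion_action {N : Type*} [CommGroup N] [Finite N] (α β : N →* N)
    (hα : ∀ x, α (α x) = x⁻¹) (hβ : ∀ x, β (β x) = x⁻¹) (hαβ : ∀ x, β (α x) = (α (β x))⁻¹)
    (hodd : Odd (Nat.card N)) : IsSquare (Nat.card N) := by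
  have hfin : Finite (Additive N) := inferInstanceAs (Finite N)
  exact isSquare_card_of_add_quaternion_action (A := Additive N) (MonoidHom.toAdditive α)
    (MonoidHom.toAdditive β) (fun v => congrArg Additive.ofMul (hα v.toMul))
    (fun v => congrArg Additive.ofMul (hβ v.toMul)) (fun v => congrArg Additive.ofMul (hαβ v.toMul))
    hodd

end Cfsg.Agent.Lib.Helper35
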