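-- helper35: S2510 MODULE MA (helper40 #2386): a matrix of determinant one killed by an
-- irreducible polynomial has its `i`-th power scalar as soon as
-- `(q^n - 1)/(q - 1)` divides `i (q - 1)`.
import Mathlib
import Cfsg.Agent.Lib.Helper40.Singer
import Cfsg.Agent.Lib.Helper40.CharpolyExtra

set_option autoImplicit false

namespace Cfsg.Agent.Lib.Helper35.SingerBound

open Polynomial

/-- `∑_{j<k} a^j ≡ k` modulo `q - 1` when `a ≡ 1`. -/
theorem geom_sum_modEq (q a k : ℕ) (ha : a ≡ 1 [MOD (q - 1)]) :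
    ∑ j ∈ Finset.range k, a ^ j ≡ k [MOD (q - 1)] := by
  have h1 : ∑ j ∈ Finset.range k, a ^ j ≡ ∑ _j ∈ Finset.range k, 1 [MOD (q - 1)] := by
    apply Nat.ModEq.sum
    intro j _
    have := ha.pow j
    simpa using this
  simpa using h1

/-- arithmetic: `(q^(d k) - 1)/(q - 1) = ((q^d - 1)/(q - 1)) * E` with `E ≡ k` mod `q - 1`. -/
theorem arith_key (q d k : ℕ) (hq : 2 ≤ q) (hd : 1 ≤ d) :
    ∃ E : ℕ, E ≡ k [MOD (q - 1)] ∧
      (q ^ (d * k) - 1) / (q - 1) = ((q ^ d - 1) / (q - 1)) * E := by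
  have hqd : 2 ≤ q ^ d := le_trans hq (Nat.le_self_pow (by omega) q)
  refine ⟨∑ j ∈ Finset.range k, (q ^ d) ^ j, ?_, ?_⟩
  · apply geom_sum_modEq
    have h1 : q ≡ 1 [MOD (q - 1)] := by
      have : q = 1 + (q - 1) := by omega
      conv_lhs => rw [this]
      simp [Nat.ModEq]
    simpa using h1.pow d
  · rw [Nat.geomSum_eq hqd k, ← pow_mul]
    -- ((q^d)-1)/(q-1) * ((q^(dk) - 1)/(q^d - 1)) = (q^(dk)-1)/(q-1)
    have h1 : q - 1 ∣ q ^ d - 1 := Nat.sub_one_dvd_pow_sub_one q d
    have h2 : q ^ d - 1 ∣ q ^ (d * k) - 1 := by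
      rw [pow_mul]; exact Nat.sub_one_dvd_pow_sub_one (q ^ d) k
    obtain ⟨a, ha⟩ := h1
    obtain ⟨b, hb⟩ := h2
    have hq1 : 0 < q - 1 := by omega
    have hqd1 : 0 < q ^ d - 1 := by omega
    rw [hb, ha, Nat.mul_div_cancel_left _ hq1, Nat.mul_div_cancel_left _ (by rw [← ha]; exact hqd1),
      mul_assoc, Nat.mul_div_cancel_left _ hq1]

variable {F : Type*} [Field F] [Fintype F]

/-- In `K = F[X]/(h)` (`h` monic irreducible of degree `d`) the class `x` of `X` satisfies
`x ^ ((q^d-1)/(q-1)) = ν` with `ν = (-1)^d h(0)`. -/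
theorem root_pow_eq (h : F[X]) (hm : h.Monic) (hirr : Irreducible h) :
    (AdjoinRoot.root h) ^ ((Fintype.card F ^ h.natDegree - 1) / (Fintype.card F - 1)) =
      algebraMap F (AdjoinRoot h) ((-1) ^ h.natDegree * h.coeff 0) := by
  classical
  have : Fact (Irreducible h) := ⟨hirr⟩
  have : Module.Finite F (AdjoinRoot h) := Monic.finite_adjoinRoot hm
  have : Finite (AdjoinRoot h) := Module.finite_of_finite F
  let _ : Fintype (AdjoinRoot h) := Fintype.ofFinite _
  have hpb := Algebra.PowerBasis.norm_gen_eq_coeff_zero_minpoly (AdjoinRoot.powerBasis hm.ne_zero)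
  rw [AdjoinRoot.powerBasis_gen, AdjoinRoot.powerBasis_dim, AdjoinRoot.minpoly_root hm.ne_zero,
    hm.leadingCoeff, inv_one, C_1, mul_one] at hpb
  rw [← hpb, FiniteField.algebraMap_norm_eq_pow]
  congr 2
  · rw [Nat.card_eq_fintype_card, Module.card_eq_pow_finrank (K := F) (V := AdjoinRoot h),
      (AdjoinRoot.powerBasis hm.ne_zero).finrank, AdjoinRoot.powerBasis_dim]
  · rw [Nat.card_eq_fintype_card]

omit [Fintype F] in
/-- determinant of a matrix killed by a monic irreducible polynomial -/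
theorem det_eq_pow (n : ℕ) (B : Matrix (Fin n) (Fin n) F) (h : F[X]) (hm : h.Monic)
    (hirr : Irreducible h) (hB : aeval B h = 0) :
    ∃ k : ℕ, n = h.natDegree * k ∧ B.det = ((-1) ^ h.natDegree * h.coeff 0) ^ k := by
  classical
  have hss : Module.End.IsSemisimple (Matrix.toLin' B) := by
    apply Module.End.isSemisimple_of_squarefree_aeval_eq_zero (p := h)
    · exact hirr.squarefree
    · have h1 : Matrix.toLin' B = Matrix.toLinAlgEquiv' B := rfl
      rw [h1, aeval_algHom_apply, hB, map_zero]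
  have hall : ∀ m ∈ UniqueFactorizationMonoid.normalizedFactors B.charpoly, m = h := by
    intro m hmem
    have hmm := Cfsg.Agent.Lib.Helper40.monic_of_mem_normalizedFactors hmem
    have hmi := UniqueFactorizationMonoid.irreducible_of_normalized_factor m hmem
    have hmd := UniqueFactorizationMonoid.dvd_of_mem_normalizedFactors hmem
    have h1 := Cfsg.Agent.Lib.Helper40.dvd_of_irreducible_dvd_charpoly B hss h hB m hmm hmi hmd
    exact Cfsg.Agent.Lib.Helper40.eq_of_monic_irreducible_dvd hmm hmi hm hirr h1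
  have hrep := Multiset.eq_replicate_card.mpr hall
  have hchar : B.charpoly = h ^ (Multiset.card
      (UniqueFactorizationMonoid.normalizedFactors B.charpoly)) := by
    have h1 := Cfsg.Agent.Lib.Helper40.prod_normalizedFactors_of_monic (Matrix.charpoly_monic B)
    rw [hrep, Multiset.prod_replicate] at h1
    exact h1.symm
  set k := Multiset.card (UniqueFactorizationMonoid.normalizedFactors B.charpoly) with hk
  have hdeg : n = h.natDegree * k := by
    have h1 := Matrix.charpoly_natDegree_eq_dim B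
    rw [hchar, natDegree_pow, Fintype.card_fin] at h1
    rw [← h1, mul_comm]
  refine ⟨k, hdeg, ?_⟩
  rw [Matrix.det_eq_sign_charpoly_coeff, Fintype.card_fin, hchar, coeff_zero_eq_eval_zero,
    eval_pow, ← coeff_zero_eq_eval_zero, mul_pow, ← pow_mul, ← hdeg]

/-- MODULE MA. -/
theorem exists_smul_of_irreducible_kill {n : ℕ}
    (B : Matrix (Fin n) (Fin n) F) (hdet : B.det = 1) (h : F[X]) (hm : h.Monic)
    (hirr : Irreducible h) (hB : aeval B h = 0) (i : ℕ)
    (hi : (Fintype.card F ^ n - 1) / (Fintype.card F - 1) ∣ i * (Fintype.card F - 1)) :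
    ∃ c : F, B ^ i = c • (1 : Matrix (Fin n) (Fin n) F) := by
  classical
  rcases Nat.eq_zero_or_pos n with hn0 | hnpos
  · subst hn0
    exact ⟨1, Subsingleton.elim _ _⟩
  have : Fact (Irreducible h) := ⟨hirr⟩
  have : Module.Finite F (AdjoinRoot h) := Monic.finite_adjoinRoot hm
  have : Finite (AdjoinRoot h) := Module.finite_of_finite F
  set q := Fintype.card F with hq
  have hq2 : 2 ≤ q := Fintype.one_lt_card
  have hd1 : 1 ≤ h.natDegree := by
    have := hirr.natDegree_pos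
    omega
  obtain ⟨k, hnk, hdetk⟩ := det_eq_pow n B h hm hirr hB
  have hk0 : k ≠ 0 := by
    rintro rfl
    omega
  set ν : F := (-1) ^ h.natDegree * h.coeff 0 with hν
  have hνk : ν ^ k = 1 := by rw [← hdetk, hdet]
  obtain ⟨E, hE, hNE⟩ := arith_key q h.natDegree k hq2 hd1
  rw [← hnk] at hNE
  have hroot := root_pow_eq h hm hirr
  rw [← hq, ← hν] at hroot
  -- ν ^ E = 1
  have hνE : ν ^ E = 1 := by
    have hν0 : ν ≠ 0 := by
      intro h0
      rw [h0, zero_pow hk0] at hνk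
      exact zero_ne_one hνk
    have h1 : ν ^ (q - 1) = 1 := FiniteField.pow_card_sub_one_eq_one ν hν0
    have h2 : orderOf ν ∣ q - 1 := orderOf_dvd_of_pow_eq_one h1
    have h2' : orderOf ν ∣ k := orderOf_dvd_of_pow_eq_one hνk
    have h3 : E ≡ k [MOD orderOf ν] := hE.of_dvd h2
    have h4 : E ≡ 0 [MOD orderOf ν] := h3.trans ((Nat.modEq_zero_iff_dvd).mpr h2')
    obtain ⟨t, ht⟩ := (Nat.modEq_zero_iff_dvd).mp h4
    rw [ht, pow_mul, pow_orderOf_eq_one, one_pow]
  -- root ^ N = 1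
  have hrootN : (AdjoinRoot.root h) ^ ((q ^ n - 1) / (q - 1)) = 1 := by
    rw [hNE, pow_mul, hroot, ← map_pow, hνE, map_one]
  obtain ⟨m, hm'⟩ := hi
  have hpow : ((AdjoinRoot.root h) ^ i) ^ (Fintype.card F - 1) = 1 := by
    rw [← pow_mul, ← hq, hm', pow_mul, hrootN, one_pow]
  obtain ⟨c, hc⟩ := Cfsg.Agent.Lib.Helper40.exists_algebraMap_eq_of_pow_card_sub_one
    (F := F) (E := AdjoinRoot h) ((AdjoinRoot.root h) ^ i) hpow
  refine ⟨c, ?_⟩
  have hdvd : h ∣ X ^ i - C c := by
    rw [← AdjoinRoot.mk_eq_zero, map_sub, map_pow, AdjoinRoot.mk_X, AdjoinRoot.mk_C,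
      ← AdjoinRoot.algebraMap_eq, hc, sub_self]
  obtain ⟨g, hg⟩ := hdvd
  have h0 : aeval B (X ^ i - C c) = 0 := by
    rw [hg, map_mul, hB, zero_mul]
  rw [map_sub, map_pow, aeval_X, aeval_C, sub_eq_zero] at h0
  rw [h0, Algebra.algebraMap_eq_smul_one]

end Cfsg.Agent.Lib.Helper35.SingerBound
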