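/-
helper35: project SMALL (S2400).  Over the field with three elements the orthogonal pairs of roots of `D₄` cannot be
separated by the torus.  The Hall–Witt type identity `[e, [B, A]] = [B, [e, A]]` (for lifts, `e`, `B` commuting modulo the
centre) links the pairings of two orthogonal pairs; two such links return to the swapped pair with the same sign, so
the pairing is its own inverse; having order dividing 3 it is trivial.
-/
import Cfsg.Agent.Lib.Helper35.SmallPair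

set_option autoImplicit false

namespace Cfsg.Agent.Lib.Helper35.Small

open Cfsg.Lie Cfsg.Agent.Lib.Helper35.St Cfsg.Agent.Lib.Helper60.St3 Cfsg.Agent.Lib.Helper53.CLift
  Cfsg.Agent.Lib.Helper53.AltMult

universe u v w

variable {D : ChevalleyDatum} {K : Type u} [Field K] {Γ : Type v} [Group Γ] {E : Type w} [Group E]

/-! ### Table certificates -/

/-- One Hall–Witt link from the commuting pair `(r, s)` to the commuting pair `(q, r₂)`: `r = r₁ + r₂`, `q = r₁ + s`,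
with the product `ε` of the two structure constants. -/
def HWStep (D : ChevalleyDatum) (r s q r₂ : ℕ) (ε : ℤ) : Prop :=
  ∃ (r₁ : ℕ) (N₁₂ N₁ₛ : ℤ), r < D.nroots ∧ s < D.nroots ∧ q < D.nroots ∧ r₁ < D.nroots ∧ r₂ < D.nroots ∧
    r₂ ≠ r₁ ∧ r₂ ≠ D.neg r₁ ∧ D.commTerms r₁ r₂ = [(r, N₁₂, 1, 1)] ∧ (N₁₂ = 1 ∨ N₁₂ = -1) ∧
    s ≠ r₁ ∧ s ≠ D.neg r₁ ∧ D.commTerms r₁ s = [(q, N₁ₛ, 1, 1)] ∧ (N₁ₛ = 1 ∨ N₁ₛ = -1) ∧ N₁₂ * N₁ₛ = ε ∧
    ComPair D r s ∧ ComPair D s r₂ ∧ ComPair D q r₂ ∧ ComPair D q r ∧ (SepAt D 2 q r ∨ SepAt D 2 r q)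

/-- Two links `(a, b) → (a', b') → (b, a)` with the same sign. -/
def HWCycle (D : ChevalleyDatum) (a b : ℕ) : Prop :=
  ∃ (a' b' : ℕ) (ε : ℤ), HWStep D a b a' b' ε ∧ HWStep D a' b' b a ε

/-- Commuting pairs are separated mod 2 or have a Hall–Witt cycle. -/
def ComSepHW (D : ChevalleyDatum) : Prop :=
  ∀ a b, a < D.nroots → ComPair D a b → SepAt D 2 a b ∨ SepAt D 2 b a ∨ HWCycle D a b

/-! ### Group theory -/

section grp

variable (ψ : E →* Γ) (hc : ψ.ker ≤ Subgroup.center E)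

include hc

/-- The Hall–Witt type identity. -/
theorem hw_core (A B e : E) (h1 : ψ e * ψ B = ψ B * ψ e)
    (h3 : cm e A * cm B A = cm B A * cm e A) : cm e (cm B A) = cm B (cm e A) := by
  -- `e B e⁻¹ = B κ` with `κ` central, `e A e⁻¹ = P A`
  have hκ : ψ (e * B * e⁻¹) = ψ B := by
    rw [map_mul, map_mul, map_inv, h1, mul_inv_cancel_right]
  have hA : e * A * e⁻¹ = cm e A * A := by unfold cm; group
  have e1 : e * cm B A * e⁻¹ = cm B (cm e A * A) := by
    rw [conj_cm, hA]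
    exact cm_eq_of_map_eq ψ hc hκ rfl
  have e2 : cm B (cm e A * A) = cm B (cm e A) * (cm e A * cm B A * (cm e A)⁻¹) := cm_mul_right _ _ _
  have e3 : cm e A * cm B A * (cm e A)⁻¹ = cm B A := by rw [h3, mul_inv_cancel_right]
  have e4 : cm e (cm B A) = e * cm B A * e⁻¹ * (cm B A)⁻¹ := by unfold cm; group
  rw [e4, e1, e2, e3, mul_inv_cancel_right]

omit hc in
/-- `cm x ·` on inverses, for central values. -/
theorem cm_inv_right {x y : E} (h : cm x y ∈ Subgroup.center E) : cm x y⁻¹ = (cm x y)⁻¹ := by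
  have h1 : cm x y⁻¹ = y⁻¹ * (cm x y)⁻¹ * y := by unfold cm; group
  have h2 : (cm x y)⁻¹ ∈ Subgroup.center E := inv_mem h
  rw [h1, (Subgroup.mem_center_iff.1 h2 y⁻¹), inv_mul_cancel_right]

/-- `cm x ·` of a lift of a signed power. -/
theorem cm_lift_sign {x R w : E} {σ : ℤ} (hσ : σ = 1 ∨ σ = -1) (hw : ψ w = ψ R ^ σ)
    (hcen : ψ x * ψ R = ψ R * ψ x) : cm x w = cm x R ^ σ := by
  have hcm : cm x R ∈ Subgroup.center E := by
    apply hc
    rw [MonoidHom.mem_ker, map_cm]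
    exact cm_eq_one_iff.2 hcen
  rcases hσ with rfl | rfl
  · rw [zpow_one] at hw ⊢
    exact cm_eq_of_map_eq ψ hc rfl hw
  · rw [zpow_neg, zpow_one] at hw ⊢
    rw [← cm_inv_right hcm]
    apply cm_eq_of_map_eq ψ hc rfl
    rw [hw, map_inv]

omit hc in
theorem cm_symm' (x y : E) : cm y x = (cm x y)⁻¹ := by unfold cm; group

end grp

/-- Normalising a signed equation. -/
theorem eq_zpow_of_sign {G : Type*} [Group G] {x y : G} {σ₁ σ₂ : ℤ} (h₁ : σ₁ = 1 ∨ σ₁ = -1)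
    (h : x ^ σ₁ = y ^ σ₂) : x = y ^ (σ₁ * σ₂) := by
  have : (x ^ σ₁) ^ σ₁ = x := by
    rcases h₁ with rfl | rfl <;> simp
  rw [← this, h, ← zpow_mul, mul_comm]

/-! ### The model -/

theorem X_sign (M : Model D K Γ) (r : ℕ) (hr : r < D.nroots) (σ : ℤ) (hσ : σ = 1 ∨ σ = -1) :
    M.X r ((σ : K)) = M.X r 1 ^ σ := by
  have h0 : M.X r (0 : K) = 1 := by
    have := M.add r hr 0 0
    rw [add_zero] at this
    exact mul_eq_left.mp this
  rcases hσ with rfl | rfl
  · simp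
  · have := M.add r hr (-1) 1
    rw [neg_add_cancel, h0] at this
    have h1 : M.X r (-1 : K) = (M.X r 1)⁻¹ := eq_inv_of_mul_eq_one_left this
    simpa using h1

/-- One Hall–Witt link, for the pairings of the lifts of the `X(1)`. -/
theorem hw_step (M : Model D K Γ) (hH : M.HAct) (ψ : E →* Γ) (hψ : Function.Surjective ψ)
    (hc : ψ.ker ≤ Subgroup.center E) (hv : OrdN (-1 : K) 2) {r s q r₂ : ℕ} {ε : ℤ} (h : HWStep D r s q r₂ ε)
    (R e Q B : E) (hR : ψ R = M.X r 1) (he : ψ e = M.X s 1) (hQ : ψ Q = M.X q 1) (hB : ψ B = M.X r₂ 1) :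
    cm e R = cm B Q ^ ε := by
  obtain ⟨r₁, N₁₂, N₁ₛ, hr, hs, hq, hr₁, hr₂, h21, h2n, hct12, hN12, hs1, hsn, hct1s, hN1s, hε, hrs, hsr2, hqr2, hqr,
    hsep⟩ := h
  obtain ⟨A, hA⟩ := hψ (M.X r₁ 1)
  -- the images of the two commutators
  have hXinv : ∀ (p : ℕ), p < D.nroots → (M.X p (1 : K))⁻¹ = M.X p (-1) := by
    intro p hp
    have := X_sign M p hp (-1) (Or.inr rfl)
    simp only [Int.cast_neg, Int.cast_one, zpow_neg, zpow_one] at this
    exact this.symm
  have hw : ψ (cm B A) = M.X r 1 ^ (-N₁₂) := by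
    have hrel := M.comm r₁ r₂ hr₁ hr₂ h21 h2n (-1) (-1)
    have hword : D.commWord K r₁ r₂ (-1) (-1) = [(r, ((-N₁₂ : ℤ) : K))] := by
      unfold ChevalleyDatum.commWord
      rw [hct12]
      simp
    rw [hword, List.map_cons, List.map_nil, List.prod_cons, List.prod_nil, mul_one] at hrel
    rw [map_cm, hB, hA]
    have : cm (M.X r₂ 1) (M.X r₁ 1) = (M.X r₂ (-1))⁻¹ * (M.X r₁ (-1))⁻¹ * M.X r₂ (-1) * M.X r₁ (-1) := by
      rw [← hXinv r₂ hr₂, ← hXinv r₁ hr₁]
      unfold cm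
      group
    rw [this, hrel]
    exact X_sign M r hr (-N₁₂) (by rcases hN12 with rfl | rfl <;> simp)
  have hP : ψ (cm e A) = M.X q 1 ^ (-N₁ₛ) := by
    have hrel := M.comm r₁ s hr₁ hs hs1 hsn (-1) (-1)
    have hword : D.commWord K r₁ s (-1) (-1) = [(q, ((-N₁ₛ : ℤ) : K))] := by
      unfold ChevalleyDatum.commWord
      rw [hct1s]
      simp
    rw [hword, List.map_cons, List.map_nil, List.prod_cons, List.prod_nil, mul_one] at hrel
    rw [map_cm, he, hA]
    have : cm (M.X s 1) (M.X r₁ 1) = (M.X s (-1))⁻¹ * (M.X r₁ (-1))⁻¹ * M.X s (-1) * M.X r₁ (-1) := by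
      rw [← hXinv s hs, ← hXinv r₁ hr₁]
      unfold cm
      group
    rw [this, hrel]
    exact X_sign M q hq (-N₁ₛ) (by rcases hN1s with rfl | rfl <;> simp)
  -- commutation facts in the model
  have hcs2 := Cfsg.Agent.Lib.Helper46.St3.h46_X_comm_of_comPair M s r₂ hs hsr2 (1 : K) (1 : K)
  have hcrs := Cfsg.Agent.Lib.Helper46.St3.h46_X_comm_of_comPair M r s hr hrs (1 : K) (1 : K)
  have hcq2 := Cfsg.Agent.Lib.Helper46.St3.h46_X_comm_of_comPair M q r₂ hq hqr2 (1 : K) (1 : K)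
  have hcqr := Cfsg.Agent.Lib.Helper46.St3.h46_X_comm_of_comPair M q r hq hqr
  -- lifts of `X_q` and `X_r` commute (torus trick)
  have hlc : ∀ t u : K, LiftsComm ψ (M.X q t) (M.X r u) := by
    intro t u
    rcases hsep with h' | h'
    · obtain ⟨g, χ, hg, hχa, hχb⟩ := diag_of_sepAt M hH hv h'
      exact liftsComm_of_diag M ψ hψ hc q r hq hr hcqr g χ hg hχa hχb t u
    · obtain ⟨g, χ, hg, hχb, hχa⟩ := diag_of_sepAt M hH hv h'
      exact liftsComm_symm
        (liftsComm_of_diag M ψ hψ hc r q hr hq (fun t' u' => (hcqr u' t').symm) g χ hg hχb hχa u t)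
  have hsN12 : (-N₁₂ = 1 ∨ -N₁₂ = -1) := by rcases hN12 with rfl | rfl <;> simp
  have hsN1s : (-N₁ₛ = 1 ∨ -N₁ₛ = -1) := by rcases hN1s with rfl | rfl <;> simp
  have h3 : cm e A * cm B A = cm B A * cm e A := by
    have h1 : ψ (cm e A) = M.X q (((-N₁ₛ : ℤ)) : K) := by rw [hP, X_sign M q hq _ hsN1s]
    have h2 : ψ (cm B A) = M.X r (((-N₁₂ : ℤ)) : K) := by rw [hw, X_sign M r hr _ hsN12]
    exact hlc _ _ _ _ h1 h2
  have hcore := hw_core ψ hc A B e (by rw [he, hB]; exact hcs2.symm) h3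
  have hL : cm e (cm B A) = cm e R ^ (-N₁₂) :=
    cm_lift_sign ψ hc hsN12 (by rw [hw, hR]) (by rw [he, hR]; exact hcrs)
  have hRr : cm B (cm e A) = cm B Q ^ (-N₁ₛ) :=
    cm_lift_sign ψ hc hsN1s (by rw [hP, hQ]) (by rw [hB, hQ]; exact hcq2)
  rw [hL, hRr] at hcore
  have := eq_zpow_of_sign hsN12 hcore
  rw [this]
  congr 1
  rw [← hε]
  ring

/-- Lifts of powers of two commuting elements commute. -/
theorem comm_of_zpow2 (ψ : E →* Γ) (hc : ψ.ker ≤ Subgroup.center E) (e₁ e₂ x y : E) (i j : ℤ)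
    (hcomm : e₁ * e₂ = e₂ * e₁) (hx : ψ x = ψ e₁ ^ i) (hy : ψ y = ψ e₂ ^ j) : x * y = y * x := by
  have h1 : Commute (e₁ ^ i) (e₂ ^ j) := Commute.zpow_zpow hcomm i j
  have h2 := liftsCommute_of_commute ψ hc h1
  rw [map_zpow, map_zpow] at h2
  exact (h2 x y hx hy).eq

/-- A Hall–Witt cycle makes the lifts commute, over the field with three elements. -/
theorem liftsComm_of_hwCycle (M : Model D K Γ) (hH : M.HAct) (ψ : E →* Γ) (hψ : Function.Surjective ψ)
    (hc : ψ.ker ≤ Subgroup.center E) (hv : OrdN (-1 : K) 2) (h2 : (2 : K) ≠ 0)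
    (hK3 : ∀ a : K, a = 0 ∨ a = 1 ∨ a = -1) {a b : ℕ} (ha : a < D.nroots) (hab : ComPair D a b)
    (h : HWCycle D a b) (t u : K) : LiftsComm ψ (M.X a t) (M.X b u) := by
  obtain ⟨a', b', ε, hs1, hs2⟩ := h
  have hb := hab.1
  obtain ⟨xa, hxa⟩ := hψ (M.X a 1)
  obtain ⟨xb, hxb⟩ := hψ (M.X b 1)
  obtain ⟨xa', hxa'⟩ := hψ (M.X a' 1)
  obtain ⟨xb', hxb'⟩ := hψ (M.X b' 1)
  have e1 := hw_step M hH ψ hψ hc hv hs1 xa xb xa' xb' hxa hxb hxa' hxb'
  have e2 := hw_step M hH ψ hψ hc hv hs2 xa' xb' xb xa hxa' hxb' hxb hxa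
  have hε : ε * ε = 1 := by
    obtain ⟨_, N₁₂, N₁ₛ, _, _, _, _, _, _, _, _, hN12, _, _, _, hN1s, hε, _⟩ := hs1
    rw [← hε]
    rcases hN12 with rfl | rfl <;> rcases hN1s with rfl | rfl <;> norm_num
  -- `G = G⁻¹`
  have hG : cm xb xa = (cm xb xa)⁻¹ := by
    have : cm xb xa = cm xa xb := by
      rw [e1, e2, ← zpow_mul, hε, zpow_one]
    calc cm xb xa = cm xa xb := this
      _ = (cm xb xa)⁻¹ := cm_symm' xb xa
  have hcomm0 := Cfsg.Agent.Lib.Helper46.St3.h46_X_comm_of_comPair M a b ha hab (1 : K) (1 : K)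
  have hGc : cm xb xa ∈ Subgroup.center E := by
    apply hc
    rw [MonoidHom.mem_ker, map_cm, hxa, hxb]
    exact cm_eq_one_iff.2 hcomm0
  have hsq : cm xb xa * cm xb xa = 1 := by
    nth_rewrite 1 [hG]
    exact inv_mul_cancel _
  -- `G ^ 3 = 1`
  have h3 : (1 : K) + 1 + 1 = 0 := by
    rcases hK3 ((1 : K) + 1) with h | h | h
    · exfalso; apply h2; rw [← h]; norm_num
    · exfalso
      have : (1 : K) = 0 := by
        have := congrArg (fun x => x - 1) h
        simpa using this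
      exact one_ne_zero this
    · rw [h]; ring
  have hX3 : M.X a 1 * M.X a 1 * M.X a 1 = 1 := by
    rw [M.add a ha, M.add a ha, h3]
    have := M.add a ha 0 0
    rw [add_zero] at this
    exact mul_eq_left.mp this
  have hcube : cm xb (xa * xa * xa) = 1 := by
    have hz : xa * xa * xa ∈ Subgroup.center E := by
      apply hc
      rw [MonoidHom.mem_ker, map_mul, map_mul, hxa, hX3]
    have := Subgroup.mem_center_iff.1 hz xb
    unfold cm
    rw [this]
    group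
  have hmul : ∀ y : E, cm xb (y * xa) = cm xb y * cm xb xa := by
    intro y
    rw [cm_mul_right]
    congr 1
    rw [Subgroup.mem_center_iff.1 hGc y, mul_inv_cancel_right]
  have hcube' : cm xb xa * cm xb xa * cm xb xa = 1 := by
    rw [← hmul xa, ← hmul (xa * xa)]
    exact hcube
  have hG1 : cm xb xa = 1 := by
    rw [hsq, one_mul] at hcube'
    exact hcube'
  have hcomm : xa * xb = xb * xa := (cm_eq_one_iff.1 hG1).symm
  -- all lifts
  have hpow : ∀ (r : ℕ), r < D.nroots → ∀ c : K, ∃ i : ℤ, M.X r c = M.X r 1 ^ i := by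
    intro r hr c
    rcases hK3 c with rfl | rfl | rfl
    · refine ⟨0, ?_⟩
      rw [zpow_zero]
      have := M.add r hr 0 0
      rw [add_zero] at this
      exact mul_eq_left.mp this
    · exact ⟨1, by rw [zpow_one]⟩
    · exact ⟨-1, by simpa using X_sign M r hr (-1) (Or.inr rfl)⟩
  obtain ⟨i, hi⟩ := hpow a ha t
  obtain ⟨j, hj⟩ := hpow b hb u
  intro x y hx hy
  exact comm_of_zpow2 ψ hc xa xb x y i j hcomm (by rw [hx, hi, hxa]) (by rw [hy, hj, hxb])

/-- `PairComm` over the field with three elements from the separation mod 2 and the Hall–Witt cycles. -/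
theorem pairComm_of_comSepHW (M : Model D K Γ) (hH : M.HAct) (ψ : E →* Γ) (hψ : Function.Surjective ψ)
    (hc : ψ.ker ≤ Subgroup.center E) (hv : OrdN (-1 : K) 2) (h2 : (2 : K) ≠ 0)
    (hK3 : ∀ a : K, a = 0 ∨ a = 1 ∨ a = -1) (hcs : ComSepHW D) : PairComm M ψ := by
  intro a b ha hab t u
  have hcomm := Cfsg.Agent.Lib.Helper46.St3.h46_X_comm_of_comPair M a b ha hab
  have hb := hab.1
  rcases hcs a b ha hab with h | h | h
  · obtain ⟨g, χ, hg, hχa, hχb⟩ := diag_of_sepAt M hH hv h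
    exact liftsComm_of_diag M ψ hψ hc a b ha hb hcomm g χ hg hχa hχb t u
  · obtain ⟨g, χ, hg, hχb, hχa⟩ := diag_of_sepAt M hH hv h
    exact liftsComm_symm (liftsComm_of_diag M ψ hψ hc b a hb ha (fun t' u' => (hcomm u' t').symm) g χ hg hχb hχa u t)
  · exact liftsComm_of_hwCycle M hH ψ hψ hc hv h2 hK3 ha hab h t u

end Cfsg.Agent.Lib.Helper35.Small
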