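/-
helper35: project SMALL (S2103).  The splitting theorem for a Steinberg model (helper60's `exists_splitting`,
`Lib/Helper60/St3Split.lean`) with the hypothesis "more than four elements" replaced by: commutation of lifts
(`PairComm`, `SelfComm`), a diagonal element moving each root, and torus separation of the non-commuting pairs of
positive roots.
-/
import Cfsg.Agent.Lib.Helper60.St3Split
import Cfsg.Agent.Lib.Helper35.SmallSec
import Cfsg.Agent.Lib.Helper35.SmallPair

set_option autoImplicit false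

namespace Cfsg.Agent.Lib.Helper35.Small

open Cfsg.Lie Cfsg.Agent.Lib.Helper35.St Cfsg.Agent.Lib.Helper60.St3

universe u v w

variable {D : ChevalleyDatum} {K : Type u} [Field K] {Γ : Type v} [Group Γ] {E : Type w} [Group E]

/-- The splitting theorem with explicit commutation / separation hypotheses. -/
theorem exists_splitting_of (M : Model D K Γ) (tf : TF D) (hgen : M.Gen) (hA : M.Act)
    (hperf : commutator Γ = ⊤)
    (hidx : IdxLvl D) (hlt : TermLt D) (hwsym : WSym D) (hlong : Longest D) (htail : TailInj M)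
    (ψ : E →* Γ) (hψ : Function.Surjective ψ) (hc : ψ.ker ≤ Subgroup.center E)
    (hpc : PairComm M ψ) (hsc : SelfComm M ψ)
    (hd : ∀ s, s < D.nroots → ∃ (g : Γ) (χ : ℕ → K), IsDiag M g χ ∧ χ s ≠ 1)
    (hsep : ∀ a k, D.IsPosRoot a → D.IsPosRoot k → a < k → D.commTerms a k ≠ [] →
      ∃ (g : Γ) (χ : ℕ → K), IsDiag M g χ ∧ χ a = 1 ∧ χ k ≠ 1) :
    ∃ z : ℕ → K → E, (∀ s, s < D.nroots → ∀ t : K, ψ (z s t) = M.X s t) ∧
      (∀ s, s < D.nroots → ∀ t u : K, z s t * z s u = z s (t + u)) ∧ R2E D K z := by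
  have hcent := fun e he => Cfsg.Agent.Lib.Helper46.St3.lift_mem_center ψ hψ hc hperf e he
  obtain ⟨z, hz⟩ := Cfsg.Agent.Lib.Helper44.St3.exists_section M ψ hψ hc hgen hcent hsc hd
  have hsu : SepU M z := by
    intro a k ha hk hak
    by_cases hct : D.commTerms a k = []
    · right
      intro t u
      have hkn : k ≠ D.neg a := fun h => tf.not_pos_neg k hk (h ▸ tf.neg_pos a ha)
      have hcp : ComPair D a k := ⟨hk.1, by omega, hkn, hct⟩
      exact hpc a k ha.1 hcp t u (z a t) (z k u) (hz.lift a ha.1 t) (hz.lift k hk.1 u)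
    · left
      exact hsep a k ha hk hak hct
  have hinj : InjU D ψ z := injU' M tf ψ hψ hc z hz hidx hsu htail
  have hweq : WEq M ψ z := by
    intro ws hws e he s hs
    exact Cfsg.Agent.Lib.Helper44.St3.conj_section M ψ hψ z hz hd _ _ _
      (Cfsg.Agent.Lib.Helper44.St3.isMonoW_wordElt M tf hA ws hws) e he s hs
  refine ⟨z, hz.lift, hz.add, ?_⟩
  exact Cfsg.Agent.Lib.Helper50.St3.r2_all M tf ψ hψ z hz hidx hinj hweq
    (fun r s hr hs hsr hsn => Cfsg.Agent.Lib.Helper50.St3.exists_word_pos tf hlong r s hr hs hsr hsn)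
    (fun ws hws r s hr hs hsr hsn => Cfsg.Agent.Lib.Helper50.St3.wSym_word tf hwsym ws hws r s hr hs hsr hsn)
    hlt

/-- The splitting theorem from the table facts mod `n`, given the commutation of lifts. -/
theorem exists_splitting_ord (M : Model D K Γ) (tf : TF D) (hgen : M.Gen) (hA : M.Act) (hH : M.HAct)
    (hperf : commutator Γ = ⊤)
    (hidx : IdxLvl D) (hlt : TermLt D) (hwsym : WSym D) (hlong : Longest D) (htail : TailInj M)
    (ψ : E →* Γ) (hψ : Function.Surjective ψ) (hc : ψ.ker ≤ Subgroup.center E)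
    {v : K} {n : ℤ} (hv : OrdN v n) (hdn : HdN D n) (hsn : SepN D n)
    (hpc : PairComm M ψ) (hsc : SelfComm M ψ) :
    ∃ z : ℕ → K → E, (∀ s, s < D.nroots → ∀ t : K, ψ (z s t) = M.X s t) ∧
      (∀ s, s < D.nroots → ∀ t u : K, z s t * z s u = z s (t + u)) ∧ R2E D K z := by
  refine exists_splitting_of M tf hgen hA hperf hidx hlt hwsym hlong htail ψ hψ hc hpc hsc
    (fun s hs => diag_of_hdN M hH hv hdn s hs) ?_
  intro a k ha hk hak hct
  have hkn : k ≠ D.neg a := fun h => tf.not_pos_neg k hk (h ▸ tf.neg_pos a ha)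
  exact diag_of_sepAt M hH hv (hsn a k ha.1 hk.1 (by omega) hkn hct)

end Cfsg.Agent.Lib.Helper35.Small
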