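/-
helper35: project SMALL (S2400).  Self-commutation of the lifts of a root subgroup `X_s` from a commutator formula
containing `s` linearly (a variant of helper50's `selfComm_of_topCert`, `Lib/Helper50/St3/ScTop.lean`): the two roots of
the formula only have to commute with `X_s` in the model (not necessarily with empty commutator formula: in
characteristic 2 a formula with coefficient `± 2` is trivial).
-/
import Cfsg.Agent.Lib.Helper35.SmallPair

set_option autoImplicit false

namespace Cfsg.Agent.Lib.Helper35.Small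

open Cfsg.Lie Cfsg.Agent.Lib.Helper35.St Cfsg.Agent.Lib.Helper60.St3 Cfsg.Agent.Lib.Helper53.CLift
  Cfsg.Agent.Lib.Helper53.AltMult

universe u v w

variable {D : ChevalleyDatum} {K : Type u} [Field K] {Γ : Type v} [Group Γ] {E : Type w} [Group E]

/-- Self-commutation from a general top certificate. -/
theorem selfComm_of_topGen (M : Model D K Γ) (ψ : E →* Γ) (hψ : Function.Surjective ψ)
    (hc : ψ.ker ≤ Subgroup.center E) (s : ℕ) (r' s' : ℕ) (l₁ l₂ : List (ℕ × ℤ × ℕ × ℕ)) (C : ℤ) (j : ℕ)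
    (hr' : r' < D.nroots) (hs' : s' < D.nroots) (hne : s' ≠ r') (hnn : s' ≠ D.neg r') (hC : C = 1 ∨ C = -1)
    (hterms : D.commTerms r' s' = l₁ ++ (s, C, 1, j) :: l₂)
    (hcr : ∀ a t : K, M.X s a * M.X r' t = M.X r' t * M.X s a)
    (hcs : ∀ a t : K, M.X s a * M.X s' t = M.X s' t * M.X s a)
    (hcl : ∀ c ∈ l₁ ++ l₂, ∀ a v : K, LiftsComm ψ (M.X s a) (M.X c.1 v))
    (a b : K) : LiftsComm ψ (M.X s a) (M.X s b) := by
  intro x y hx hy
  have hlist : ∀ L : List (ℕ × K), (∀ p ∈ L, ∀ a v : K, LiftsComm ψ (M.X s a) (M.X p.1 v)) →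
      ∃ q ∈ Subgroup.centralizer ({x} : Set E), ψ q = (L.map fun p => M.X p.1 p.2).prod := by
    intro L
    induction L with
    | nil => intro _; exact ⟨1, one_mem _, by simp⟩
    | cons p L ih =>
      intro hL
      obtain ⟨q, hq, hqψ⟩ := ih (fun p' hp' => hL p' (List.mem_cons_of_mem _ hp'))
      obtain ⟨y', hy'⟩ := hψ (M.X p.1 p.2)
      refine ⟨y' * q, mul_mem ?_ hq, ?_⟩
      · rw [Subgroup.mem_centralizer_iff]
        intro g hg
        rw [Set.mem_singleton_iff] at hg
        subst hg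
        exact hL p List.mem_cons_self a p.2 g y' hx hy'
      · rw [map_mul, hy', hqψ, List.map_cons, List.prod_cons]
  set t : K := -((C : K) * b) with ht
  have hCC : (C : K) * (C : K) = 1 := by rcases hC with rfl | rfl <;> simp
  let f : (ℕ × ℤ × ℕ × ℕ) → ℕ × K := fun c => (c.1, (c.2.1 : K) * (-t) ^ c.2.2.1 * (1 : K) ^ c.2.2.2)
  have hword : D.commWord K r' s' t 1 = (l₁.map f) ++ (s, b) :: (l₂.map f) := by
    have h0 : D.commWord K r' s' t 1 = (D.commTerms r' s').map f := rfl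
    rw [h0, hterms, List.map_append, List.map_cons]
    have h1 : f (s, C, 1, j) = (s, b) := by
      show (s, (C : K) * (-t) ^ 1 * (1 : K) ^ j) = (s, b)
      rw [ht, neg_neg, pow_one, one_pow, mul_one, ← mul_assoc, hCC, one_mul]
    rw [h1]
  have hcommrel := M.comm r' s' hr' hs' hne hnn t 1
  rw [hword, List.map_append, List.prod_append, List.map_cons, List.prod_cons] at hcommrel
  obtain ⟨xt, hxt⟩ := hψ (M.X r' t)
  obtain ⟨yt, hyt⟩ := hψ (M.X s' 1)
  -- `x` commutes with the commutator of the lifts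
  have hw : x * cm yt⁻¹ xt⁻¹ = cm yt⁻¹ xt⁻¹ * x := by
    apply comm_cm_of_comm ψ hc
    · rw [map_inv, hx, hyt]
      have := hcs a 1
      calc M.X s a * (M.X s' 1)⁻¹ = (M.X s' 1)⁻¹ * (M.X s' 1 * M.X s a) * (M.X s' 1)⁻¹ := by group
        _ = (M.X s' 1)⁻¹ * (M.X s a * M.X s' 1) * (M.X s' 1)⁻¹ := by rw [this]
        _ = (M.X s' 1)⁻¹ * M.X s a := by group
    · rw [map_inv, hx, hxt]
      have := hcr a t
      calc M.X s a * (M.X r' t)⁻¹ = (M.X r' t)⁻¹ * (M.X r' t * M.X s a) * (M.X r' t)⁻¹ := by group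
        _ = (M.X r' t)⁻¹ * (M.X s a * M.X r' t) * (M.X r' t)⁻¹ := by rw [this]
        _ = (M.X r' t)⁻¹ * M.X s a := by group
  have hwc : cm yt⁻¹ xt⁻¹ ∈ Subgroup.centralizer ({x} : Set E) := by
    rw [Subgroup.mem_centralizer_iff]
    intro g hg
    rw [Set.mem_singleton_iff] at hg
    subst hg
    exact hw
  obtain ⟨p1, hp1c, hp1⟩ := hlist (l₁.map f) (by
    intro p hp
    obtain ⟨c, hc', rfl⟩ := List.mem_map.mp hp
    exact hcl c (List.mem_append_left _ hc'))
  obtain ⟨p2, hp2c, hp2⟩ := hlist (l₂.map f) (by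
    intro p hp
    obtain ⟨c, hc', rfl⟩ := List.mem_map.mp hp
    exact hcl c (List.mem_append_right _ hc'))
  -- a lift of `X_s(b)` centralising `x`
  set y' : E := p1⁻¹ * cm yt⁻¹ xt⁻¹ * p2⁻¹ with hy'def
  have hy'c : y' ∈ Subgroup.centralizer ({x} : Set E) :=
    mul_mem (mul_mem (inv_mem hp1c) hwc) (inv_mem hp2c)
  have hy'ψ : ψ y' = M.X s b := by
    have e1 : ψ (cm yt⁻¹ xt⁻¹) = (M.X s' 1)⁻¹ * (M.X r' t)⁻¹ * M.X s' 1 * M.X r' t := by
      rw [map_cm, map_inv, map_inv, hxt, hyt]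
      unfold cm
      group
    rw [hy'def, map_mul, map_mul, map_inv, map_inv, e1, hcommrel, hp1, hp2]
    group
  have hk : y'⁻¹ * y ∈ Subgroup.center E := by
    apply hc
    rw [MonoidHom.mem_ker, map_mul, map_inv, hy'ψ, hy, inv_mul_cancel]
  have hxy' : x * y' = y' * x := (Subgroup.mem_centralizer_iff.mp hy'c) x rfl
  have hkx : x * (y'⁻¹ * y) = (y'⁻¹ * y) * x := ((Subgroup.mem_center_iff.mp hk) x)
  calc x * y = x * y' * (y'⁻¹ * y) := by group
    _ = y' * (x * (y'⁻¹ * y)) := by rw [hxy', mul_assoc]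
    _ = y' * ((y'⁻¹ * y) * x) := by rw [hkx]
    _ = y * x := by group

/-- In characteristic 2 a single-term formula with coefficient `± 2` is trivial: the root elements commute. -/
theorem X_comm_of_two (M : Model D K Γ) (h2 : (2 : K) = 0) (a b c : ℕ) (C : ℤ) (ha : a < D.nroots) (hb : b < D.nroots)
    (hba : b ≠ a) (hbn : b ≠ D.neg a) (hC : C = 2 ∨ C = -2) (hct : D.commTerms a b = [(c, C, 1, 1)])
    (hcl : c < D.nroots) (t u : K) : M.X b u * M.X a t = M.X a t * M.X b u := by
  have h := M.comm a b ha hb hba hbn t u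
  have hC0 : (C : K) = 0 := by
    rcases hC with rfl | rfl
    · simpa using h2
    · simp [h2]
  have h0 : M.X c (0 : K) = 1 := by
    have := M.add c hcl 0 0
    rw [add_zero] at this
    exact mul_eq_left.mp this
  have hw : ((D.commWord K a b t u).map fun p => M.X p.1 p.2).prod = 1 := by
    unfold ChevalleyDatum.commWord
    rw [hct]
    simp only [List.map_cons, List.map_nil, List.prod_cons, List.prod_nil, mul_one, hC0, zero_mul]
    exact h0
  rw [hw] at h
  calc M.X b u * M.X a t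
      = M.X a t * M.X b u * ((M.X b u)⁻¹ * (M.X a t)⁻¹ * M.X b u * M.X a t) := by group
    _ = M.X a t * M.X b u := by rw [h, mul_one]

end Cfsg.Agent.Lib.Helper35.Small
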