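/-
helper35: project SMALL (S2400).  Steinberg's Theorem 10 for the data `D₄` and `B₂` over the fields with three and four
elements: the group `Δ` presented by (R1), (R2) is centrally closed.
-/
import Cfsg.Agent.Lib.Helper35.SmallSplit
import Cfsg.Agent.Lib.Helper35.SmallField
import Cfsg.Agent.Lib.Helper35.SmallTop
import Cfsg.Agent.Lib.Helper35.SmallHW
import Cfsg.Agent.Lib.Helper35.B2Three
import Cfsg.Agent.Lib.Helper90.SmallTD4B2
import Cfsg.Agent.Lib.Helper89.SmallD4HW
import Cfsg.Agent.Lib.Helper60.St3Cover
import Cfsg.Agent.Lib.Helper35.StMain2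
import Cfsg.Agent.Lib.Helper35.StCover
import Cfsg.Agent.Lib.Helper89.St3Idx
import Cfsg.Agent.Lib.Helper89.St3WSym
import Cfsg.Agent.Lib.Helper46.St3TailInj
import Cfsg.Agent.S2395

set_option autoImplicit false

namespace Cfsg.Agent.Lib.Helper35.Small

open Cfsg Cfsg.Lie Cfsg.Agent.Lib.Helper35.St Cfsg.Agent.Lib.Helper60.St3 Cfsg.Agent.Lib.Helper90.Small
  Cfsg.Agent.Lib.Helper89.Small

theorem D4_mem : chevD4 ∈ [chevG2, chevB2, chevD4, chevF4, chevE6, chevE7, chevE8] := by simp

theorem B2_mem : chevB2 ∈ [chevG2, chevB2, chevD4, chevF4, chevE6, chevE7, chevE8] := by simp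

/-- Theorem 10 for `D₄` over a field with three or four elements. -/
theorem thm10_D4_small {K : Type*} [Field K] [Fintype K] (hK : Fintype.card K = 3 ∨ Fintype.card K = 4)
    {G₁ E : Type*} [Group G₁] [Group E] (π₁ : E →* G₁) (hπ : Function.Surjective π₁)
    (hc : π₁.ker ≤ Subgroup.center E) (σ : chevD4.SteinbergCover K →* G₁) :
    ∃! τ : chevD4.SteinbergCover K →* E, π₁.comp τ = σ := by
  have hD := D4_mem
  have hKv : chevD4 ∈ [chevB2, chevG2] → ∃ x : K, x ≠ 0 ∧ x ≠ 1 := by
    intro h
    exfalso
    simp only [List.mem_cons, List.not_mem_nil, or_false] at h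
    rcases h with h | h
    · exact absurd (congrArg ChevalleyDatum.rank h) (by decide)
    · exact absurd (congrArg ChevalleyDatum.rank h) (by decide)
  have hperf : commutator (chevD4.SteinbergCover K) = ⊤ := Cfsg.Agent.S2395.result chevD4 hD hKv
  have tf : TF chevD4 := tf_main hD
  have hlt : TermLt chevD4 := Cfsg.Agent.Lib.Helper89.St3.termLt_of_mem hD
  refine lift_existsUnique_of_splitting chevD4 hlt hperf π₁ hπ hc σ ?_
  intro P ψ hψ hker
  have hH := hAct_main (coverModel (K := K) hD) hD
  rcases hK with hK | hK
  · obtain ⟨h2, h3, hv⟩ := three_facts hK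
    have hpc := pairComm_of_comSepHW (coverModel (K := K) hD) hH ψ hψ hker hv h2 h3 comSepHW_D4
    have hsc := selfComm_of_three (coverModel (K := K) hD) ψ hψ hker h3
    exact exists_splitting_ord (coverModel (K := K) hD) tf (coverModel_gen hD) (act_main _ hD) hH hperf
      (Cfsg.Agent.Lib.Helper89.St3.idxLvl_of_mem hD) hlt (Cfsg.Agent.Lib.Helper89.St3.wSym_of_mem hD)
      (Cfsg.Agent.Lib.Helper89.St3.longest_of_mem hD) (Cfsg.Agent.Lib.Helper46.St3.tailInj hD _) ψ hψ hker
      hv hdN_D4_2 sepN_D4_2 hpc hsc
  · obtain ⟨v, hv⟩ := four_facts hK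
    have hpc := pairComm_of_comSep (coverModel (K := K) hD) hH ψ hψ hker hv comSep_D4_3
    have hsc := selfComm_of_allTop (coverModel (K := K) hD) ψ hψ hker hpc allTop_D4
    exact exists_splitting_ord (coverModel (K := K) hD) tf (coverModel_gen hD) (act_main _ hD) hH hperf
      (Cfsg.Agent.Lib.Helper89.St3.idxLvl_of_mem hD) hlt (Cfsg.Agent.Lib.Helper89.St3.wSym_of_mem hD)
      (Cfsg.Agent.Lib.Helper89.St3.longest_of_mem hD) (Cfsg.Agent.Lib.Helper46.St3.tailInj hD _) ψ hψ hker
      hv hdN_D4_3 sepN_D4_3 hpc hsc

/-- A field with four elements has characteristic 2. -/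
theorem two_eq_zero_of_card_four {K : Type*} [Field K] [Fintype K] (hK : Fintype.card K = 4) : (2 : K) = 0 := by
  have h4 : (4 : K) = 0 := by
    have := card_nsmul_eq_zero (G := K) (x := (1 : K))
    rw [hK] at this
    simpa using this
  have h22 : (2 : K) * 2 = 0 := by rw [← h4]; norm_num
  exact mul_self_eq_zero.mp h22

section b2four

universe u v w

variable {K : Type u} [Field K] {Γ : Type v} [Group Γ] {E : Type w} [Group E]

/-- `ComPair` for concrete roots of `B₂` (second form). -/
theorem comPair_b2' {a b : ℕ} (hb : b < 8) (h1 : b ≠ a) (h2 : b ≠ chevB2.neg a) (h3 : chevB2.commTerms a b = []) :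
    ComPair chevB2 a b := ⟨hb, h1, h2, h3⟩

/-- Self-commutation of the lifts for `B₂` in characteristic 2. -/
theorem selfComm_B2_two (M : Model chevB2 K Γ) (ψ : E →* Γ) (hψ : Function.Surjective ψ)
    (hc : ψ.ker ≤ Subgroup.center E) (h2 : (2 : K) = 0) (hpc : PairComm M ψ) : SelfComm M ψ := by
  intro s hs a b
  have hs8 : s < 8 := hs
  have hcp : ∀ {x y : ℕ}, x < 8 → ComPair chevB2 x y → ∀ t u : K, M.X y u * M.X x t = M.X x t * M.X y u :=
    fun {x y} hx hxy t u => Cfsg.Agent.Lib.Helper46.St3.h46_X_comm_of_comPair M x y hx hxy t u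
  rcases b2_cases s hs8 with hl | hsh
  · -- long roots: helper50's certificate
    apply Cfsg.Agent.Lib.Helper50.St3.selfComm_of_topCert M ψ hψ hc hpc s hs
    rcases hl with rfl | rfl | rfl | rfl
    · refine ⟨3, 2, [(1, -1, 1, 1)], [], -1, 2, by decide, by decide, by decide, by decide, Or.inr rfl, by decide,
        comPair_b2' (by decide) (by decide) (by decide) (by decide),
        comPair_b2' (by decide) (by decide) (by decide) (by decide), ?_⟩
      intro c hc'
      simp only [List.append_nil, List.mem_cons, List.not_mem_nil, or_false] at hc'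
      subst hc'
      exact comPair_b2' (by decide) (by decide) (by decide) (by decide)
    · refine ⟨7, 1, [(5, 1, 1, 1)], [], 1, 2, by decide, by decide, by decide, by decide, Or.inl rfl, by decide,
        comPair_b2' (by decide) (by decide) (by decide) (by decide),
        comPair_b2' (by decide) (by decide) (by decide) (by decide), ?_⟩
      intro c hc'
      simp only [List.append_nil, List.mem_cons, List.not_mem_nil, or_false] at hc'
      subst hc'
      exact comPair_b2' (by decide) (by decide) (by decide) (by decide)
    · refine ⟨0, 6, [(2, -1, 1, 1)], [], 1, 2, by decide, by decide, by decide, by decide, Or.inl rfl, by decide,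
        comPair_b2' (by decide) (by decide) (by decide) (by decide),
        comPair_b2' (by decide) (by decide) (by decide) (by decide), ?_⟩
      intro c hc'
      simp only [List.append_nil, List.mem_cons, List.not_mem_nil, or_false] at hc'
      subst hc'
      exact comPair_b2' (by decide) (by decide) (by decide) (by decide)
    · refine ⟨4, 5, [(6, 1, 1, 1)], [], -1, 2, by decide, by decide, by decide, by decide, Or.inr rfl, by decide,
        comPair_b2' (by decide) (by decide) (by decide) (by decide),
        comPair_b2' (by decide) (by decide) (by decide) (by decide), ?_⟩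
      intro c hc'
      simp only [List.append_nil, List.mem_cons, List.not_mem_nil, or_false] at hc'
      subst hc'
      exact comPair_b2' (by decide) (by decide) (by decide) (by decide)
  · -- short roots: the general certificate, the coefficient `± 2` vanishing
    rcases hsh with rfl | rfl | rfl | rfl
    · refine selfComm_of_topGen M ψ hψ hc 1 3 2 [] [(0, -1, 1, 2)] (-1) 1 (by decide) (by decide) (by decide)
        (by decide) (Or.inr rfl) (by decide) ?_ ?_ ?_ a b
      · exact fun a t => (hcp (by decide) (comPair_b2' (by decide) (by decide) (by decide) (by decide)) a t).symm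
      · exact fun a t => X_comm_of_two M h2 2 1 0 (-2) (by decide) (by decide) (by decide) (by decide)
          (Or.inr rfl) (by decide) (by decide) t a
      · intro c hc' a v
        simp only [List.nil_append, List.mem_cons, List.not_mem_nil, or_false] at hc'
        subst hc'
        exact hpc 1 0 (by decide) (comPair_b2' (by decide) (by decide) (by decide) (by decide)) a v
    · refine selfComm_of_topGen M ψ hψ hc 2 4 1 [] [(0, 1, 1, 2)] (-1) 1 (by decide) (by decide) (by decide)
        (by decide) (Or.inr rfl) (by decide) ?_ ?_ ?_ a b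
      · exact fun a t => (hcp (by decide) (comPair_b2' (by decide) (by decide) (by decide) (by decide)) a t).symm
      · exact fun a t => X_comm_of_two M h2 1 2 0 2 (by decide) (by decide) (by decide) (by decide)
          (Or.inl rfl) (by decide) (by decide) t a
      · intro c hc' a v
        simp only [List.nil_append, List.mem_cons, List.not_mem_nil, or_false] at hc'
        subst hc'
        exact hpc 2 0 (by decide) (comPair_b2' (by decide) (by decide) (by decide) (by decide)) a v
    · refine selfComm_of_topGen M ψ hψ hc 5 3 6 [] [(7, 1, 1, 2)] 1 1 (by decide) (by decide) (by decide)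
        (by decide) (Or.inl rfl) (by decide) ?_ ?_ ?_ a b
      · exact fun a t => (hcp (by decide) (comPair_b2' (by decide) (by decide) (by decide) (by decide)) a t).symm
      · exact fun a t => X_comm_of_two M h2 6 5 7 (-2) (by decide) (by decide) (by decide) (by decide)
          (Or.inr rfl) (by decide) (by decide) t a
      · intro c hc' a v
        simp only [List.nil_append, List.mem_cons, List.not_mem_nil, or_false] at hc'
        subst hc'
        exact hpc 5 7 (by decide) (comPair_b2' (by decide) (by decide) (by decide) (by decide)) a v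
    · refine selfComm_of_topGen M ψ hψ hc 6 4 5 [] [(7, -1, 1, 2)] 1 1 (by decide) (by decide) (by decide)
        (by decide) (Or.inl rfl) (by decide) ?_ ?_ ?_ a b
      · exact fun a t => (hcp (by decide) (comPair_b2' (by decide) (by decide) (by decide) (by decide)) a t).symm
      · exact fun a t => X_comm_of_two M h2 5 6 7 2 (by decide) (by decide) (by decide) (by decide)
          (Or.inl rfl) (by decide) (by decide) t a
      · intro c hc' a v
        simp only [List.nil_append, List.mem_cons, List.not_mem_nil, or_false] at hc'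
        subst hc'
        exact hpc 6 7 (by decide) (comPair_b2' (by decide) (by decide) (by decide) (by decide)) a v

end b2four

/-- Theorem 10 for `B₂` over a field with three or four elements. -/
theorem thm10_B2_small {K : Type*} [Field K] [Fintype K] (hK : Fintype.card K = 3 ∨ Fintype.card K = 4)
    {G₁ E : Type*} [Group G₁] [Group E] (π₁ : E →* G₁) (hπ : Function.Surjective π₁)
    (hc : π₁.ker ≤ Subgroup.center E) (σ : chevB2.SteinbergCover K →* G₁) :
    ∃! τ : chevB2.SteinbergCover K →* E, π₁.comp τ = σ := by
  have hD := B2_mem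
  have hKv : chevB2 ∈ [chevB2, chevG2] → ∃ x : K, x ≠ 0 ∧ x ≠ 1 := by
    intro _
    rcases hK with hK | hK
    · obtain ⟨h2, -, -⟩ := three_facts hK
      refine ⟨-1, by simp, fun h => h2 ?_⟩
      have : (2 : K) = 1 - (-1) := by norm_num
      rw [this, h, sub_self]
    · obtain ⟨v, hv⟩ := four_facts hK
      refine ⟨v, hv.1, fun h => ?_⟩
      have h1 := (hv.2 1).1 (by rw [zpow_one, h])
      omega
  have hperf : commutator (chevB2.SteinbergCover K) = ⊤ := Cfsg.Agent.S2395.result chevB2 hD hKv
  have tf : TF chevB2 := tf_main hD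
  have hlt : TermLt chevB2 := Cfsg.Agent.Lib.Helper89.St3.termLt_of_mem hD
  refine lift_existsUnique_of_splitting chevB2 hlt hperf π₁ hπ hc σ ?_
  intro P ψ hψ hker
  have hH := hAct_main (coverModel (K := K) hD) hD
  rcases hK with hK | hK
  · obtain ⟨h2, h3, hv⟩ := three_facts hK
    have hinj : ∀ s < 8, ∀ t u : K, (coverModel (K := K) hD).X s t = (coverModel (K := K) hD).X s u → t = u := by
      intro s hs t u h
      have h1 := (coverModel (K := K) hD).hπ s hs t
      have h2' := (coverModel (K := K) hD).hπ s hs u
      rw [h] at h1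
      exact x_inj hD s hs t u (h1.symm.trans h2')
    exact exists_splitting_B2_three (coverModel (K := K) hD) tf (coverModel_gen hD) (act_main _ hD) hH hperf
      (Cfsg.Agent.Lib.Helper89.St3.idxLvl_of_mem hD) hlt (Cfsg.Agent.Lib.Helper89.St3.wSym_of_mem hD)
      (Cfsg.Agent.Lib.Helper89.St3.longest_of_mem hD) (Cfsg.Agent.Lib.Helper46.St3.tailInj hD _) hinj h2 h3 hv
      ψ hψ hker
  · obtain ⟨v, hv⟩ := four_facts hK
    have hpc := pairComm_of_comSep (coverModel (K := K) hD) hH ψ hψ hker hv comSep_B2_3
    have hsc := selfComm_B2_two (coverModel (K := K) hD) ψ hψ hker (two_eq_zero_of_card_four hK) hpc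
    exact exists_splitting_ord (coverModel (K := K) hD) tf (coverModel_gen hD) (act_main _ hD) hH hperf
      (Cfsg.Agent.Lib.Helper89.St3.idxLvl_of_mem hD) hlt (Cfsg.Agent.Lib.Helper89.St3.wSym_of_mem hD)
      (Cfsg.Agent.Lib.Helper89.St3.longest_of_mem hD) (Cfsg.Agent.Lib.Helper46.St3.tailInj hD _) ψ hψ hker
      hv hdN_B2_3 sepN_B2_3 hpc hsc

end Cfsg.Agent.Lib.Helper35.Small
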