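/-
helper35: project SMALL (S2103).  Steinberg's Theorem 10 for the datum `F₄` over the fields with three and four
elements: the group `Δ` presented by (R1), (R2) is centrally closed.
-/
import Cfsg.Agent.Lib.Helper35.SmallSplit
import Cfsg.Agent.Lib.Helper35.SmallField
import Cfsg.Agent.Lib.Helper90.SmallTF4
import Cfsg.Agent.Lib.Helper60.St3Cover
import Cfsg.Agent.Lib.Helper35.StMain2
import Cfsg.Agent.Lib.Helper35.StCover
import Cfsg.Agent.Lib.Helper89.St3Idx
import Cfsg.Agent.Lib.Helper89.St3WSym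
import Cfsg.Agent.Lib.Helper46.St3TailInj
import Cfsg.Agent.S2395

set_option autoImplicit false

namespace Cfsg.Agent.Lib.Helper35.Small

open Cfsg Cfsg.Lie Cfsg.Agent.Lib.Helper35.St Cfsg.Agent.Lib.Helper60.St3 Cfsg.Agent.Lib.Helper90.Small

theorem F4_mem : chevF4 ∈ [chevG2, chevB2, chevD4, chevF4, chevE6, chevE7, chevE8] := by simp

/-- Theorem 10 for `F₄` over a field with three or four elements. -/
theorem thm10_F4_small {K : Type*} [Field K] [Fintype K] (hK : Fintype.card K = 3 ∨ Fintype.card K = 4)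
    {G₁ E : Type*} [Group G₁] [Group E] (π₁ : E →* G₁) (hπ : Function.Surjective π₁)
    (hc : π₁.ker ≤ Subgroup.center E) (σ : chevF4.SteinbergCover K →* G₁) :
    ∃! τ : chevF4.SteinbergCover K →* E, π₁.comp τ = σ := by
  have hD := F4_mem
  have hKv : chevF4 ∈ [chevB2, chevG2] → ∃ x : K, x ≠ 0 ∧ x ≠ 1 := by
    intro h
    exfalso
    simp only [List.mem_cons, List.not_mem_nil, or_false] at h
    rcases h with h | h
    · exact absurd (congrArg ChevalleyDatum.rank h) (by decide)
    · exact absurd (congrArg ChevalleyDatum.rank h) (by decide)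
  have hperf : commutator (chevF4.SteinbergCover K) = ⊤ := Cfsg.Agent.S2395.result chevF4 hD hKv
  have tf : TF chevF4 := tf_main hD
  have hlt : TermLt chevF4 := Cfsg.Agent.Lib.Helper89.St3.termLt_of_mem hD
  refine lift_existsUnique_of_splitting chevF4 hlt hperf π₁ hπ hc σ ?_
  intro P ψ hψ hker
  have hH := hAct_main (coverModel (K := K) hD) hD
  rcases hK with hK | hK
  · obtain ⟨h2, h3, hv⟩ := three_facts hK
    have hpc := pairComm_of_comSepTop (coverModel (K := K) hD) hH ψ hψ hker hv h2 comSepTop_F4_2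
    have hsc := selfComm_of_three (coverModel (K := K) hD) ψ hψ hker h3
    exact exists_splitting_ord (coverModel (K := K) hD) tf (coverModel_gen hD) (act_main _ hD) hH hperf
      (Cfsg.Agent.Lib.Helper89.St3.idxLvl_of_mem hD) hlt (Cfsg.Agent.Lib.Helper89.St3.wSym_of_mem hD)
      (Cfsg.Agent.Lib.Helper89.St3.longest_of_mem hD) (Cfsg.Agent.Lib.Helper46.St3.tailInj hD _) ψ hψ hker
      hv hdN_F4_2 sepN_F4_2 hpc hsc
  · obtain ⟨v, hv⟩ := four_facts hK
    have hpc := pairComm_of_comSep (coverModel (K := K) hD) hH ψ hψ hker hv comSep_F4_3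
    have hsc := selfComm_of_allTop (coverModel (K := K) hD) ψ hψ hker hpc allTop_F4
    exact exists_splitting_ord (coverModel (K := K) hD) tf (coverModel_gen hD) (act_main _ hD) hH hperf
      (Cfsg.Agent.Lib.Helper89.St3.idxLvl_of_mem hD) hlt (Cfsg.Agent.Lib.Helper89.St3.wSym_of_mem hD)
      (Cfsg.Agent.Lib.Helper89.St3.longest_of_mem hD) (Cfsg.Agent.Lib.Helper46.St3.tailInj hD _) ψ hψ hker
      hv hdN_F4_3 sepN_F4_3 hpc hsc

end Cfsg.Agent.Lib.Helper35.Small
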