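-- helper35: S3358 (solvable Frobenius complements) from the statement of S4291 (Zassenhaus
-- structure theorem) plus the Z-group presentation.
import Mathlib
import Cfsg.Agent.S0494
import Cfsg.Agent.Lib.Helper35.FrobComplPQ

set_option autoImplicit false

namespace Cfsg.Agent.Lib.Helper35.SolvFC

open Cfsg Cfsg.Agent.Lib.Helper35.ZPres

universe u

/-- a group of order 4 embeds in `Perm (Fin 4)` (Cayley) -/
theorem exists_injective_perm_fin {X : Type*} [Group X] [Fintype X] (h : Fintype.card X = 4) :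
    ∃ j : X →* Equiv.Perm (Fin 4), Function.Injective j := by
  refine ⟨(Equiv.permCongrHom (Fintype.equivFinOfCardEq h)).toMonoidHom.comp
    (MulAction.toPermHom X X), ?_⟩
  exact (Equiv.permCongrHom (Fintype.equivFinOfCardEq h)).injective.comp
    MulAction.toPerm_injective

theorem not_isSolvable_alt5 : ¬ Group.IsSolvable (alternatingGroup (Fin 5)) := by
  intro hs
  have hsimple : IsSimpleGroup (alternatingGroup (Fin 5)) := alternatingGroup.isSimpleGroup (by simp)
  have hcomm := (IsSimpleGroup.comm_iff_isSolvable (G := alternatingGroup (Fin 5))).mpr hs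
  let _ : CommGroup (alternatingGroup (Fin 5)) :=
    { (inferInstance : Group (alternatingGroup (Fin 5))) with mul_comm := hcomm }
  have hp := IsSimpleGroup.prime_card (α := alternatingGroup (Fin 5))
  rw [Cfsg.Agent.S0494.card_alt5] at hp
  norm_num at hp

/-- kernel of a composition with an injective map -/
theorem ker_comp_of_injective {A B C : Type*} [Group A] [Group B] [Group C] (j : B →* C)
    (hj : Function.Injective j) (f : A →* B) : (j.comp f).ker = f.ker := by
  ext x
  rw [MonoidHom.mem_ker, MonoidHom.mem_ker, MonoidHom.comp_apply]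
  constructor
  · intro h; exact hj (h.trans (map_one j).symm)
  · intro h; rw [h, map_one]

/-- S3358 from the statement of S4291. -/
theorem result_of
    (h4291 : ∀ {G : Type u} [Group G] [Finite G],
      (∃ (L : Type) (_ : Group L) (_ : Finite L) (H : Subgroup L),
        Cfsg.IsFrobeniusComplement H ∧ Nonempty (G ≃* H)) →
      ∃! N : Subgroup G, N.Normal ∧ (∀ (p : ℕ) [Fact p.Prime] (P : Sylow p N), IsCyclic P) ∧
        (N = ⊤ ∨
          (∃ f : G →* DihedralGroup 2, Function.Surjective f ∧ f.ker = N) ∨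
          (∃ f : G →* alternatingGroup (Fin 4), Function.Surjective f ∧ f.ker = N) ∨
          (∃ f : G →* Equiv.Perm (Fin 4), Function.Surjective f ∧ f.ker = N) ∨
          (∃ f : G →* alternatingGroup (Fin 5), Function.Surjective f ∧ f.ker = N) ∨
          (∃ f : G →* Equiv.Perm (Fin 5), Function.Surjective f ∧ f.ker = N)))
    {G : Type u} [Group G] [Finite G] (hsol : Group.IsSolvable G)
    (hFC : ∃ (L : Type) (_ : Group L) (_ : Finite L) (H : Subgroup L),
      Cfsg.IsFrobeniusComplement H ∧ Nonempty (G ≃* H)) :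
    ∃ G₀ : Subgroup G, G₀.Normal ∧
      (∃ f : G →* Equiv.Perm (Fin 4), f.ker = G₀) ∧
      (∀ (p : ℕ) [Fact p.Prime] (P : Sylow p G₀), IsCyclic P) ∧
      ∃ n m r : ℕ, 0 < n ∧ 0 < m ∧ Nat.Coprime (r - 1) m ∧ Nat.Coprime n m ∧ 1 ≤ r ∧
        r ^ (n / ∏ p ∈ n.primeFactors, p) % m = 1 % m ∧
        Nonempty (G₀ ≃* PresentedGroup
          ({FreeGroup.of (0 : Fin 2) ^ n, FreeGroup.of (1 : Fin 2) ^ m,
            (FreeGroup.of (0 : Fin 2))⁻¹ * FreeGroup.of 1 * FreeGroup.of 0 *
              (FreeGroup.of (1 : Fin 2) ^ r)⁻¹} : Set (FreeGroup (Fin 2)))) := by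
  obtain ⟨N, ⟨hNn, hNcyc, hcases⟩, -⟩ := h4291 hFC
  have hf : ∃ f : G →* Equiv.Perm (Fin 4), f.ker = N := by
    rcases hcases with h | ⟨f, -, hk⟩ | ⟨f, -, hk⟩ | ⟨f, -, hk⟩ | ⟨f, hs, -⟩ | ⟨f, hs, -⟩
    · exact ⟨1, by rw [h]; exact MonoidHom.ker_one⟩
    · obtain ⟨j, hj⟩ := exists_injective_perm_fin (X := DihedralGroup 2)
        (by rw [DihedralGroup.card])
      exact ⟨j.comp f, by rw [ker_comp_of_injective j hj, hk]⟩
    · exact ⟨(alternatingGroup (Fin 4)).subtype.comp f, by
        rw [ker_comp_of_injective _ (Subgroup.subtype_injective _), hk]⟩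
    · exact ⟨f, hk⟩
    · exact absurd (Group.isSolvable_of_surjective hs) not_isSolvable_alt5
    · exact absurd (Group.isSolvable_of_surjective hs) Equiv.Perm.not_isSolvable_fin_5
  have hZ : IsZGroup N := ⟨fun p hp P => by
    have : Fact p.Prime := ⟨hp⟩
    exact hNcyc p P⟩
  have hPQ : PQ N := (pq_of_frobenius_complement hFC).subgroup N
  obtain ⟨n, m, r, h1, h2, h3, h4, h5, h6, h7⟩ := exists_presentation hPQ
  exact ⟨N, hNn, hf, hNcyc, n, m, r, h1, h2, h3, h4, h5, h6, h7⟩

end Cfsg.Agent.Lib.Helper35.SolvFC
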