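/-
helper35: project STEIN (S2107 etc.): for the simply-laced data `E₆`, `E₇`, `E₈` the group presented by (R1), (R2) is
centrally closed over EVERY field (M. Stein's argument, no torus needed).  For a central extension `ψ : E → Γ` of a
Steinberg model `Γ` the canonical lifts of the root elements are brackets of lifts
`z_ζ(t) = [lift X_d(1), lift X_c(∓ t)]`, `ζ = c + d`; all table facts used are collected here.
-/
import Cfsg.Agent.Lib.Helper60.St3Defs
import Cfsg.Agent.Lib.Helper53.CentralLift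

set_option autoImplicit false

namespace Cfsg.Agent.Lib.Helper35.Stein

open Cfsg.Lie Cfsg.Agent.Lib.Helper35.St Cfsg.Agent.Lib.Helper60.St3 Cfsg.Agent.Lib.Helper53.CLift

universe u v w

/-! ### Table facts (datum only) -/

/-- `c + d = a` with structure constant `C = ± 1`: the commutator formula of `(c, d)` is the single term `(a, C, 1, 1)`. -/
def IsSum (D : ChevalleyDatum) (c d a : ℕ) (C : ℤ) : Prop :=
  c < D.nroots ∧ d < D.nroots ∧ a < D.nroots ∧ d ≠ c ∧ d ≠ D.neg c ∧ (C = 1 ∨ C = -1) ∧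
    D.commTerms c d = [(a, C, 1, 1)]

/-- Simply-laced: every commutator formula is empty or a single term with coefficient `± 1`. -/
def SL0 (D : ChevalleyDatum) : Prop :=
  ∀ r s, r < D.nroots → s < D.nroots → s ≠ r → s ≠ D.neg r → D.commTerms r s = [] ∨ ∃ a C, IsSum D r s a C

/-- `a = c + d` commutes with `c` and with `d`, and the structure constants are antisymmetric. -/
def SLTop (D : ChevalleyDatum) : Prop :=
  ∀ c d a C, IsSum D c d a C → ComPair D a c ∧ ComPair D a d ∧ IsSum D d c a (-C)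

/-- Certificate for the commutation of lifts: if `a`, `b` commute (`b ≠ ± a`, `a + b` not a root) then `a = c + d` with
`c` and `d` commuting with `b`. -/
def ComCert (D : ChevalleyDatum) : Prop :=
  ∀ a b, a < D.nroots → ComPair D a b → ∃ c d C, IsSum D c d a C ∧ ComPair D b c ∧ ComPair D b d

/-- Two decompositions `ζ = c + d = c' + d'` linked by a root `β`: `c = c' + β`, `d' = β + d` (so
`ζ = c' + β + d` is a chain of type `A₃` with `d`, `c'` orthogonal), with the sign identity of the structure constants. -/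
def Link (D : ChevalleyDatum) (c d c' d' ζ : ℕ) : Prop :=
  ∃ (β : ℕ) (C C' C₁ C₂ : ℤ), IsSum D c d ζ C ∧ IsSum D c' d' ζ C' ∧ IsSum D c' β c C₁ ∧ IsSum D β d d' C₂ ∧
    ComPair D d c' ∧ ComPair D d' c ∧ C * C₁ * C₂ * C' = 1

/-- Every root `ζ` has a hub decomposition `(c₀, d₀)`, a third decomposition, and every decomposition of `ζ` is the
hub, its swap, or linked to one of them. -/
def HubCert (D : ChevalleyDatum) : Prop :=
  ∀ ζ, ζ < D.nroots → ∃ c₀ d₀ C₀, IsSum D c₀ d₀ ζ C₀ ∧
    (∃ c d C, IsSum D c d ζ C ∧ ¬ (c = c₀ ∧ d = d₀) ∧ ¬ (c = d₀ ∧ d = c₀)) ∧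
    ∀ c d C, IsSum D c d ζ C →
      (c = c₀ ∧ d = d₀) ∨ (c = d₀ ∧ d = c₀) ∨ Link D c d c₀ d₀ ζ ∨ Link D c d d₀ c₀ ζ

/-- All the table facts of the argument. -/
structure SLCert (D : ChevalleyDatum) : Prop where
  sl0 : SL0 D
  top : SLTop D
  com : ComCert D
  hub : HubCert D

/-! ### Brackets of lifts -/

variable {D : ChevalleyDatum} {K : Type u} [Field K] {Γ : Type v} [Group Γ] {E : Type w} [Group E]

/-- The bracket `[ℓ X_d(u), ℓ X_c(t)]` of the chosen lifts: a lift of `X_{c+d}(-C t u)`. -/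
def Y (M : Model D K Γ) (ℓ : Γ → E) (c d : ℕ) (t u : K) : E := cm (ℓ (M.X d u)) (ℓ (M.X c t))

/-- The normalised bracket: a lift of `X_{c+d}(t)` (for `IsSum D c d _ C`). -/
def Z (M : Model D K Γ) (ℓ : Γ → E) (c d : ℕ) (C : ℤ) (t : K) : E := Y M ℓ c d (-(C : K) * t) 1

end Cfsg.Agent.Lib.Helper35.Stein
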