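/-
helper35: project STEIN, basic facts: commuting root elements, the bracket formula in a Steinberg model, images of the
brackets of lifts.
-/
import Cfsg.Agent.Lib.Helper35.SteinDefs
import Cfsg.Agent.Lib.Helper31.StBasic

set_option autoImplicit false

namespace Cfsg.Agent.Lib.Helper35.Stein

open Cfsg.Lie Cfsg.Agent.Lib.Helper35.St Cfsg.Agent.Lib.Helper60.St3 Cfsg.Agent.Lib.Helper53.CLift

universe u v w

variable {D : ChevalleyDatum} {K : Type u} [Field K] {Γ : Type v} [Group Γ] {E : Type w} [Group E]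

theorem isSum_unique {c d a a' : ℕ} {C C' : ℤ} (h : IsSum D c d a C) (h' : IsSum D c d a' C') :
    a = a' ∧ C = C' := by
  have e := h.2.2.2.2.2.2.symm.trans h'.2.2.2.2.2.2
  simp only [List.cons.injEq, Prod.mk.injEq, and_true] at e
  exact ⟨e.1, e.2⟩

theorem sq_cast {C : ℤ} (h : C = 1 ∨ C = -1) : ((C : K)) * (C : K) = 1 := by
  rcases h with rfl | rfl <;> simp

/-- Root elements of a commuting pair of roots commute. -/
theorem X_comm_of_comPair (M : Model D K Γ) {a b : ℕ} (ha : a < D.nroots) (h : ComPair D a b) (t u : K) :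
    M.X a t * M.X b u = M.X b u * M.X a t := by
  obtain ⟨hb, h1, h2, h3⟩ := h
  have := M.comm a b ha hb h1 h2 t u
  unfold ChevalleyDatum.commWord at this
  rw [h3] at this
  simp only [List.map_nil, List.prod_nil] at this
  calc M.X a t * M.X b u = M.X a t * M.X b u * ((M.X b u)⁻¹ * (M.X a t)⁻¹ * M.X b u * M.X a t) := by
        rw [this, mul_one]
    _ = M.X b u * M.X a t := by group

/-- The bracket formula: `[X_d(u), X_c(t)] = X_{c+d}(-C t u)` with `[x, y] = x y x⁻¹ y⁻¹`. -/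
theorem cm_X (M : Model D K Γ) {c d a : ℕ} {C : ℤ} (hs : IsSum D c d a C) (t u : K) :
    cm (M.X d u) (M.X c t) = M.X a (-(C : K) * t * u) := by
  obtain ⟨hc, hd, ha, h1, h2, -, h3⟩ := hs
  have := M.comm c d hc hd h1 h2 (-t) (-u)
  unfold ChevalleyDatum.commWord at this
  rw [h3] at this
  simp only [List.map_cons, List.map_nil, List.prod_cons, List.prod_nil, mul_one, pow_one, neg_neg] at this
  rw [← Cfsg.Agent.Lib.Helper31.St.X_inv M hd, ← Cfsg.Agent.Lib.Helper31.St.X_inv M hc, inv_inv, inv_inv] at this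
  unfold cm
  rw [this]
  congr 1
  ring

/-- The bracket of the chosen lifts lies over `X_{c+d}(-C t u)`. -/
theorem map_Y (M : Model D K Γ) (ψ : E →* Γ) (ℓ : Γ → E) (hℓ : ∀ g, ψ (ℓ g) = g)
    {c d a : ℕ} {C : ℤ} (hs : IsSum D c d a C) (t u : K) :
    ψ (Y M ℓ c d t u) = M.X a (-(C : K) * t * u) := by
  unfold Y
  rw [map_cm, hℓ, hℓ, cm_X M hs]

/-- Any two lifts give the same bracket. -/
theorem cm_eq_Y (M : Model D K Γ) (ψ : E →* Γ) (hc : ψ.ker ≤ Subgroup.center E) (ℓ : Γ → E)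
    (hℓ : ∀ g, ψ (ℓ g) = g) (c d : ℕ) (t u : K) (x y : E) (hx : ψ x = M.X d u) (hy : ψ y = M.X c t) :
    cm x y = Y M ℓ c d t u := by
  unfold Y
  exact cm_eq_of_map_eq ψ hc (by rw [hx, hℓ]) (by rw [hy, hℓ])

/-- If `u w = w u`, `[u, v]` commutes with `[v, w]`, and `[[u, v], w]` commutes with `[v, w]`, then
`[u, [v, w]] = [[u, v], w]`. -/
theorem cm_assoc_of_comm {G : Type*} [Group G] (u v w : G) (h1 : u * w = w * u)
    (h2 : cm u v * cm v w = cm v w * cm u v) (h3 : cm (cm u v) w * cm v w = cm v w * cm (cm u v) w) :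
    cm u (cm v w) = cm (cm u v) w := by
  have e1 : u * cm v w * u⁻¹ = cm u (cm v w) * cm v w := conj_eq_cm_mul u (cm v w)
  have e2 : u * cm v w * u⁻¹ = cm (cm u v * v) w := by
    rw [conj_cm]
    have a1 : u * v * u⁻¹ = cm u v * v := conj_eq_cm_mul u v
    have a2 : u * w * u⁻¹ = w := by rw [h1, mul_inv_cancel_right]
    rw [a1, a2]
  have e3 : cm (cm u v * v) w = cm v w * cm (cm u v) w := by
    rw [cm_mul_left]
    have : cm u v * cm v w * (cm u v)⁻¹ = cm v w := by rw [h2, mul_inv_cancel_right]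
    rw [this]
  have : cm u (cm v w) * cm v w = cm (cm u v) w * cm v w := by
    rw [← e1, e2, e3, h3]
  exact mul_right_cancel this

end Cfsg.Agent.Lib.Helper35.Stein
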