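/-
helper35: project STEIN, abstract core: for a central extension `ψ : E → Γ` of a Steinberg model of a simply-laced
datum with the table certificate `SLCert D` there are lifts `z r t` of the root elements satisfying (R1) and (R2)
(M. Stein's argument; no condition on the field).
-/
import Cfsg.Agent.Lib.Helper35.SteinBasic

set_option autoImplicit false

namespace Cfsg.Agent.Lib.Helper35.Stein

open Cfsg.Lie Cfsg.Agent.Lib.Helper35.St Cfsg.Agent.Lib.Helper60.St3 Cfsg.Agent.Lib.Helper53.CLift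

universe u v w

variable {D : ChevalleyDatum} {K : Type u} [Field K] {Γ : Type v} [Group Γ] {E : Type w} [Group E]

/-- Elements with the same image commute with the same elements. -/
theorem comm_of_map_eq (ψ : E →* Γ) (hc : ψ.ker ≤ Subgroup.center E) {x x' y : E} (h : ψ x = ψ x')
    (hxy : x' * y = y * x') : x * y = y * x := by
  have hk : ψ (x'⁻¹ * x) = 1 := by rw [map_mul, map_inv, h, inv_mul_cancel]
  have hcen := comm_of_map_eq_one ψ hc hk
  have hx : x = x' * (x'⁻¹ * x) := by group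
  rw [hx]
  calc x' * (x'⁻¹ * x) * y = x' * ((x'⁻¹ * x) * y) := by group
    _ = x' * (y * (x'⁻¹ * x)) := by rw [hcen y]
    _ = (x' * y) * (x'⁻¹ * x) := by group
    _ = (y * x') * (x'⁻¹ * x) := by rw [hxy]
    _ = y * (x' * (x'⁻¹ * x)) := by group

/-- An element commuting with `x` and `y` commutes with `[x, y]`. -/
theorem comm_cm_of_comm' {G : Type*} [Group G] {g x y : G} (h1 : g * x = x * g) (h2 : g * y = y * g) :
    g * cm x y = cm x y * g := by
  have h1' : g * x⁻¹ = x⁻¹ * g := by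
    calc g * x⁻¹ = x⁻¹ * (x * g) * x⁻¹ := by group
      _ = x⁻¹ * (g * x) * x⁻¹ := by rw [h1]
      _ = x⁻¹ * g := by group
  have h2' : g * y⁻¹ = y⁻¹ * g := by
    calc g * y⁻¹ = y⁻¹ * (y * g) * y⁻¹ := by group
      _ = y⁻¹ * (g * y) * y⁻¹ := by rw [h2]
      _ = y⁻¹ * g := by group
  unfold cm
  calc g * (x * y * x⁻¹ * y⁻¹) = (g * x) * y * x⁻¹ * y⁻¹ := by group
    _ = x * (g * y) * x⁻¹ * y⁻¹ := by rw [h1]; group
    _ = x * y * (g * x⁻¹) * y⁻¹ := by rw [h2]; group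
    _ = x * y * x⁻¹ * (g * y⁻¹) := by rw [h1']; group
    _ = x * y * x⁻¹ * y⁻¹ * g := by rw [h2']; group

/-- STEIN-[PC]: lifts of commuting root elements commute. -/
theorem pairComm_of_cert (M : Model D K Γ) (ψ : E →* Γ) (hψ : Function.Surjective ψ)
    (hc : ψ.ker ≤ Subgroup.center E) (h : ComCert D) : PairComm M ψ := by
  intro a b ha hab t u x y hx hy
  obtain ⟨c, d, C, hs, hbc, hbd⟩ := h a b ha hab
  obtain ⟨β, hβ⟩ := hψ (M.X d 1)
  obtain ⟨δ, hδ⟩ := hψ (M.X c (-(C : K) * t))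
  have hb : b < D.nroots := hab.1
  have h1 : ψ y * ψ β = ψ β * ψ y := by
    rw [hy, hβ]; exact X_comm_of_comPair M hb hbd u 1
  have h2 : ψ y * ψ δ = ψ δ * ψ y := by
    rw [hy, hδ]; exact X_comm_of_comPair M hb hbc u _
  have h3 : y * cm β δ = cm β δ * y := comm_cm_of_comm ψ hc h1 h2
  have h4 : ψ x = ψ (cm β δ) := by
    rw [hx, map_cm, hβ, hδ, cm_X M hs]
    congr 1
    have := sq_cast (K := K) hs.2.2.2.2.2.1
    calc t = ((C : K) * (C : K)) * t := by rw [this, one_mul]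
      _ = -(C : K) * (-(C : K) * t) * 1 := by ring
  exact comm_of_map_eq ψ hc h4 h3.symm

section bi

variable (M : Model D K Γ) (ψ : E →* Γ) (hc : ψ.ker ≤ Subgroup.center E) (ℓ : Γ → E)
  (hℓ : ∀ g, ψ (ℓ g) = g) (hPC : PairComm M ψ) (hT : SLTop D)

include hc hℓ hPC hT

/-- STEIN-[BI]: additivity of the bracket in the parameter of `X_c`. -/
theorem Y_add_left {c d a : ℕ} {C : ℤ} (hs : IsSum D c d a C)
    (t t' u : K) : Y M ℓ c d (t + t') u = Y M ℓ c d t u * Y M ℓ c d t' u := by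
  obtain ⟨hac, -, -⟩ := hT c d a C hs
  have ha := hs.2.2.1
  have hcl := hs.1
  set x := ℓ (M.X d u) with hx
  set y := ℓ (M.X c t) with hy
  set y' := ℓ (M.X c t') with hy'
  have e1 : Y M ℓ c d (t + t') u = cm x (y * y') := by
    unfold Y
    apply cm_eq_of_map_eq ψ hc rfl
    rw [map_mul, hℓ, hℓ, hℓ, M.add c hcl]
  have hcomm : cm x y' * y = y * cm x y' := by
    have hm : ψ (cm x y') = M.X a (-(C : K) * t' * u) := map_Y M ψ ℓ hℓ hs t' u
    exact hPC a c ha hac _ t _ _ hm (hℓ _)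
  have e2 : y * cm x y' * y⁻¹ = cm x y' := by
    rw [← hcomm, mul_inv_cancel_right]
  rw [e1, cm_mul_right, e2]
  rfl

/-- STEIN-[BI]: additivity of the bracket in the parameter of `X_d`. -/
theorem Y_add_right {c d a : ℕ} {C : ℤ} (hs : IsSum D c d a C)
    (t u u' : K) : Y M ℓ c d t (u + u') = Y M ℓ c d t u * Y M ℓ c d t u' := by
  obtain ⟨hac, had, -⟩ := hT c d a C hs
  have ha := hs.2.2.1
  have hdl := hs.2.1
  set x := ℓ (M.X d u) with hx
  set x' := ℓ (M.X d u') with hx'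
  set y := ℓ (M.X c t) with hy
  have e1 : Y M ℓ c d t (u + u') = cm (x * x') y := by
    unfold Y
    apply cm_eq_of_map_eq ψ hc _ rfl
    rw [map_mul, hℓ, hℓ, hℓ, M.add d hdl]
  have hm : ψ (cm x' y) = M.X a (-(C : K) * t * u') := map_Y M ψ ℓ hℓ hs t u'
  have hcx : cm x' y * x = x * cm x' y := hPC a d ha had _ u _ _ hm (hℓ _)
  have hcy : cm x' y * y = y * cm x' y := hPC a c ha hac _ t _ _ hm (hℓ _)
  have e2 : x * cm x' y * x⁻¹ = cm x' y := by
    rw [← hcx, mul_inv_cancel_right]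
  have e3 : cm x' y * cm x y = cm x y * cm x' y := comm_cm_of_comm' hcx hcy
  rw [e1, cm_mul_left, e2, e3]
  rfl

/-- STEIN-[LINK]: the identity `[u, [v, w]] = [[u, v], w]` for the lifts along a chain `ζ = c' + β + d`. -/
theorem link_identity {c d c' d' ζ β : ℕ} {C C' C₁ C₂ : ℤ}
    (h1 : IsSum D c d ζ C) (h2 : IsSum D c' d' ζ C') (h3 : IsSum D c' β c C₁) (h4 : IsSum D β d d' C₂)
    (h5 : ComPair D d c') (h6 : ComPair D d' c) (t u v : K) :
    Y M ℓ c d (-(C₁ : K) * u * v) t = Y M ℓ c' d' v (-(C₂ : K) * t * u) := by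
  obtain ⟨hζc, -, -⟩ := hT c d ζ C h1
  set uu := ℓ (M.X d t) with huu
  set vv := ℓ (M.X β u) with hvv
  set ww := ℓ (M.X c' v) with hww
  have m1 : ψ (cm uu vv) = M.X d' (-(C₂ : K) * u * t) := by
    rw [map_cm, hℓ, hℓ, cm_X M h4]
  have m2 : ψ (cm vv ww) = M.X c (-(C₁ : K) * v * u) := by
    rw [map_cm, hℓ, hℓ, cm_X M h3]
  have m3 : ψ (cm (cm uu vv) ww) = M.X ζ (-(C' : K) * v * (-(C₂ : K) * u * t)) := by
    rw [map_cm, m1, hℓ, cm_X M h2]
  have a1 : uu * ww = ww * uu := hPC d c' h1.2.1 h5 t v _ _ (hℓ _) (hℓ _)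
  have a2 : cm uu vv * cm vv ww = cm vv ww * cm uu vv := hPC d' c h2.2.1 h6 _ _ _ _ m1 m2
  have a3 : cm (cm uu vv) ww * cm vv ww = cm vv ww * cm (cm uu vv) ww :=
    hPC ζ c h1.2.2.1 hζc _ _ _ _ m3 m2
  have key := cm_assoc_of_comm uu vv ww a1 a2 a3
  have l1 : cm uu (cm vv ww) = Y M ℓ c d (-(C₁ : K) * v * u) t :=
    cm_eq_Y M ψ hc ℓ hℓ c d _ t _ _ (hℓ _) m2
  have l2 : cm (cm uu vv) ww = Y M ℓ c' d' v (-(C₂ : K) * u * t) :=
    cm_eq_Y M ψ hc ℓ hℓ c' d' v _ _ _ m1 (hℓ _)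
  rw [l1, l2] at key
  have r1 : -(C₁ : K) * u * v = -(C₁ : K) * v * u := by ring
  have r2 : -(C₂ : K) * t * u = -(C₂ : K) * u * t := by ring
  rw [r1, r2]
  exact key

end bi

omit [Group E] in
/-- pure algebra: scaling from a link identity -/
theorem scale_of_link (F G : K → K → E) (e₁ e₂ : K) (h₁ : e₁ * e₁ = 1) (h₂ : e₂ * e₂ = 1)
    (h : ∀ t u v, F (e₁ * u * v) t = G v (e₂ * t * u)) :
    (∀ x y, F x y = F (x * y) 1) ∧ (∀ x y, G x y = G (x * y) 1) ∧ (∀ x, G x 1 = F (e₁ * e₂ * x) 1) := by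
  have hG : ∀ x y, G x y = F (e₁ * x) (e₂ * y) := by
    intro x y
    have := h (e₂ * y) 1 x
    rw [mul_one, mul_one, ← mul_assoc, h₂, one_mul] at this
    exact this.symm
  have hF' : ∀ u v t, F (e₁ * u * v) t = F (e₁ * v) (t * u) := by
    intro u v t
    rw [h t u v, hG, ← mul_assoc, ← mul_assoc, h₂, one_mul]
  have hF : ∀ x y, F x y = F (x * y) 1 := by
    intro x y
    have := hF' y (e₁ * x) 1
    have a1 : e₁ * y * (e₁ * x) = x * y := by
      calc e₁ * y * (e₁ * x) = (e₁ * e₁) * (x * y) := by ring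
        _ = x * y := by rw [h₁, one_mul]
    have a2 : e₁ * (e₁ * x) = x := by rw [← mul_assoc, h₁, one_mul]
    rw [a1, a2, one_mul] at this
    exact this.symm
  refine ⟨hF, ?_, ?_⟩
  · intro x y
    rw [hG, hG, hF (e₁ * x), hF (e₁ * (x * y))]
    congr 1
    ring
  · intro x
    rw [hG, hF]
    congr 1
    ring

/-- the scaling property of the bracket of the decomposition `(c, d)`. -/
def Good (M : Model D K Γ) (ℓ : Γ → E) (c d : ℕ) : Prop := ∀ x y : K, Y M ℓ c d x y = Y M ℓ c d (x * y) 1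

section main

variable (M : Model D K Γ) (ψ : E →* Γ) (hc : ψ.ker ≤ Subgroup.center E) (ℓ : Γ → E)
  (hℓ : ∀ g, ψ (ℓ g) = g) (hPC : PairComm M ψ) (hT : SLTop D)

include hc hℓ hPC hT

theorem link_good {c d c' d' ζ : ℕ} (hL : Link D c d c' d' ζ) {C C' : ℤ} (hs : IsSum D c d ζ C)
    (hs' : IsSum D c' d' ζ C') :
    Good M ℓ c d ∧ Good M ℓ c' d' ∧ ∀ t : K, Z M ℓ c' d' C' t = Z M ℓ c d C t := by
  obtain ⟨β, C0, C0', C₁, C₂, h1, h2, h3, h4, h5, h6, hsign⟩ := hL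
  obtain ⟨-, rfl⟩ := isSum_unique hs h1
  obtain ⟨-, rfl⟩ := isSum_unique hs' h2
  have key := scale_of_link (Y M ℓ c d) (Y M ℓ c' d') (-(C₁ : K)) (-(C₂ : K))
    (by rw [neg_mul_neg]; exact sq_cast h3.2.2.2.2.2.1) (by rw [neg_mul_neg]; exact sq_cast h4.2.2.2.2.2.1)
    (fun t u v => link_identity M ψ hc ℓ hℓ hPC hT h1 h2 h3 h4 h5 h6 t u v)
  refine ⟨key.1, key.2.1, fun t => ?_⟩
  unfold Z
  rw [key.2.2]
  congr 1
  have hC : (C : K) * C = 1 := sq_cast h1.2.2.2.2.2.1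
  have hsK : (C : K) * C₁ * C₂ * C' = 1 := by exact_mod_cast congrArg (Int.cast : ℤ → K) hsign
  calc -(C₁ : K) * -(C₂ : K) * (-(C' : K) * t) = -((C : K) * C) * ((C₁ : K) * C₂ * C') * t := by
        rw [hC]; ring
    _ = -(C : K) * ((C : K) * C₁ * C₂ * C') * t := by ring
    _ = -(C : K) * t := by rw [hsK, mul_one]

theorem Y_zero_left {c d a : ℕ} {C : ℤ} (hs : IsSum D c d a C) (u : K) : Y M ℓ c d 0 u = 1 := by
  have := Y_add_left M ψ hc ℓ hℓ hPC hT hs 0 0 u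
  rw [add_zero] at this
  exact (mul_eq_left.mp this.symm)

theorem Y_neg_left {c d a : ℕ} {C : ℤ} (hs : IsSum D c d a C) (t u : K) :
    Y M ℓ c d (-t) u = (Y M ℓ c d t u)⁻¹ := by
  have := Y_add_left M ψ hc ℓ hℓ hPC hT hs t (-t) u
  rw [add_neg_cancel, Y_zero_left M ψ hc ℓ hℓ hPC hT hs] at this
  exact (inv_eq_of_mul_eq_one_right this.symm).symm

omit hc hℓ hPC hT in
theorem Y_swap (c d : ℕ) (t u : K) : Y M ℓ d c t u = (Y M ℓ c d u t)⁻¹ := by
  unfold Y cm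
  group

theorem swap_good {c d ζ : ℕ} {C : ℤ} (hs : IsSum D c d ζ C) (hg : Good M ℓ c d) :
    Good M ℓ d c ∧ ∀ t : K, Z M ℓ d c (-C) t = Z M ℓ c d C t := by
  constructor
  · intro x y
    rw [Y_swap, Y_swap M ℓ c d (x * y) 1, hg y x, hg 1 (x * y), one_mul, mul_comm]
  · intro t
    unfold Z
    rw [Y_swap, hg, one_mul, ← Y_neg_left M ψ hc ℓ hℓ hPC hT hs]
    congr 1
    push_cast
    ring

end main

/-- STEIN-[MAIN]: the canonical lifts. -/
theorem exists_lifts (M : Model D K Γ) (ψ : E →* Γ) (hψ : Function.Surjective ψ)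
    (hc : ψ.ker ≤ Subgroup.center E) (cert : SLCert D) :
    ∃ z : ℕ → K → E, (∀ s, s < D.nroots → ∀ t : K, ψ (z s t) = M.X s t) ∧
      (∀ s, s < D.nroots → ∀ t u : K, z s t * z s u = z s (t + u)) ∧ R2E D K z := by
  classical
  have hPC := pairComm_of_cert M ψ hψ hc cert.com
  have hT := cert.top
  choose ℓ hℓ using hψ
  choose c₀ d₀ C₀ h0 h3 hall using cert.hub
  let z : ℕ → K → E := fun ζ t => if h : ζ < D.nroots then Z M ℓ (c₀ ζ h) (d₀ ζ h) (C₀ ζ h) t else 1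
  have hz : ∀ ζ (h : ζ < D.nroots) t, z ζ t = Z M ℓ (c₀ ζ h) (d₀ ζ h) (C₀ ζ h) t := by
    intro ζ h t
    simp only [z, dif_pos h]
  -- the hub is good
  have hub_good : ∀ ζ (h : ζ < D.nroots), Good M ℓ (c₀ ζ h) (d₀ ζ h) := by
    intro ζ h
    obtain ⟨c, d, C, hs, hn1, hn2⟩ := h3 ζ h
    rcases hall ζ h c d C hs with h' | h' | hL | hL
    · exact (hn1 h').elim
    · exact (hn2 h').elim
    · exact (link_good M ψ hc ℓ hℓ hPC hT hL hs (h0 ζ h)).2.1
    · have hs0 := (hT _ _ _ _ (h0 ζ h)).2.2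
      have hg := (link_good M ψ hc ℓ hℓ hPC hT hL hs hs0).2.1
      have := (swap_good M ψ hc ℓ hℓ hPC hT hs0 hg).1
      exact this
  -- every decomposition gives the hub value
  have hub_value : ∀ ζ (h : ζ < D.nroots) c d C, IsSum D c d ζ C →
      Good M ℓ c d ∧ ∀ t : K, Z M ℓ c d C t = z ζ t := by
    intro ζ h c d C hs
    have hg0 := hub_good ζ h
    have hs0 := h0 ζ h
    have hs0' := (hT _ _ _ _ hs0).2.2
    have hsw := swap_good M ψ hc ℓ hℓ hPC hT hs0 hg0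
    rcases hall ζ h c d C hs with ⟨rfl, rfl⟩ | ⟨rfl, rfl⟩ | hL | hL
    · obtain ⟨-, rfl⟩ := isSum_unique hs hs0
      exact ⟨hg0, fun t => (hz ζ h t).symm⟩
    · obtain ⟨-, rfl⟩ := isSum_unique hs hs0'
      exact ⟨hsw.1, fun t => by rw [hsw.2 t, hz ζ h t]⟩
    · have := link_good M ψ hc ℓ hℓ hPC hT hL hs hs0
      exact ⟨this.1, fun t => by rw [← this.2.2 t, hz ζ h t]⟩
    · have := link_good M ψ hc ℓ hℓ hPC hT hL hs hs0'
      exact ⟨this.1, fun t => by rw [← this.2.2 t, hsw.2 t, hz ζ h t]⟩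
  have hlift : ∀ s, s < D.nroots → ∀ t : K, ψ (z s t) = M.X s t := by
    intro s hs t
    rw [hz s hs]
    unfold Z
    rw [map_Y M ψ ℓ hℓ (h0 s hs)]
    congr 1
    have := sq_cast (K := K) (h0 s hs).2.2.2.2.2.1
    calc -((C₀ s hs : ℤ) : K) * (-((C₀ s hs : ℤ) : K) * t) * 1
        = (((C₀ s hs : ℤ) : K) * ((C₀ s hs : ℤ) : K)) * t := by ring
      _ = t := by rw [this, one_mul]
  have hadd : ∀ s, s < D.nroots → ∀ t u : K, z s t * z s u = z s (t + u) := by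
    intro s hs t u
    rw [hz s hs, hz s hs, hz s hs]
    unfold Z
    rw [mul_add]
    exact (Y_add_left M ψ hc ℓ hℓ hPC hT (h0 s hs) _ _ _).symm
  refine ⟨z, hlift, hadd, ?_⟩
  intro r s hr hs hsr hsn t u
  have hinv : ∀ a, a < D.nroots → ∀ x : K, ψ ((z a x)⁻¹) = M.X a (-x) := by
    intro a ha x
    rw [map_inv, hlift a ha, Cfsg.Agent.Lib.Helper31.St.X_inv M ha]
  rcases cert.sl0 r s hr hs hsr hsn with h | ⟨ζ, C, hsum⟩
  · have hcomm : z r t * z s u = z s u * z r t :=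
      hPC r s hr ⟨hs, hsr, hsn, h⟩ t u _ _ (hlift r hr t) (hlift s hs u)
    unfold ChevalleyDatum.commWord
    rw [h]
    simp only [List.map_nil, List.prod_nil]
    calc (z s u)⁻¹ * (z r t)⁻¹ * z s u * z r t = (z s u)⁻¹ * (z r t)⁻¹ * (z s u * z r t) := by group
      _ = (z s u)⁻¹ * (z r t)⁻¹ * (z r t * z s u) := by rw [hcomm]
      _ = 1 := by group
  · have hζ := hsum.2.2.1
    obtain ⟨hg, hv⟩ := hub_value ζ hζ r s C hsum
    unfold ChevalleyDatum.commWord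
    rw [hsum.2.2.2.2.2.2]
    simp only [List.map_cons, List.map_nil, List.prod_cons, List.prod_nil, mul_one, pow_one]
    have e1 : (z s u)⁻¹ * (z r t)⁻¹ * z s u * z r t = cm ((z s u)⁻¹) ((z r t)⁻¹) := by
      unfold cm; group
    rw [e1, cm_eq_Y M ψ hc ℓ hℓ r s (-t) (-u) _ _ (hinv s hs u) (hinv r hr t), hg, ← hv]
    unfold Z
    congr 1
    have := sq_cast (K := K) hsum.2.2.2.2.2.1
    calc -t * -u = ((C : K) * (C : K)) * (t * u) := by rw [this]; ring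
      _ = -(C : K) * ((C : K) * -t * u) := by ring

end Cfsg.Agent.Lib.Helper35.Stein
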