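/-
helper35: project STEIN: Steinberg's Theorem 10 for a simply-laced datum with the certificate `SLCert D`, over EVERY
field: homomorphisms from the group presented by (R1), (R2) lift uniquely through central extensions.
-/
import Cfsg.Agent.Lib.Helper35.SteinCore
import Cfsg.Agent.Lib.Helper35.StCover
import Cfsg.Agent.Lib.Helper60.St3Cover
import Cfsg.Agent.S2395

set_option autoImplicit false

namespace Cfsg.Agent.Lib.Helper35.Stein

open Cfsg.Lie Cfsg.Agent.Lib.Helper35.St Cfsg.Agent.Lib.Helper60.St3 Cfsg.Agent.Lib.Helper53.CLift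

universe u v w

theorem termLt_of_sl0 {D : ChevalleyDatum} (h : SL0 D) : TermLt D := by
  intro r s hr hs hsr hsn c hc
  rcases h r s hr hs hsr hsn with h0 | ⟨a, C, hsum⟩
  · rw [h0] at hc
    exact absurd hc (List.not_mem_nil)
  · rw [hsum.2.2.2.2.2.2, List.mem_singleton] at hc
    rw [hc]
    exact hsum.2.2.1

/-- Theorem 10 (universality of the group presented by (R1), (R2)) from the simply-laced certificate; any field. -/
theorem thm10_of_cert {K : Type u} [Field K] {D : ChevalleyDatum}
    (hD : D ∈ [chevG2, chevB2, chevD4, chevF4, chevE6, chevE7, chevE8]) (hD' : D ∉ [chevB2, chevG2])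
    (cert : SLCert D)
    {G₁ : Type v} {E : Type w} [Group G₁] [Group E] (π₁ : E →* G₁) (hπ : Function.Surjective π₁)
    (hc : π₁.ker ≤ Subgroup.center E) (σ : D.SteinbergCover K →* G₁) :
    ∃! τ : D.SteinbergCover K →* E, π₁.comp τ = σ := by
  have hperf : commutator (D.SteinbergCover K) = ⊤ :=
    Cfsg.Agent.S2395.result D hD (fun h => absurd h hD')
  refine lift_existsUnique_of_splitting D (termLt_of_sl0 cert.sl0) hperf π₁ hπ hc σ ?_
  intro P ψ hψ hker
  exact exists_lifts (coverModel (K := K) hD) ψ hψ hker cert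

end Cfsg.Agent.Lib.Helper35.Stein
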