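/-
helper35: project STEIN: the table certificate `SLCert D` for `E₆`, `E₇`, `E₈` (table modules by helper9), and
Steinberg's Theorem 10 for these data over every field.
-/
import Cfsg.Agent.Lib.Helper35.SteinThm10
import Cfsg.Agent.Lib.Helper9.SteinTPair
import Cfsg.Agent.Lib.Helper9.SteinTCom
import Cfsg.Agent.Lib.Helper9.SteinTHub

set_option autoImplicit false

namespace Cfsg.Agent.Lib.Helper35.Stein

open Cfsg.Lie Cfsg.Agent.Lib.Helper35.St Cfsg.Agent.Lib.Helper60.St3

universe u v w

theorem slCert_of_mem {D : ChevalleyDatum} (hD : D ∈ [chevE6, chevE7, chevE8]) : SLCert D :=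
  ⟨Cfsg.Agent.Lib.Helper9.Stein.sl0_of_mem hD, Cfsg.Agent.Lib.Helper9.Stein.slTop_of_mem hD,
    Cfsg.Agent.Lib.Helper9.Stein.comCert_of_mem hD, Cfsg.Agent.Lib.Helper9.Stein.hubCert_of_mem hD⟩

theorem mem_seven_of_mem {D : ChevalleyDatum} (hD : D ∈ [chevE6, chevE7, chevE8]) :
    D ∈ [chevG2, chevB2, chevD4, chevF4, chevE6, chevE7, chevE8] := by
  simp only [List.mem_cons, List.not_mem_nil, or_false] at hD ⊢
  rcases hD with rfl | rfl | rfl <;> simp

theorem not_mem_of_mem {D : ChevalleyDatum} (hD : D ∈ [chevE6, chevE7, chevE8]) : D ∉ [chevB2, chevG2] := by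
  intro h
  simp only [List.mem_cons, List.not_mem_nil, or_false] at hD h
  rcases hD with rfl | rfl | rfl <;> rcases h with h | h <;>
    exact absurd (congrArg ChevalleyDatum.rank h) (by decide)

/-- Steinberg's Theorem 10 for `E₆`, `E₇`, `E₈` over EVERY field (no restriction on the number of elements). -/
theorem thm10_E {K : Type u} [Field K] {D : ChevalleyDatum} (hD : D ∈ [chevE6, chevE7, chevE8])
    {G₁ : Type v} {E : Type w} [Group G₁] [Group E] (π₁ : E →* G₁) (hπ : Function.Surjective π₁)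
    (hc : π₁.ker ≤ Subgroup.center E) (σ : D.SteinbergCover K →* G₁) :
    ∃! τ : D.SteinbergCover K →* E, π₁.comp τ = σ :=
  thm10_of_cert (mem_seven_of_mem hD) (not_mem_of_mem hD) (slCert_of_mem hD) π₁ hπ hc σ

end Cfsg.Agent.Lib.Helper35.Stein
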