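/-
helper35: project STEIN / E67: the Schur multiplier (stem-extension form) of a finite group `G` with a finite perfect
central extension `Φ : Δ → G` having the universal property: it is `ker Φ`.
-/
import Mathlib
import Cfsg.Prelude.Def_KGroupFacts

set_option autoImplicit false

namespace Cfsg.Agent.Lib.Helper35.Stein

open Cfsg

universe u w

/-- A group whose cardinality is `1` or a prime is cyclic of that order. -/
theorem nonempty_mulEquiv_zmod {H : Type*} [Group H] {n : ℕ} (hcard : Nat.card H = n) (hn : n = 1 ∨ n.Prime) :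
    Nonempty (H ≃* Multiplicative (ZMod n)) := by
  have hcyc : IsCyclic H := by
    rcases hn with rfl | hp
    · have : Finite H := Nat.finite_of_card_ne_zero (by rw [hcard]; exact one_ne_zero)
      have : Subsingleton H := (Nat.card_eq_one_iff_unique.mp hcard).1
      exact isCyclic_of_subsingleton
    · haveI : Fact n.Prime := ⟨hp⟩
      exact isCyclic_of_prime_card hcard
  subst hcard
  exact ⟨(zmodCyclicMulEquiv hcyc).symm⟩

/-- If `Φ : Δ → G` is a finite perfect central extension through which every central extension of `G` is reached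
(`huniv`), then the Schur multiplier of `G` is `ker Φ ≃ A`. -/
theorem hasSchurMultiplier_of_universal {Δ G : Type u} [Group Δ] [Group G] [Finite Δ]
    (A : Type w) [CommGroup A] (Φ : Δ →* G) (hΦs : Function.Surjective Φ)
    (hΦc : Φ.ker ≤ Subgroup.center Δ) (hperf : commutator Δ = ⊤) (eA : Φ.ker ≃* A)
    (huniv : ∀ (Γ : Type u) [Group Γ] (σ : Γ →* G), Function.Surjective σ → σ.ker ≤ Subgroup.center Γ →
      ∃ τ : Δ →* Γ, σ.comp τ = Φ) :
    HasSchurMultiplier G A := by
  constructor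
  · exact ⟨Δ, inferInstance, inferInstance, Φ, ⟨hΦs, hΦc, by rw [hperf]; exact le_top⟩, ⟨eA⟩⟩
  · intro Γ _ _ σ hσ
    obtain ⟨hσs, hcen, hcomm⟩ := hσ
    obtain ⟨τ, hτ⟩ := huniv Γ σ hσs hcen
    have hτ' : ∀ y, σ (τ y) = Φ y := fun y => DFunLike.congr_fun hτ y
    -- every element is `τ a' * k` with `k` central
    have hdec : ∀ a : Γ, ∃ a' : Δ, ∃ k ∈ Subgroup.center Γ, a = τ a' * k := by
      intro a
      obtain ⟨a', ha'⟩ := hΦs (σ a)
      refine ⟨a', (τ a')⁻¹ * a, hcen ?_, by group⟩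
      rw [MonoidHom.mem_ker, map_mul, map_inv, hτ', ha', inv_mul_cancel]
    have hle : commutator Γ ≤ τ.range := by
      rw [commutator_def, Subgroup.commutator_le]
      intro a _ b _
      obtain ⟨a', ka, hka, rfl⟩ := hdec a
      obtain ⟨b', kb, hkb, rfl⟩ := hdec b
      rw [Subgroup.mem_center_iff] at hka hkb
      refine ⟨a' * b' * a'⁻¹ * b'⁻¹, ?_⟩
      rw [commutatorElement_def, map_mul, map_mul, map_mul, map_inv, map_inv]
      have h3 : ∀ g : Γ, g * ka⁻¹ = ka⁻¹ * g := fun g => by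
        calc g * ka⁻¹ = ka⁻¹ * (ka * g) * ka⁻¹ := by group
          _ = ka⁻¹ * (g * ka) * ka⁻¹ := by rw [hka]
          _ = ka⁻¹ * g := by group
      have h4 : ∀ g : Γ, g * kb⁻¹ = kb⁻¹ * g := fun g => by
        calc g * kb⁻¹ = kb⁻¹ * (kb * g) * kb⁻¹ := by group
          _ = kb⁻¹ * (g * kb) * kb⁻¹ := by rw [hkb]
          _ = kb⁻¹ * g := by group
      have e1 : (τ a' * ka)⁻¹ = ka⁻¹ * (τ a')⁻¹ := mul_inv_rev _ _
      have e2 : (τ b' * kb)⁻¹ = kb⁻¹ * (τ b')⁻¹ := mul_inv_rev _ _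
      rw [e1, e2]
      symm
      calc τ a' * ka * (τ b' * kb) * (ka⁻¹ * (τ a')⁻¹) * (kb⁻¹ * (τ b')⁻¹)
          = τ a' * (ka * τ b') * (kb * ka⁻¹) * ((τ a')⁻¹ * kb⁻¹) * (τ b')⁻¹ := by group
        _ = τ a' * (τ b' * ka) * (ka⁻¹ * kb) * (kb⁻¹ * (τ a')⁻¹) * (τ b')⁻¹ := by
          rw [hka (τ b'), h3 kb, h4 (τ a')⁻¹]
        _ = τ a' * τ b' * (τ a')⁻¹ * (τ b')⁻¹ := by group
    -- the map `ker Φ → ker σ`
    let κ : Φ.ker →* σ.ker :=
      { toFun := fun y => ⟨τ y.1, by rw [MonoidHom.mem_ker, hτ']; exact y.2⟩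
        map_one' := by apply Subtype.ext; simp
        map_mul' := fun a b => by apply Subtype.ext; simp }
    have hκ : Function.Surjective κ := by
      intro x
      obtain ⟨y, hy⟩ := hle (hcomm x.2)
      have hyk : y ∈ Φ.ker := by
        rw [MonoidHom.mem_ker, ← hτ', hy]
        exact x.2
      exact ⟨⟨y, hyk⟩, Subtype.ext hy⟩
    exact ⟨κ.comp eA.symm.toMonoidHom, hκ.comp eA.symm.surjective⟩

end Cfsg.Agent.Lib.Helper35.Stein
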