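/-
helper35: project STEIN / E67: the Schur multiplier of the adjoint Chevalley group of a simply-laced datum with the
certificate `SLCert D` over a finite field is the centre of the Steinberg group (when its order is 1 or a prime).
-/
import Cfsg.Agent.S1077
import Cfsg.Agent.S2397
import Cfsg.Agent.Lib.Helper35.SteinThm10
import Cfsg.Agent.Lib.Helper35.SteinWrap2

set_option autoImplicit false
open Cfsg

namespace Cfsg.Agent.Lib.Helper35.Stein
open Cfsg.Lie

/-- The Schur multiplier of the adjoint Chevalley group of a simply-laced datum with the certificate, over a finite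
field, from the order of the centre of the Steinberg group. -/
theorem schur_of_center_card {F : Type*} [Field F] [Fintype F] {D : ChevalleyDatum}
    (hD : D ∈ [chevG2, chevB2, chevD4, chevF4, chevE6, chevE7, chevE8]) (hD' : D ∉ [chevB2, chevG2])
    (cert : SLCert D) {n : ℕ} (hcard : Nat.card (Subgroup.center (D.SteinbergGroup F)) = n)
    (hn : n = 1 ∨ n.Prime) : HasCyclicSchurMultiplier ↥(D.group F) n := by
  obtain ⟨e, -⟩ := Cfsg.Agent.S2397.result (K := F) D hD (fun h => absurd h hD')
  obtain ⟨θ, hθs, hθk, -⟩ := Cfsg.Agent.S1077.result (K := F) D hD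
  have hn0 : n ≠ 0 := by
    rcases hn with rfl | hp
    · exact one_ne_zero
    · exact hp.ne_zero
  -- finiteness
  have hfinG : Finite ↥(D.group F) := inferInstance
  have hfinZ : Finite θ.ker := by
    rw [hθk]
    exact Nat.finite_of_card_ne_zero (by rw [hcard]; exact hn0)
  have hfinQ : Finite (D.SteinbergGroup F ⧸ θ.ker) :=
    Finite.of_equiv _ (QuotientGroup.quotientKerEquivOfSurjective θ hθs).symm.toEquiv
  have hfinSt : Finite (D.SteinbergGroup F) :=
    Finite.of_equiv _ (Subgroup.groupEquivQuotientProdSubgroup (s := θ.ker)).symm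
  have hfinC : Finite (D.SteinbergCover F) := Finite.of_equiv _ e.symm.toEquiv
  set Φ : D.SteinbergCover F →* ↥(D.group F) := θ.comp e.toMonoidHom with hΦ
  have hΦs : Function.Surjective Φ := hθs.comp e.surjective
  have hmem : ∀ y, y ∈ Φ.ker ↔ e y ∈ Subgroup.center (D.SteinbergGroup F) := by
    intro y
    rw [← hθk, MonoidHom.mem_ker, MonoidHom.mem_ker]
    rfl
  have hΦc : Φ.ker ≤ Subgroup.center (D.SteinbergCover F) := by
    intro y hy
    have hy' := (hmem y).1 hy
    rw [Subgroup.mem_center_iff] at hy' ⊢
    intro z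
    apply e.injective
    rw [map_mul, map_mul]
    exact hy' (e z)
  have hcardΦ : Nat.card Φ.ker = n := by
    rw [← hcard]
    exact Nat.card_congr (e.toEquiv.subtypeEquiv (fun y => hmem y))
  obtain ⟨eA⟩ := nonempty_mulEquiv_zmod hcardΦ hn
  have hperf : commutator (D.SteinbergCover F) = ⊤ :=
    Cfsg.Agent.S2395.result D hD (fun h => absurd h hD')
  refine hasSchurMultiplier_of_universal (Multiplicative (ZMod n)) Φ hΦs hΦc hperf eA ?_
  intro Γ _ σ hσs hσc
  obtain ⟨τ, hτ, -⟩ := thm10_of_cert (K := F) hD hD' cert σ hσs hσc Φ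
  exact ⟨τ, hτ⟩

theorem chevE6_not_mem : chevE6 ∉ [chevB2, chevG2] := by
  intro h
  simp only [List.mem_cons, List.not_mem_nil, or_false] at h
  rcases h with h | h
  · exact absurd (congrArg ChevalleyDatum.rank h) (by decide)
  · exact absurd (congrArg ChevalleyDatum.rank h) (by decide)

theorem chevE7_not_mem : chevE7 ∉ [chevB2, chevG2] := by
  intro h
  simp only [List.mem_cons, List.not_mem_nil, or_false] at h
  rcases h with h | h
  · exact absurd (congrArg ChevalleyDatum.rank h) (by decide)
  · exact absurd (congrArg ChevalleyDatum.rank h) (by decide)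

theorem gcd_prime_cases (p : ℕ) (hp : p.Prime) (m : ℕ) : Nat.gcd p m = 1 ∨ (Nat.gcd p m).Prime := by
  have h := Nat.gcd_dvd_left p m
  rcases (Nat.dvd_prime hp).mp h with h1 | h1
  · exact Or.inl h1
  · right
    rw [h1]
    exact hp

end Cfsg.Agent.Lib.Helper35.Stein
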