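/-
helper35: project STEIN: from universality of a cover `Δ ≃ G` to the triviality of the Schur multiplier of `G`
(in the stem-extension form of `Cfsg.HasSchurMultiplier`).
-/
import Mathlib
import Cfsg.Prelude.Def_KGroupFacts

set_option autoImplicit false

namespace Cfsg.Agent.Lib.Helper35.Stein

open Cfsg

universe u v

/-- If a bijective `Φ : Δ → G` lifts through the stem extension `σ : Γ → G`, then `σ` is injective. -/
theorem ker_eq_bot_of_lift {Δ : Type v} {G Γ : Type u} [Group Δ] [Group G] [Group Γ] (Φ : Δ →* G)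
    (hΦ : Function.Bijective Φ) (σ : Γ →* G) (hσ : IsStemExtension σ) (τ : Δ →* Γ) (hτ : σ.comp τ = Φ) :
    σ.ker = ⊥ := by
  obtain ⟨-, hcen, hcomm⟩ := hσ
  have hτ' : ∀ y, σ (τ y) = Φ y := fun y => DFunLike.congr_fun hτ y
  -- every element is `τ a' * k` with `k` central
  have hdec : ∀ a : Γ, ∃ a' : Δ, ∃ k ∈ Subgroup.center Γ, a = τ a' * k := by
    intro a
    obtain ⟨a', ha'⟩ := hΦ.2 (σ a)
    refine ⟨a', (τ a')⁻¹ * a, hcen ?_, by group⟩
    rw [MonoidHom.mem_ker, map_mul, map_inv, hτ', ha', inv_mul_cancel]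
  have hle : commutator Γ ≤ τ.range := by
    rw [commutator_def, Subgroup.commutator_le]
    intro a _ b _
    obtain ⟨a', ka, hka, rfl⟩ := hdec a
    obtain ⟨b', kb, hkb, rfl⟩ := hdec b
    rw [Subgroup.mem_center_iff] at hka hkb
    refine ⟨a' * b' * a'⁻¹ * b'⁻¹, ?_⟩
    rw [commutatorElement_def, map_mul, map_mul, map_mul, map_inv, map_inv]
    have e1 : (τ a' * ka)⁻¹ = (τ a')⁻¹ * ka⁻¹ := by
      rw [mul_inv_rev]
      have := hka (τ a')⁻¹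
      calc ka⁻¹ * (τ a')⁻¹ = ka⁻¹ * ((τ a')⁻¹ * ka) * ka⁻¹ := by group
        _ = ka⁻¹ * (ka * (τ a')⁻¹) * ka⁻¹ := by rw [this]
        _ = (τ a')⁻¹ * ka⁻¹ := by group
    have e2 : (τ b' * kb)⁻¹ = (τ b')⁻¹ * kb⁻¹ := by
      rw [mul_inv_rev]
      have := hkb (τ b')⁻¹
      calc kb⁻¹ * (τ b')⁻¹ = kb⁻¹ * ((τ b')⁻¹ * kb) * kb⁻¹ := by group
        _ = kb⁻¹ * (kb * (τ b')⁻¹) * kb⁻¹ := by rw [this]
        _ = (τ b')⁻¹ * kb⁻¹ := by group
    rw [e1, e2]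
    calc τ a' * τ b' * (τ a')⁻¹ * (τ b')⁻¹
        = τ a' * τ b' * (τ a')⁻¹ * (τ b')⁻¹ * (ka * ka⁻¹) * (kb * kb⁻¹) := by group
      _ = τ a' * ka * (τ b' * kb) * ((τ a')⁻¹ * ka⁻¹) * ((τ b')⁻¹ * kb⁻¹) := by
        have h1 : ∀ g : Γ, g * ka = ka * g := hka
        have h2 : ∀ g : Γ, g * kb = kb * g := hkb
        have h3 : ∀ g : Γ, g * ka⁻¹ = ka⁻¹ * g := fun g => by
          calc g * ka⁻¹ = ka⁻¹ * (ka * g) * ka⁻¹ := by group
            _ = ka⁻¹ * (g * ka) * ka⁻¹ := by rw [h1]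
            _ = ka⁻¹ * g := by group
        have h4 : ∀ g : Γ, g * kb⁻¹ = kb⁻¹ * g := fun g => by
          calc g * kb⁻¹ = kb⁻¹ * (kb * g) * kb⁻¹ := by group
            _ = kb⁻¹ * (g * kb) * kb⁻¹ := by rw [h2]
            _ = kb⁻¹ * g := by group
        -- move all central elements to the right on both sides
        have l : τ a' * ka * (τ b' * kb) * ((τ a')⁻¹ * ka⁻¹) * ((τ b')⁻¹ * kb⁻¹)
            = τ a' * τ b' * (τ a')⁻¹ * (τ b')⁻¹ * (ka * ka⁻¹) * (kb * kb⁻¹) := by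
          calc τ a' * ka * (τ b' * kb) * ((τ a')⁻¹ * ka⁻¹) * ((τ b')⁻¹ * kb⁻¹)
              = τ a' * (ka * τ b') * (kb * (τ a')⁻¹) * (ka⁻¹ * (τ b')⁻¹) * kb⁻¹ := by group
            _ = τ a' * (τ b' * ka) * ((τ a')⁻¹ * kb) * ((τ b')⁻¹ * ka⁻¹) * kb⁻¹ := by
              rw [← h1 (τ b'), ← h2 (τ a')⁻¹, ← h3 (τ b')⁻¹]
            _ = τ a' * τ b' * (ka * (τ a')⁻¹) * (kb * (τ b')⁻¹) * ka⁻¹ * kb⁻¹ := by group
            _ = τ a' * τ b' * ((τ a')⁻¹ * ka) * ((τ b')⁻¹ * kb) * ka⁻¹ * kb⁻¹ := by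
              rw [← h1 (τ a')⁻¹, ← h2 (τ b')⁻¹]
            _ = τ a' * τ b' * (τ a')⁻¹ * (ka * (τ b')⁻¹) * (kb * ka⁻¹) * kb⁻¹ := by group
            _ = τ a' * τ b' * (τ a')⁻¹ * ((τ b')⁻¹ * ka) * (ka⁻¹ * kb) * kb⁻¹ := by
              rw [← h1 (τ b')⁻¹, ← h3 kb]
            _ = τ a' * τ b' * (τ a')⁻¹ * (τ b')⁻¹ * (ka * ka⁻¹) * (kb * kb⁻¹) := by group
        exact l.symm
  rw [eq_bot_iff]
  intro x hx
  obtain ⟨y, rfl⟩ := hle (hcomm hx)
  rw [MonoidHom.mem_ker, hτ'] at hx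
  have : y = 1 := hΦ.1 (by rw [hx, map_one])
  rw [this, map_one]
  exact Subgroup.mem_bot.mpr rfl

/-- A finite group all of whose finite stem extensions are injective has trivial Schur multiplier. -/
theorem hasCyclicSchurMultiplier_one {G : Type u} [Group G] [Finite G]
    (h : ∀ (Γ : Type u) [Group Γ] [Finite Γ] (σ : Γ →* G), IsStemExtension σ → σ.ker = ⊥) :
    HasCyclicSchurMultiplier G 1 := by
  constructor
  · refine ⟨G, inferInstance, inferInstance, MonoidHom.id G, ⟨Function.surjective_id, ?_, ?_⟩, ?_⟩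
    · rw [MonoidHom.ker_id]; exact bot_le
    · rw [MonoidHom.ker_id]; exact bot_le
    · rw [MonoidHom.ker_id]
      have : Unique (Multiplicative (ZMod 1)) := by
        show Unique (ZMod 1)
        infer_instance
      exact ⟨MulEquiv.ofUnique⟩
  · intro Γ _ _ σ hσ
    have hk := h Γ σ hσ
    refine ⟨1, ?_⟩
    intro x
    refine ⟨1, ?_⟩
    have hx : (x : Γ) ∈ (⊥ : Subgroup Γ) := hk ▸ x.2
    rw [Subgroup.mem_bot] at hx
    exact Subtype.ext hx.symm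

end Cfsg.Agent.Lib.Helper35.Stein
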