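import Mathlib

set_option autoImplicit false

namespace Cfsg.Agent.Lib.Helper35

open Equiv

/-- `H` is generated by its elements of order dividing `p`. -/
def GenByP (p : ℕ) (H : Type*) [Group H] : Prop :=
  Subgroup.closure {x : H | x ^ p = 1} = ⊤

theorem GenByP.pow_mem_commutator {p : ℕ} {H : Type*} [Group H] (h : GenByP p H) (x : H) :
    x ^ p ∈ commutator H := by
  have hK : Subgroup.closure {x : H | x ^ p = 1} ≤
      ((powMonoidHom p : Abelianization H →* Abelianization H).ker).comap Abelianization.of := by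
    rw [Subgroup.closure_le]
    intro y hy
    simp only [Set.mem_ofPred_eq] at hy
    simp only [SetLike.mem_coe, Subgroup.mem_comap, MonoidHom.mem_ker, powMonoidHom_apply]
    rw [← map_pow, hy, map_one]
  rw [h] at hK
  have h1 := hK (Subgroup.mem_top x)
  rw [Subgroup.mem_comap, MonoidHom.mem_ker, powMonoidHom_apply, ← map_pow] at h1
  rw [← Abelianization.ker_of, MonoidHom.mem_ker]
  exact h1

theorem GenByP.of_mulEquiv {p : ℕ} {H K : Type*} [Group H] [Group K] (h : GenByP p H)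
    (e : H ≃* K) : GenByP p K := by
  unfold GenByP at *
  rw [eq_top_iff]
  have h2 : (Subgroup.closure {x : H | x ^ p = 1}).map e.toMonoidHom ≤
      Subgroup.closure {x : K | x ^ p = 1} := by
    rw [MonoidHom.map_closure]
    apply Subgroup.closure_mono
    rintro _ ⟨x, hx, rfl⟩
    simp only [Set.mem_ofPred_eq] at hx ⊢
    rw [MulEquiv.coe_toMonoidHom, ← map_pow, hx, map_one]
  rw [h] at h2
  intro y _
  apply h2
  exact ⟨e.symm y, Subgroup.mem_top _, by simp⟩

/-- The subgroup `S` is generated by its elements of order dividing `p`. -/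
def GenP {G : Type*} [Group G] (p : ℕ) (S : Subgroup G) : Prop :=
  S ≤ Subgroup.closure {x | x ∈ S ∧ x ^ p = 1}

theorem GenP.genByP {G : Type*} [Group G] {p : ℕ} {S : Subgroup G} (h : GenP p S) :
    GenByP p ↥S := by
  unfold GenByP
  rw [eq_top_iff]
  intro y _
  have hy := h y.2
  have himg : {x | x ∈ S ∧ x ^ p = 1} = S.subtype '' {x : ↥S | x ^ p = 1} := by
    ext g
    constructor
    · rintro ⟨hg, hgp⟩
      exact ⟨⟨g, hg⟩, by simp only [Set.mem_ofPred_eq]; exact Subtype.ext hgp, rfl⟩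
    · rintro ⟨x, hx, rfl⟩
      simp only [Set.mem_ofPred_eq] at hx
      exact ⟨x.2, by simpa using congrArg Subtype.val hx⟩
  rw [himg, ← MonoidHom.map_closure] at hy
  obtain ⟨z, hz, hzy⟩ := hy
  have : z = y := Subtype.ext hzy
  rwa [← this]

theorem GenP.map {G G' : Type*} [Group G] [Group G'] {p : ℕ} {S : Subgroup G} (h : GenP p S)
    (f : G →* G') : GenP p (S.map f) := by
  unfold GenP at *
  calc S.map f ≤ (Subgroup.closure {x | x ∈ S ∧ x ^ p = 1}).map f := Subgroup.map_mono h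
    _ = Subgroup.closure (f '' {x | x ∈ S ∧ x ^ p = 1}) := MonoidHom.map_closure _ _
    _ ≤ Subgroup.closure {x | x ∈ S.map f ∧ x ^ p = 1} := by
      apply Subgroup.closure_mono
      rintro _ ⟨x, ⟨hx, hxp⟩, rfl⟩
      exact ⟨Subgroup.mem_map_of_mem f hx, by rw [← map_pow, hxp, map_one]⟩

section wreath

variable {β : Type*} (p : ℕ)

/-- The permutation `(b, j) ↦ (σ b, j + c b)` of `β × ZMod p`. -/
def wr (σ : Perm β) (c : β → ZMod p) : Perm (β × ZMod p) where
  toFun x := (σ x.1, x.2 + c x.1)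
  invFun y := (σ.symm y.1, y.2 - c (σ.symm y.1))
  left_inv x := by simp
  right_inv y := by simp

@[simp] theorem wr_apply (σ : Perm β) (c : β → ZMod p) (x : β × ZMod p) :
    wr p σ c x = (σ x.1, x.2 + c x.1) := rfl

theorem wr_mul (σ τ : Perm β) (c d : β → ZMod p) :
    wr p σ c * wr p τ d = wr p (σ * τ) (fun b => d b + c (τ b)) := by
  ext x <;> simp [Perm.mul_apply, add_assoc]

theorem wr_one : wr p (1 : Perm β) 0 = 1 := by
  ext x <;> simp

theorem wr_inv (σ : Perm β) (c : β → ZMod p) :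
    (wr p σ c)⁻¹ = wr p σ⁻¹ (fun b => - c (σ⁻¹ b)) := by
  apply inv_eq_of_mul_eq_one_right
  rw [wr_mul]
  convert wr_one p using 2
  · simp
  · ext b; simp

theorem wr_injective {σ τ : Perm β} {c d : β → ZMod p} (h : wr p σ c = wr p τ d) :
    σ = τ ∧ c = d := by
  constructor
  · ext b
    have := congrArg (fun f : Perm (β × ZMod p) => (f (b, 0)).1) h
    simpa using this
  · ext b
    have := congrArg (fun f : Perm (β × ZMod p) => (f (b, 0)).2) h
    simpa using this

theorem wr_one_pow (c : β → ZMod p) (k : ℕ) : (wr p (1 : Perm β) c) ^ k = wr p 1 (k • c) := by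
  induction k with
  | zero => simp [wr_one]
  | succ k ih =>
    rw [pow_succ, ih, wr_mul]
    congr 1
    ext b
    simp [add_smul, add_comm]

theorem wr_one_pow_self (c : β → ZMod p) : (wr p (1 : Perm β) c) ^ p = 1 := by
  rw [wr_one_pow]
  convert wr_one p using 2
  ext b
  simp

/-- `τ ↦ wr τ 0` as a homomorphism. -/
def wrTop : Perm β →* Perm (β × ZMod p) where
  toFun τ := wr p τ 0
  map_one' := wr_one p
  map_mul' σ τ := by
    rw [wr_mul]
    congr 1
    ext b
    simp

theorem wr_eq_mul (σ : Perm β) (c : β → ZMod p) : wr p σ c = wrTop p σ * wr p 1 c := by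
  show wr p σ c = wr p σ 0 * wr p 1 c
  rw [wr_mul]
  congr 1
  ext b; simp

/-- The wreath product `C_p ≀ Q` inside `Perm (β × ZMod p)`. -/
def wrSubgroup (Q : Subgroup (Perm β)) : Subgroup (Perm (β × ZMod p)) where
  carrier := {f | ∃ σ ∈ Q, ∃ c, f = wr p σ c}
  mul_mem' := by
    rintro _ _ ⟨σ, hσ, c, rfl⟩ ⟨τ, hτ, d, rfl⟩
    exact ⟨σ * τ, Q.mul_mem hσ hτ, _, wr_mul p σ τ c d⟩
  one_mem' := ⟨1, Q.one_mem, 0, (wr_one p).symm⟩
  inv_mem' := by
    rintro _ ⟨σ, hσ, c, rfl⟩
    exact ⟨σ⁻¹, Q.inv_mem hσ, _, wr_inv p σ c⟩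

theorem mem_wrSubgroup {Q : Subgroup (Perm β)} {f : Perm (β × ZMod p)} :
    f ∈ wrSubgroup p Q ↔ ∃ σ ∈ Q, ∃ c, f = wr p σ c := Iff.rfl

theorem card_wrSubgroup [Finite β] [NeZero p] (Q : Subgroup (Perm β)) :
    Nat.card (wrSubgroup p Q) = Nat.card Q * p ^ Nat.card β := by
  have e : (↥Q × (β → ZMod p)) ≃ ↥(wrSubgroup p Q) :=
    Equiv.ofBijective (fun x => ⟨wr p x.1.1 x.2, ⟨x.1.1, x.1.2, x.2, rfl⟩⟩) (by
      constructor
      · rintro ⟨⟨σ, hσ⟩, c⟩ ⟨⟨τ, hτ⟩, d⟩ h
        have h' := wr_injective p (congrArg Subtype.val h)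
        simp only at h'
        obtain ⟨h1, h2⟩ := h'
        subst h1; subst h2; rfl
      · rintro ⟨f, σ, hσ, c, rfl⟩
        exact ⟨⟨⟨σ, hσ⟩, c⟩, rfl⟩)
  rw [← Nat.card_congr e, Nat.card_prod, Nat.card_fun, Nat.card_zmod]

theorem genP_wrSubgroup {Q : Subgroup (Perm β)} (hQ : GenP p Q) [Fact p.Prime] :
    GenP p (wrSubgroup p Q) := by
  intro f hf
  obtain ⟨σ, hσ, c, rfl⟩ := hf
  rw [wr_eq_mul]
  apply Subgroup.mul_mem
  · have h1 : wrTop p σ ∈ (Subgroup.closure {x | x ∈ Q ∧ x ^ p = 1}).map (wrTop p) :=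
      Subgroup.mem_map_of_mem _ (hQ hσ)
    rw [MonoidHom.map_closure] at h1
    refine Subgroup.closure_mono ?_ h1
    rintro _ ⟨x, ⟨hx, hxp⟩, rfl⟩
    exact ⟨⟨x, hx, 0, rfl⟩, by rw [← map_pow, hxp, map_one]⟩
  · apply Subgroup.subset_closure
    exact ⟨⟨1, Q.one_mem, c, rfl⟩, wr_one_pow_self p c⟩

end wreath


section model

theorem sign_wrTop_two {β : Type*} [Fintype β] [DecidableEq β] (σ : Perm β) :
    Perm.sign (wrTop 2 σ) = 1 := by
  have h : wrTop 2 σ = Equiv.prodCongrLeft (fun _ : ZMod 2 => σ) := by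
    ext x <;> simp [wrTop, Equiv.prodCongrLeft]
  rw [h, Perm.sign_prodCongrLeft, Finset.prod_const, Finset.card_univ, ZMod.card]
  exact Int.units_sq _

theorem sign_eq_one_of_pow_eq_one {γ : Type*} [Fintype γ] [DecidableEq γ] {p : ℕ} (hp : Odd p)
    {x : Perm γ} (hx : x ^ p = 1) : Perm.sign x = 1 := by
  have h1 : Perm.sign x ^ p = 1 := by rw [← map_pow, hx, map_one]
  rcases Int.units_eq_one_or (Perm.sign x) with h | h
  · exact h
  · rw [h, Odd.neg_one_pow hp] at h1
    exact absurd h1 (by decide)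

theorem genP_inf_alternating_two {β : Type*} [Fintype β] [DecidableEq β]
    {Q : Subgroup (Perm β)} (hQ : GenP 2 Q) {γ : Type*} [Fintype γ] [DecidableEq γ]
    (ι : β × ZMod 2 ↪ γ) :
    GenP 2 ((wrSubgroup 2 Q).map (Perm.viaEmbeddingHom ι) ⊓ alternatingGroup γ) := by
  have hsign : ∀ f : Perm (β × ZMod 2), Perm.sign (Perm.viaEmbeddingHom ι f) = Perm.sign f := by
    intro f
    exact @Perm.sign_extendDomain _ _ _ _ _ _ f _ (fun a => Classical.propDecidable _)
      (Equiv.ofInjective ι.1 ι.2)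
  intro y hy
  obtain ⟨⟨f, hf, rfl⟩, hyA⟩ := hy
  obtain ⟨σ, hσ, c, rfl⟩ := hf
  replace hyA : Perm.sign (Perm.viaEmbeddingHom ι (wr 2 σ c)) = 1 := Perm.mem_alternatingGroup.1 hyA
  rw [hsign, wr_eq_mul, map_mul, sign_wrTop_two, one_mul] at hyA
  rw [wr_eq_mul, map_mul]
  apply Subgroup.mul_mem
  · have h1 : Perm.viaEmbeddingHom ι (wrTop 2 σ) ∈
        (Subgroup.closure {x | x ∈ Q ∧ x ^ 2 = 1}).map ((Perm.viaEmbeddingHom ι).comp (wrTop 2)) :=
      Subgroup.mem_map_of_mem _ (hQ hσ)
    rw [MonoidHom.map_closure] at h1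
    refine Subgroup.closure_mono ?_ h1
    rintro _ ⟨x, ⟨hx, hxp⟩, rfl⟩
    refine ⟨⟨Subgroup.mem_map_of_mem _ ⟨x, hx, 0, rfl⟩, ?_⟩, ?_⟩
    · exact Perm.mem_alternatingGroup.2 (by rw [MonoidHom.comp_apply, hsign, sign_wrTop_two])
    · rw [← map_pow, hxp, map_one]
  · apply Subgroup.subset_closure
    refine ⟨⟨Subgroup.mem_map_of_mem _ ⟨1, Q.one_mem, c, rfl⟩, ?_⟩, ?_⟩
    · exact Perm.mem_alternatingGroup.2 (by rw [hsign]; exact hyA)
    · rw [← map_pow, wr_one_pow_self, map_one]

/-- An explicit Sylow `p`-subgroup of `Perm α` generated by elements of order `p`, whose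
even part is also generated by elements of order `p`. -/
theorem exists_sylow_model (p : ℕ) [Fact p.Prime] (n : ℕ) :
    ∀ (α : Type) [Fintype α] [DecidableEq α], Fintype.card α = n →
    ∃ Q : Subgroup (Perm α), Nat.card Q = p ^ padicValNat p n.factorial ∧ GenP p Q ∧
      GenP p (Q ⊓ alternatingGroup α) := by
  induction n using Nat.strong_induction_on with
  | _ n ih =>
    intro α _ _ hα
    have hp : p.Prime := Fact.out
    have hr : n % p < p := Nat.mod_lt _ hp.pos
    have hn : p * (n / p) + n % p = n := Nat.div_add_mod n p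
    have hval : padicValNat p n.factorial = padicValNat p (n / p).factorial + n / p := by
      conv_lhs => rw [← hn]
      rw [padicValNat_factorial_mul_add _ hr, padicValNat_factorial_mul]
    by_cases hm : n / p = 0
    · refine ⟨⊥, ?_, bot_le, ?_⟩
      · rw [hval, hm]
        simp
      · rw [bot_inf_eq]
        exact bot_le
    · have hlt : n / p < n := Nat.div_lt_self (by
        rcases Nat.eq_zero_or_pos n with h | h
        · rw [h] at hm; simp at hm
        · exact h) hp.one_lt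
      obtain ⟨Qβ, hc, hg, -⟩ := ih (n / p) hlt (Fin (n / p)) (by simp)
      have hle : Fintype.card (Fin (n / p) × ZMod p) ≤ Fintype.card α := by
        have : NeZero p := ⟨hp.ne_zero⟩
        rw [Fintype.card_prod, Fintype.card_fin, ZMod.card, hα, mul_comm]
        omega
      obtain ⟨ι⟩ := Function.Embedding.nonempty_of_card_le hle
      have : NeZero p := ⟨hp.ne_zero⟩
      have hgW : GenP p ((wrSubgroup p Qβ).map (Perm.viaEmbeddingHom ι)) :=
        (genP_wrSubgroup p hg).map _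
      refine ⟨(wrSubgroup p Qβ).map (Perm.viaEmbeddingHom ι), ?_, hgW, ?_⟩
      · rw [Subgroup.card_map_of_injective (Perm.viaEmbeddingHom_injective ι), card_wrSubgroup,
          hc, hval, pow_add, Nat.card_eq_fintype_card, Fintype.card_fin]
      · rcases hp.eq_two_or_odd' with h2 | hodd
        · subst h2
          exact genP_inf_alternating_two hg ι
        · have hle' : (wrSubgroup p Qβ).map (Perm.viaEmbeddingHom ι) ≤ alternatingGroup α := by
            refine hgW.trans ?_
            rw [Subgroup.closure_le]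
            rintro x ⟨-, hx⟩
            exact Perm.mem_alternatingGroup.2 (sign_eq_one_of_pow_eq_one hodd hx)
          rw [inf_eq_left.2 hle']
          exact hgW

end model

end Cfsg.Agent.Lib.Helper35
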