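import Mathlib

/-!
# Transvections over the field with two elements

Elementary facts on involutory endomorphisms `s` of an `𝔽₂`-space with `#im (s - 1) = 2`
(transvections): two distinct ones whose product has odd order satisfy `(s₁ - 1) a₂ = a₁`, and
three pairwise distinct ones with all products of odd order force `s₃ = s₁ s₂ s₁`.
-/

set_option autoImplicit false

namespace Cfsg.Agent.Lib.Helper35

section RingPart

variable {R : Type*} [Ring R]

theorem tv_pow_four (h2 : ∀ x : R, x + x = 0) (N₁ N₂ : R) (h₁ : N₁ * N₁ = 0) (h₂ : N₂ * N₂ = 0)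
    (h12 : N₁ * N₂ = 0) : ((1 + N₁) * (1 + N₂)) ^ 4 = 1 := by
  have e : (1 + N₁) * (1 + N₂) = 1 + (N₁ + N₂) := by
    have : (1 + N₁) * (1 + N₂) = 1 + (N₁ + N₂) + N₁ * N₂ := by noncomm_ring
    rw [this, h12, add_zero]
  have sq : (1 + (N₁ + N₂)) ^ 2 = 1 + N₂ * N₁ := by
    have : (1 + (N₁ + N₂)) ^ 2
        = 1 + ((N₁ + N₂) + (N₁ + N₂)) + (N₁ * N₁ + N₁ * N₂ + N₂ * N₁ + N₂ * N₂) := by
      noncomm_ring
    rw [this, h2, h₁, h₂, h12]; simp
  have sq2 : (1 + N₂ * N₁) ^ 2 = 1 := by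
    have : (1 + N₂ * N₁) ^ 2 = 1 + (N₂ * N₁ + N₂ * N₁) + N₂ * (N₁ * N₂) * N₁ := by
      noncomm_ring
    rw [this, h2, h12]; simp
  rw [e, show 4 = 2 * 2 from rfl, pow_mul, sq, sq2]

theorem eq_one_of_pow_two_pow_of_odd {M : Type*} [Monoid M] (x : M) (k m : ℕ)
    (hk : x ^ (2 ^ k) = 1) (hm : Odd m) (h : x ^ m = 1) : x = 1 := by
  have h1 : orderOf x ∣ 2 ^ k := orderOf_dvd_of_pow_eq_one hk
  have h2 : orderOf x ∣ m := orderOf_dvd_of_pow_eq_one h
  have hc : Nat.Coprime (2 ^ k) m := Nat.Coprime.pow_left k (Nat.coprime_two_left.mpr hm)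
  have : orderOf x ∣ 1 := by
    have := Nat.dvd_gcd h1 h2
    rwa [hc] at this
  exact orderOf_eq_one_iff.mp (Nat.dvd_one.mp this)

end RingPart

section Tv

variable {V : Type*} [AddCommGroup V] [Module (ZMod 2) V]

theorem end_add_self (x : Module.End (ZMod 2) V) : x + x = 0 := by
  ext v
  have : (2 : ZMod 2) = 0 := by decide
  simp only [LinearMap.add_apply, LinearMap.zero_apply]
  rw [← two_smul (ZMod 2) (x v), this, zero_smul]

theorem vec_add_self (v : V) : v + v = 0 := by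
  have : (2 : ZMod 2) = 0 := by decide
  rw [← two_smul (ZMod 2) v, this, zero_smul]

/-- `s` is an involutory endomorphism with `im (s - 1) ⊆ {0, a}`, `a ≠ 0`. -/
def IsTv (s : Module.End (ZMod 2) V) (a : V) : Prop :=
  s * s = 1 ∧ a ≠ 0 ∧ ∀ v, (s - 1) v = 0 ∨ (s - 1) v = a

theorem IsTv.sq_zero {s : Module.End (ZMod 2) V} {a : V} (h : IsTv s a) :
    (s - 1) * (s - 1) = 0 := by
  have : (s - 1) * (s - 1) = s * s + 1 - (s + s) := by noncomm_ring
  rw [this, h.1, end_add_self, end_add_self, sub_zero]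

theorem IsTv.conj {s : Module.End (ZMod 2) V} {a : V} (h : IsTv s a)
    (g g' : Module.End (ZMod 2) V) (h1 : g * g' = 1) (h2 : g' * g = 1) :
    IsTv (g * s * g') (g a) := by
  refine ⟨?_, ?_, ?_⟩
  · calc g * s * g' * (g * s * g') = g * s * (g' * g) * s * g' := by noncomm_ring
      _ = g * (s * s) * g' := by rw [h2]; noncomm_ring
      _ = 1 := by rw [h.1, mul_one, h1]
  · intro h0
    apply h.2.1
    have : (g' * g) a = g' (g a) := rfl
    rw [h0, h2, map_zero] at this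
    exact this
  · intro v
    have e : g * s * g' - 1 = g * (s - 1) * g' := by
      rw [mul_sub, sub_mul, mul_one, h1]
    rw [e]
    rcases h.2.2 (g' v) with h0 | h0
    · left
      change g ((s - 1) (g' v)) = 0
      rw [h0, map_zero]
    · right
      change g ((s - 1) (g' v)) = g a
      rw [h0]

/-- Two distinct transvections whose product has odd order: `(s₁ - 1) a₂ = a₁`. -/
theorem IsTv.pair {s₁ s₂ : Module.End (ZMod 2) V} {a₁ a₂ : V} (h₁ : IsTv s₁ a₁) (h₂ : IsTv s₂ a₂)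
    (hne : s₁ ≠ s₂) (m : ℕ) (hm : Odd m) (hpow : (s₁ * s₂) ^ m = 1) : (s₁ - 1) a₂ = a₁ := by
  rcases h₁.2.2 a₂ with h0 | h0
  · exfalso
    apply hne
    have h12 : (s₁ - 1) * (s₂ - 1) = 0 := by
      ext v
      change (s₁ - 1) ((s₂ - 1) v) = 0
      rcases h₂.2.2 v with hv | hv
      · rw [hv, map_zero]
      · rw [hv, h0]
    have h4 := tv_pow_four end_add_self (s₁ - 1) (s₂ - 1) h₁.sq_zero h₂.sq_zero h12
    rw [add_sub_cancel, add_sub_cancel] at h4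
    have hx : s₁ * s₂ = 1 := eq_one_of_pow_two_pow_of_odd (s₁ * s₂) 2 m h4 hm hpow
    calc s₁ = s₁ * (s₂ * s₂) := by rw [h₂.1, mul_one]
      _ = (s₁ * s₂) * s₂ := by rw [mul_assoc]
      _ = s₂ := by rw [hx, one_mul]
  · exact h0

/-- Three pairwise distinct transvections with all relevant products of odd order:
`s₃ = s₁ s₂ s₁`. -/
theorem IsTv.triple {s₁ s₂ s₃ : Module.End (ZMod 2) V} {a₁ a₂ a₃ : V}
    (h₁ : IsTv s₁ a₁) (h₂ : IsTv s₂ a₂) (h₃ : IsTv s₃ a₃)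
    (h12 : s₁ ≠ s₂) (h31 : s₃ ≠ s₁) (h32 : s₃ ≠ s₂)
    (m : ℕ) (hm : Odd m) (p12 : (s₁ * s₂) ^ m = 1) (p31 : (s₃ * s₁) ^ m = 1)
    (p32 : (s₃ * s₂) ^ m = 1) (p3 : (s₃ * (s₁ * s₂ * s₁)) ^ m = 1) :
    s₃ = s₁ * s₂ * s₁ := by
  by_contra hne
  have e1 : (s₁ - 1) a₂ = a₁ := h₁.pair h₂ h12 m hm p12
  have e2 : (s₃ - 1) a₁ = a₃ := h₃.pair h₁ h31 m hm p31
  have e3 : (s₃ - 1) a₂ = a₃ := h₃.pair h₂ h32 m hm p32
  have hc : IsTv (s₁ * s₂ * s₁) (s₁ a₂) := h₂.conj s₁ s₁ h₁.1 h₁.1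
  have e4 : (s₃ - 1) (s₁ a₂) = a₃ := h₃.pair hc hne m hm p3
  have e5 : s₁ a₂ = a₂ + a₁ := by
    rw [← e1]
    simp
  rw [e5, map_add, e2, e3, vec_add_self] at e4
  exact h₃.2.1 e4.symm

end Tv

end Cfsg.Agent.Lib.Helper35
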