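import Mathlib
import Cfsg.Agent.Lib.Helper1.VLSolutions
import Cfsg.Agent.Lib.Helper44.VLInvHom
import Cfsg.Agent.Lib.Helper76.VLHoms

set_option autoImplicit false

namespace Cfsg.Agent.Lib.Helper35.VL

open Subgroup

/-- Homs into a finite group from a finite group form a finite type. -/
theorem finite_monoidHom {A B : Type*} [Group A] [Group B] [Finite A] [Finite B] :
    Finite (A →* B) :=
  Finite.of_injective (fun φ : A →* B => (φ : A → B)) DFunLike.coe_injective

/-- Every hom into `Multiplicative (ZMod p)` has `p`-th power one. -/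
theorem hom_pow_prime_eq_one {A : Type*} [Group A] {p : ℕ} [Fact p.Prime]
    (χ : A →* Multiplicative (ZMod p)) : χ ^ p = 1 := by
  ext a
  rw [MonoidHom.pow_apply, MonoidHom.one_apply]
  have : ∀ z : Multiplicative (ZMod p), z ^ p = 1 := by
    intro z
    have h : Multiplicative.toAdd (z ^ p) = 0 := by
      rw [toAdd_pow]
      simp
    exact Multiplicative.toAdd.injective h
  exact this _

/-- The hom group into `Multiplicative (ZMod p)` is a `p`-group. -/
theorem isPGroup_hom {A : Type*} [Group A] {p : ℕ} [Fact p.Prime] :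
    IsPGroup p (A →* Multiplicative (ZMod p)) :=
  fun χ => ⟨1, by rw [pow_one]; exact hom_pow_prime_eq_one χ⟩

section

variable {G : Type*} [Group G] {p : ℕ}

/-- Invariance of a hom on the commutator subgroup under conjugation by `G`. -/
def IsInv (χ : ↥(commutator G) →* Multiplicative (ZMod p)) : Prop :=
  ∀ (x : G) (c : ↥(commutator G)),
    χ ⟨x * c * x⁻¹, (inferInstance : (commutator G).Normal).conj_mem c c.2 x⟩ = χ c

/-- `χ` kills the derived subgroup of the kernel of `φ`. -/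
def Kills (φ : G →* Multiplicative (ZMod p))
    (χ : ↥(commutator G) →* Multiplicative (ZMod p)) : Prop :=
  ∀ c : ↥(commutator G), (c : G) ∈ ⁅φ.ker, φ.ker⁆ → χ c = 1

/-- The group of invariant homs killing the derived subgroup of `ker φ`. -/
def killSubgroup (φ : G →* Multiplicative (ZMod p)) :
    Subgroup (↥(commutator G) →* Multiplicative (ZMod p)) where
  carrier := {χ | IsInv χ ∧ Kills φ χ}
  mul_mem' := by
    rintro a b ⟨ha1, ha2⟩ ⟨hb1, hb2⟩
    refine ⟨fun x c => ?_, fun c hc => ?_⟩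
    · rw [MonoidHom.mul_apply, MonoidHom.mul_apply, ha1 x c, hb1 x c]
    · rw [MonoidHom.mul_apply, ha2 c hc, hb2 c hc, one_mul]
  one_mem' := ⟨fun _ _ => rfl, fun _ _ => rfl⟩
  inv_mem' := by
    rintro a ⟨ha1, ha2⟩
    refine ⟨fun x c => ?_, fun c hc => ?_⟩
    · rw [MonoidHom.inv_apply, MonoidHom.inv_apply, ha1 x c]
    · rw [MonoidHom.inv_apply, ha2 c hc, inv_one]

theorem mem_killSubgroup (φ : G →* Multiplicative (ZMod p))
    (χ : ↥(commutator G) →* Multiplicative (ZMod p)) :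
    χ ∈ killSubgroup φ ↔ IsInv χ ∧ Kills φ χ := Iff.rfl

theorem card_killSubgroup_eq_one (φ : G →* Multiplicative (ZMod p))
    (hφ : ⁅φ.ker, φ.ker⁆ = commutator G) : Nat.card (killSubgroup φ) = 1 := by
  rw [Subgroup.card_eq_one, eq_bot_iff]
  rintro χ ⟨-, h2⟩
  rw [Subgroup.mem_bot]
  ext c
  refine h2 c ?_
  rw [hφ]
  exact c.2

theorem dvd_card_killSubgroup [Finite G] [Fact p.Prime] (hG : IsPGroup p G)
    (φ : G →* Multiplicative (ZMod p))
    (hφ : ⁅φ.ker, φ.ker⁆ ≠ commutator G) : p ∣ Nat.card (killSubgroup φ) := by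
  obtain ⟨χ, h1, h2, h3⟩ := Cfsg.Agent.Lib.Helper44.VL.exists_invariant_hom hG φ.ker inferInstance hφ
  rcases (isPGroup_hom.to_subgroup (killSubgroup φ)).card_eq_or_dvd with h | h
  · exfalso
    rw [Subgroup.card_eq_one] at h
    have hmem : χ ∈ killSubgroup φ := ⟨h1, h3⟩
    rw [h, Subgroup.mem_bot] at hmem
    exact h2 hmem
  · exact h

end

/-- Lemma LA: if `M` of index `p` has `M' = G'` and `G` is not cyclic, another subgroup `L` of
index `p` has `L' = G'`. -/
theorem exists_other_of_commutator_eq {G : Type*} [Group G] [Finite G] {p : ℕ} [Fact p.Prime]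
    (hG : IsPGroup p G) (M : Subgroup G) (hM : M.index = p)
    (heq : ⁅M, M⁆ = commutator G) (hnc : ¬ IsCyclic G) :
    ∃ L : Subgroup G, L.index = p ∧ L ≠ M ∧ ⁅L, L⁆ = commutator G := by
  classical
  have hp : p.Prime := Fact.out
  obtain ⟨g, hg⟩ : ∃ g, g ∉ M := by
    by_contra hcon
    have : M = ⊤ := eq_top_iff.mpr (fun x _ => by_contra (fun hx => hcon ⟨x, hx⟩))
    rw [this, index_top] at hM
    exact hp.one_lt.ne hM
  obtain ⟨φM, hφMker, hφMg⟩ := Cfsg.Agent.Lib.Helper76.VL.exists_hom_of_index_prime hG M hM g hg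
  have : Finite (G →* Multiplicative (ZMod p)) := finite_monoidHom
  have : Finite (↥(commutator G) →* Multiplicative (ZMod p)) := finite_monoidHom
  let _ : Fintype (G →* Multiplicative (ZMod p)) := Fintype.ofFinite _
  let _ : Fintype (↥(commutator G) →* Multiplicative (ZMod p)) := Fintype.ofFinite _
  set Φ : Finset (G →* Multiplicative (ZMod p)) :=
    Finset.univ.filter (fun φ => φ g = Multiplicative.ofAdd 1) with hΦ
  set Xs : Finset (↥(commutator G) →* Multiplicative (ZMod p)) :=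
    Finset.univ.filter (fun χ => IsInv χ) with hXs
  -- the double count
  have hdc := Finset.sum_card_bipartiteAbove_eq_sum_card_bipartiteBelow
    (r := fun (φ : G →* Multiplicative (ZMod p))
      (χ : ↥(commutator G) →* Multiplicative (ZMod p)) => Kills φ χ) (s := Φ) (t := Xs)
  -- right-hand side divisible by p
  have hR : p ∣ ∑ χ ∈ Xs, (Finset.bipartiteBelow (fun (φ : G →* Multiplicative (ZMod p))
      (χ : ↥(commutator G) →* Multiplicative (ZMod p)) => Kills φ χ) Φ χ).card := by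
    refine Finset.dvd_sum (fun χ hχ => ?_)
    have hχi : IsInv χ := (Finset.mem_filter.mp hχ).2
    by_cases h1 : χ = 1
    · have : Finset.bipartiteBelow (fun (φ : G →* Multiplicative (ZMod p))
          (χ : ↥(commutator G) →* Multiplicative (ZMod p)) => Kills φ χ) Φ χ = Φ := by
        rw [Finset.bipartiteBelow, Finset.filter_eq_self]
        intro φ _ c _
        rw [h1]; rfl
      rw [this]
      have h2 := Cfsg.Agent.Lib.Helper76.VL.dvd_card_homs hG hnc g ⟨φM, hφMg⟩
      rwa [Nat.subtype_card Φ (fun φ => by rw [hΦ, Finset.mem_filter]; simp)] at h2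
    · have h2 := Cfsg.Agent.Lib.Helper1.VL.dvd_card_homs_kill χ hχi h1 g
      rwa [Nat.subtype_card (Finset.bipartiteBelow (fun (φ : G →* Multiplicative (ZMod p))
          (χ : ↥(commutator G) →* Multiplicative (ZMod p)) => Kills φ χ) Φ χ)
          (fun φ => by
            rw [Finset.bipartiteBelow, hΦ, Finset.mem_filter, Finset.mem_filter]
            simp [Kills])] at h2
  rw [← hdc] at hR
  -- left-hand side
  have hL : ∀ φ ∈ Φ, (Finset.bipartiteAbove (fun (φ : G →* Multiplicative (ZMod p))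
      (χ : ↥(commutator G) →* Multiplicative (ZMod p)) => Kills φ χ) Xs φ).card
      = Nat.card (killSubgroup φ) := by
    intro φ _
    symm
    refine Nat.subtype_card _ (fun χ => ?_)
    rw [Finset.bipartiteAbove, hXs, Finset.mem_filter, Finset.mem_filter, mem_killSubgroup]
    simp
  rw [Finset.sum_congr rfl hL] at hR
  rw [← Finset.sum_filter_add_sum_filter_not Φ (fun φ => ⁅φ.ker, φ.ker⁆ = commutator G)] at hR
  have hbad : p ∣ ∑ φ ∈ Φ with ¬ ⁅φ.ker, φ.ker⁆ = commutator G, Nat.card (killSubgroup φ) :=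
    Finset.dvd_sum (fun φ hφ => dvd_card_killSubgroup hG φ (Finset.mem_filter.mp hφ).2)
  have hgood : p ∣ ∑ φ ∈ Φ with ⁅φ.ker, φ.ker⁆ = commutator G, Nat.card (killSubgroup φ) :=
    (Nat.dvd_add_left hbad).mp hR
  rw [Finset.sum_congr rfl (fun φ hφ => card_killSubgroup_eq_one φ (Finset.mem_filter.mp hφ).2),
    ← Finset.card_eq_sum_ones] at hgood
  have hφMmem : φM ∈ Φ.filter (fun φ => ⁅φ.ker, φ.ker⁆ = commutator G) := by
    rw [Finset.mem_filter, hΦ, Finset.mem_filter]
    exact ⟨⟨Finset.mem_univ _, hφMg⟩, by rw [hφMker]; exact heq⟩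
  have hpos : 0 < (Φ.filter (fun φ => ⁅φ.ker, φ.ker⁆ = commutator G)).card :=
    Finset.card_pos.mpr ⟨φM, hφMmem⟩
  have hlt : 1 < (Φ.filter (fun φ => ⁅φ.ker, φ.ker⁆ = commutator G)).card :=
    lt_of_lt_of_le hp.one_lt (Nat.le_of_dvd hpos hgood)
  obtain ⟨φ, hφmem, hφne⟩ := Finset.exists_mem_ne hlt φM
  rw [Finset.mem_filter, hΦ, Finset.mem_filter] at hφmem
  obtain ⟨⟨-, hφg⟩, hφc⟩ := hφmem
  refine ⟨φ.ker, Cfsg.Agent.Lib.Helper76.VL.index_ker_of_apply_eq φ g hφg, ?_, hφc⟩
  intro hker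
  apply hφne
  -- φ and φM agree
  ext x
  obtain ⟨k, hk⟩ : ∃ k : ℕ, φM x = Multiplicative.ofAdd (k : ZMod p) :=
    ⟨(Multiplicative.toAdd (φM x)).val, by simp⟩
  have hxg : x * (g ^ k)⁻¹ ∈ φM.ker := by
    rw [MonoidHom.mem_ker, map_mul, map_inv, map_pow, hk, hφMg, ← ofAdd_nsmul]
    simp
  have hxg' : x * (g ^ k)⁻¹ ∈ φ.ker := by rw [hker, ← hφMker]; exact hxg
  rw [MonoidHom.mem_ker, map_mul, map_inv, map_pow, mul_inv_eq_one] at hxg hxg'
  rw [hxg, hxg', hφg, hφMg]

end Cfsg.Agent.Lib.Helper35.VL
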