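import Mathlib
import Cfsg.Agent.Lib.Helper35.VLOther
import Cfsg.Agent.Lib.Helper50.VLMT
import Cfsg.Agent.Lib.Helper50.VLCaseA

set_option autoImplicit false

namespace Cfsg.Agent.Lib.Helper35.VL

universe u

open Subgroup

section basics

variable {G : Type*} [Group G] [Finite G] {p : ℕ} [Fact p.Prime]

/-- A subgroup of index `p` of a finite `p`-group is normal. -/
theorem normal_of_index_eq_prime (hG : IsPGroup p G) (L : Subgroup G) (hL : L.index = p) :
    L.Normal := by
  have hp : p.Prime := Fact.out
  obtain ⟨n, hn⟩ := hG.exists_card_eq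
  have hn0 : n ≠ 0 := by
    rintro rfl
    have h1 : L.index ∣ Nat.card G := L.index_dvd_card
    rw [hL, hn, pow_zero] at h1
    exact hp.one_lt.ne' (Nat.dvd_one.mp h1)
  exact normal_of_index_eq_minFac_card (by rw [hL, hn, hp.pow_minFac hn0])

/-- Two comparable subgroups of the same prime index are equal. -/
theorem eq_of_le_of_index_eq_prime (L M : Subgroup G) (hL : L.index = p) (hM : M.index = p)
    (hle : L ≤ M) : L = M := by
  have hp : p.Prime := Fact.out
  have h := relIndex_mul_index hle
  rw [hL, hM] at h
  have h1 : L.relIndex M = 1 := by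
    have : L.relIndex M * p = 1 * p := by rw [h, one_mul]
    exact Nat.eq_of_mul_eq_mul_right hp.pos this
  exact le_antisymm hle (relIndex_eq_one.mp h1)

/-- For distinct subgroups of index `p` in a `p`-group, the relative index is `p`. -/
theorem relIndex_eq_prime (hG : IsPGroup p G) (L M : Subgroup G) (hL : L.index = p)
    (hM : M.index = p) (hne : L ≠ M) : M.relIndex L = p := by
  have hp : p.Prime := Fact.out
  haveI := normal_of_index_eq_prime hG M hM
  have h := relIndex_dvd_index_of_normal M L
  rw [hM] at h
  rcases (Nat.dvd_prime hp).mp h with h1 | h1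
  · exact absurd (eq_of_le_of_index_eq_prime L M hL hM (relIndex_eq_one.mp h1)) hne
  · exact h1

/-- Two distinct subgroups of index `p` do not cover the group. -/
theorem exists_not_mem_of_index_eq_prime (L M : Subgroup G) (hL : L.index = p)
    (hM : M.index = p) (hne : L ≠ M) : ∃ h : G, h ∉ L ∧ h ∉ M := by
  have h1 : ¬ L ≤ M := fun hle => hne (eq_of_le_of_index_eq_prime L M hL hM hle)
  have h2 : ¬ M ≤ L := fun hle => hne (eq_of_le_of_index_eq_prime M L hM hL hle).symm
  obtain ⟨a, haL, haM⟩ := SetLike.not_le_iff_exists.mp h1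
  obtain ⟨b, hbM, hbL⟩ := SetLike.not_le_iff_exists.mp h2
  refine ⟨a * b, fun h => hbL ?_, fun h => haM ?_⟩
  · have := L.mul_mem (L.inv_mem haL) h
    rwa [inv_mul_cancel_left] at this
  · have := M.mul_mem h (M.inv_mem hbM)
    rwa [mul_inv_cancel_right] at this

/-- The centralizer of an element inside a subgroup. -/
theorem centralizer_singleton_subtype (L : Subgroup G) (y : ↥L) :
    centralizer ({y} : Set ↥L) = (centralizer ({(y : G)} : Set G)).subgroupOf L := by
  ext z
  rw [mem_subgroupOf, mem_centralizer_iff, mem_centralizer_iff]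
  constructor
  · intro h x hx
    rw [Set.mem_singleton_iff] at hx
    subst hx
    have := h y (Set.mem_singleton _)
    exact congrArg Subtype.val this
  · intro h x hx
    rw [Set.mem_singleton_iff] at hx
    subst hx
    exact Subtype.ext (h (x : G) (Set.mem_singleton _))

theorem index_centralizer_subtype (L : Subgroup G) (y : ↥L) :
    (centralizer ({y} : Set ↥L)).index = (centralizer ({(y : G)} : Set G)).relIndex L := by
  rw [centralizer_singleton_subtype]; rfl

theorem card_commutator_subtype (L : Subgroup G) :
    Nat.card (commutator ↥L) = Nat.card (⁅L, L⁆ : Subgroup G) := by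
  rw [← map_subtype_commutator, card_map_of_injective L.subtype_injective]

theorem relIndex_le_index' (H L : Subgroup G) : H.relIndex L ≤ H.index := by
  have h := relIndex_le_of_le_right (H := H) (le_top : L ≤ ⊤)
    (by rw [relIndex_top_right]; exact index_ne_zero_of_finite)
  rwa [relIndex_top_right] at h

end basics

/-- Coset form of the Vaughan-Lee breadth bound: if every element outside a subgroup `M` of
index `p` has at most `p ^ b` conjugates, then `|G'| ≤ p ^ (b (b + 1) / 2)`. -/
theorem coset_bound {p : ℕ} [Fact p.Prime] :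
    ∀ (n : ℕ) (G : Type u) [Group G] [Finite G], Nat.card G = n → IsPGroup p G →
      ∀ (M : Subgroup G), M.index = p → ∀ b : ℕ,
        (∀ x : G, x ∉ M → (centralizer ({x} : Set G)).index ≤ p ^ b) →
        Nat.card (commutator G) ≤ p ^ (b * (b + 1) / 2) := by
  intro n
  induction n using Nat.strong_induction_on with
  | _ n ih =>
  intro G _ _ hn hG M hM b hb
  have hp : p.Prime := Fact.out
  by_cases hcase : ⁅M, M⁆ = commutator G
  · -- Case B
    by_cases hcyc : IsCyclic G
    · have hbot : commutator G = ⊥ := by
        rw [commutator_def, commutator_eq_bot_iff_le_centralizer]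
        intro x _
        rw [mem_centralizer_iff]
        intro y _
        obtain ⟨g, hg⟩ := hcyc.exists_generator
        obtain ⟨i, rfl⟩ := Subgroup.mem_zpowers_iff.mp (hg x)
        obtain ⟨j, rfl⟩ := Subgroup.mem_zpowers_iff.mp (hg y)
        rw [← zpow_add, ← zpow_add, add_comm]
      rw [hbot, Subgroup.card_bot]
      exact Nat.one_le_pow _ _ hp.pos
    · obtain ⟨L, hL, hLM, hLc⟩ := exists_other_of_commutator_eq hG M hM hcase hcyc
      have hlt : Nat.card ↥L < n := by
        rw [← hn, ← L.index_mul_card, hL]
        exact (lt_mul_iff_one_lt_left Nat.card_pos).mpr hp.one_lt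
      have hidx : (M.subgroupOf L).index = p := relIndex_eq_prime hG L M hL hM hLM
      have key := ih (Nat.card ↥L) hlt ↥L rfl (hG.to_subgroup L) (M.subgroupOf L) hidx b
        (by
          intro y hy
          rw [index_centralizer_subtype]
          refine le_trans (relIndex_le_index' _ _) (hb (y : G) ?_)
          intro hyM
          exact hy (mem_subgroupOf.mpr hyM))
      rwa [card_commutator_subtype, hLc] at key
  · -- Case A
    obtain ⟨L, hL, hLM, hLcent⟩ := Cfsg.Agent.Lib.Helper50.VL.exists_good_of_commutator_ne hG M hM hcase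
    have hLn : L.Normal := normal_of_index_eq_prime hG L hL
    have hlt : Nat.card ↥L < n := by
      rw [← hn, ← L.index_mul_card, hL]
      exact (lt_mul_iff_one_lt_left Nat.card_pos).mpr hp.one_lt
    have hidx : (M.subgroupOf L).index = p := relIndex_eq_prime hG L M hL hM hLM
    -- relative index times p
    have hrel : ∀ y ∈ L, y ∉ M →
        (centralizer ({y} : Set G)).relIndex L * p = (centralizer ({y} : Set G)).index := by
      intro y hyL hyM
      have := relIndex_mul_index (hLcent y hyL hyM)
      rwa [hL] at this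
    -- b is positive
    have hb0 : b ≠ 0 := by
      rintro rfl
      have h1 : ¬ L ≤ M := fun hle => hLM (eq_of_le_of_index_eq_prime L M hL hM hle)
      obtain ⟨y, hyL, hyM⟩ := SetLike.not_le_iff_exists.mp h1
      have h2 := hb y hyM
      rw [pow_zero, ← hrel y hyL hyM] at h2
      have h3 : (centralizer ({y} : Set G)).relIndex L ≠ 0 := by
        intro h0
        have := hrel y hyL hyM
        rw [h0, zero_mul] at this
        exact index_ne_zero_of_finite this.symm
      have h4 : 1 * p ≤ (centralizer ({y} : Set G)).relIndex L * p :=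
        Nat.mul_le_mul_right p (Nat.one_le_iff_ne_zero.mpr h3)
      rw [one_mul] at h4
      exact absurd (le_trans h4 h2) (not_le.mpr hp.one_lt)
    obtain ⟨b', rfl⟩ := Nat.exists_eq_succ_of_ne_zero hb0
    have key := ih (Nat.card ↥L) hlt ↥L rfl (hG.to_subgroup L) (M.subgroupOf L) hidx b'
      (by
        intro y hy
        rw [index_centralizer_subtype]
        have hyM : (y : G) ∉ M := fun hyM => hy (mem_subgroupOf.mpr hyM)
        have h1 := hb (y : G) hyM
        rw [← hrel (y : G) y.2 hyM, pow_succ] at h1
        exact Nat.le_of_mul_le_mul_right h1 hp.pos)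
    rw [card_commutator_subtype] at key
    obtain ⟨h, hhL, hhM⟩ := exists_not_mem_of_index_eq_prime L M hL hM hLM
    have hmt := Cfsg.Agent.Lib.Helper50.VL.card_commutator_le_mul L hL hLn h hhL
    have hfin : Nat.card (commutator G) ≤ p ^ (b' * (b' + 1) / 2) * p ^ (b' + 1) :=
      le_trans hmt (Nat.mul_le_mul key (hb h hhM))
    have harith : (b' + 1) * (b' + 1 + 1) / 2 = b' * (b' + 1) / 2 + (b' + 1) := by
      have : (b' + 1) * (b' + 1 + 1) = b' * (b' + 1) + 2 * (b' + 1) := by ring
      rw [this, Nat.add_mul_div_left _ _ (by norm_num : 0 < 2)]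
    rw [Nat.succ_eq_add_one, harith, pow_add]
    exact hfin

/-- Vaughan-Lee: a finite `p`-group of breadth at most `b` has `|G'| ≤ p ^ (b (b + 1) / 2)`. -/
theorem breadth_bound {G : Type u} [Group G] [Finite G] {p : ℕ} [Fact p.Prime]
    (hG : IsPGroup p G) (b : ℕ)
    (hb : ∀ x : G, (centralizer ({x} : Set G)).index ≤ p ^ b) :
    Nat.card (commutator G) ≤ p ^ (b * (b + 1) / 2) := by
  have hp : p.Prime := Fact.out
  obtain ⟨k, hk⟩ := hG.exists_card_eq
  rcases Nat.eq_zero_or_pos k with rfl | hkpos
  · rw [pow_zero] at hk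
    have h1 : Nat.card (commutator G) ≤ Nat.card G := Subgroup.card_le_card_group _
    rw [hk] at h1
    exact le_trans h1 (Nat.one_le_pow _ _ hp.pos)
  · obtain ⟨k', rfl⟩ := Nat.exists_eq_succ_of_ne_zero hkpos.ne'
    obtain ⟨K, hK⟩ := Sylow.exists_subgroup_card_pow_prime (G := G) p (n := k')
      (by rw [hk]; exact pow_dvd_pow p (Nat.le_succ k'))
    have hidx : K.index = p := by
      have h1 := K.index_mul_card
      rw [hK, hk, pow_succ'] at h1
      exact Nat.eq_of_mul_eq_mul_right (pow_pos hp.pos k') h1
    exact coset_bound (Nat.card G) G rfl hG K hidx b (fun x _ => hb x)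

end Cfsg.Agent.Lib.Helper35.VL
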